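import Cfsg.Prelude.Def_Transfer
import Mathlib

/-!
# `O^p(G)` and normal `p`-complements

Basic facts about `Cfsg.pResidual` and `Cfsg.HasNormalPComplement`.
-/

set_option autoImplicit false

open Subgroup

namespace CfsgLib.Transfer

variable {G : Type*} [Group G] {p : ℕ}

theorem coprime_orderOf_iff [hp : Fact p.Prime] {x : G} :
    Nat.Coprime (orderOf x) p ↔ ¬ p ∣ orderOf x := by
  rw [Nat.coprime_comm, hp.out.coprime_iff_not_dvd]

/-- Every element of a finite group is the product of a commuting `p`-element and `p'`-element,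
both of them powers of it. -/
theorem exists_pPart_mul [Finite G] [hp : Fact p.Prime] (x : G) :
    ∃ a ∈ zpowers x, ∃ b ∈ zpowers x,
      a * b = x ∧ (∃ k, orderOf a ∣ p ^ k) ∧ Nat.Coprime (orderOf b) p := by
  have hn : orderOf x ≠ 0 := (orderOf_pos x).ne'
  obtain ⟨k, m, hm, hkm⟩ := Nat.exists_eq_pow_mul_and_not_dvd hn p hp.out.ne_one
  have hc : Nat.Coprime (p ^ k) m :=
    Nat.Coprime.pow_left k ((hp.out.coprime_iff_not_dvd).mpr hm)
  have hb : ((p ^ k : ℕ) : ℤ) * Nat.gcdA (p ^ k) m + (m : ℤ) * Nat.gcdB (p ^ k) m = 1 := by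
    have := Nat.gcd_eq_gcd_ab (p ^ k) m
    rw [hc.gcd_eq_one] at this
    exact_mod_cast this.symm
  refine ⟨x ^ ((m : ℤ) * Nat.gcdB (p ^ k) m), zpow_mem_zpowers _ _,
    x ^ (((p ^ k : ℕ) : ℤ) * Nat.gcdA (p ^ k) m), zpow_mem_zpowers _ _, ?_, ⟨k, ?_⟩, ?_⟩
  · rw [← zpow_add, add_comm, hb, zpow_one]
  · rw [orderOf_dvd_iff_pow_eq_one, ← zpow_natCast, ← zpow_mul,
      show (m : ℤ) * Nat.gcdB (p ^ k) m * ((p ^ k : ℕ) : ℤ)
        = (orderOf x : ℤ) * Nat.gcdB (p ^ k) m by rw [hkm]; push_cast; ring,
      zpow_mul, zpow_natCast, pow_orderOf_eq_one, one_zpow]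
  · have h1 : orderOf (x ^ (((p ^ k : ℕ) : ℤ) * Nat.gcdA (p ^ k) m)) ∣ m := by
      rw [orderOf_dvd_iff_pow_eq_one, ← zpow_natCast, ← zpow_mul,
        show ((p ^ k : ℕ) : ℤ) * Nat.gcdA (p ^ k) m * (m : ℤ)
          = (orderOf x : ℤ) * Nat.gcdA (p ^ k) m by rw [hkm]; push_cast; ring,
        zpow_mul, zpow_natCast, pow_orderOf_eq_one, one_zpow]
    exact Nat.Coprime.coprime_dvd_left h1 ((hp.out.coprime_iff_not_dvd).mpr hm).symm

theorem eq_one_of_coprime_orderOf {K : Type*} [Group K] [hp : Fact p.Prime] (hK : IsPGroup p K)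
    {x : K} (hx : Nat.Coprime (orderOf x) p) : x = 1 := by
  by_contra h
  exact coprime_orderOf_iff.mp hx (hK.dvd_orderOf h)

theorem mem_pResidual_of_coprime {g : G} (hg : Nat.Coprime (orderOf g) p) :
    g ∈ Cfsg.pResidual p G :=
  subset_closure hg

theorem map_pResidual_le {H : Type*} [Group H] (f : G →* H) :
    (Cfsg.pResidual p G).map f ≤ Cfsg.pResidual p H := by
  rw [Cfsg.pResidual, MonoidHom.map_closure, closure_le]
  rintro _ ⟨g, hg, rfl⟩
  exact mem_pResidual_of_coprime (Nat.Coprime.coprime_dvd_left (orderOf_map_dvd f g) hg)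

theorem pResidual_characteristic : (Cfsg.pResidual p G).Characteristic := by
  rw [characteristic_iff_map_le]
  exact fun e => map_pResidual_le e.toMonoidHom

theorem pResidual_normal : (Cfsg.pResidual p G).Normal :=
  haveI := pResidual_characteristic (G := G) (p := p)
  inferInstance

theorem isPGroup_quotient_pResidual [Finite G] [hp : Fact p.Prime]
    [(Cfsg.pResidual p G).Normal] : IsPGroup p (G ⧸ Cfsg.pResidual p G) := by
  intro q
  obtain ⟨g, rfl⟩ := QuotientGroup.mk'_surjective (Cfsg.pResidual p G) q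
  obtain ⟨a, -, b, -, hab, ⟨k, hk⟩, hb⟩ := exists_pPart_mul (p := p) g
  refine ⟨k, ?_⟩
  have hb1 : QuotientGroup.mk' (Cfsg.pResidual p G) b = 1 :=
    (QuotientGroup.eq_one_iff b).mpr (mem_pResidual_of_coprime hb)
  rw [← hab, map_mul, hb1, mul_one, ← map_pow, orderOf_dvd_iff_pow_eq_one.mp hk, map_one]

theorem exists_index_pResidual [Finite G] [hp : Fact p.Prime] :
    ∃ k, (Cfsg.pResidual p G).index = p ^ k := by
  have := pResidual_normal (G := G) (p := p)
  exact IsPGroup.iff_card.mp (isPGroup_quotient_pResidual (G := G) (p := p))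

/-- An element of order prime to `p` lies in every normal subgroup of `p`-power index. -/
theorem mem_of_coprime_orderOf_of_index [Finite G] [hp : Fact p.Prime] {N : Subgroup G} [N.Normal]
    (hN : ∃ k, N.index = p ^ k) {g : G} (hg : Nat.Coprime (orderOf g) p) : g ∈ N := by
  have hq : IsPGroup p (G ⧸ N) := IsPGroup.iff_card.mpr hN
  rw [← QuotientGroup.eq_one_iff]
  exact eq_one_of_coprime_orderOf hq
    (Nat.Coprime.coprime_dvd_left (orderOf_map_dvd (QuotientGroup.mk' N) g) hg)

theorem pResidual_le [Finite G] [Fact p.Prime] {N : Subgroup G} [N.Normal]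
    (hN : ∃ k, N.index = p ^ k) : Cfsg.pResidual p G ≤ N :=
  (closure_le _).mpr fun _ hg => mem_of_coprime_orderOf_of_index hN hg

theorem pResidual_map_of_surjective [Finite G] [hp : Fact p.Prime] {H : Type*} [Group H]
    (f : G →* H) (hf : Function.Surjective f) :
    (Cfsg.pResidual p G).map f = Cfsg.pResidual p H := by
  have := Finite.of_surjective f hf
  refine le_antisymm (map_pResidual_le f) ?_
  have hn := pResidual_normal (G := G) (p := p)
  have := hn.map f hf
  refine pResidual_le ?_
  obtain ⟨k, hk⟩ := exists_index_pResidual (G := G) (p := p)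
  obtain ⟨j, -, hj⟩ := (Nat.dvd_prime_pow hp.out).mp (hk ▸ index_map_dvd _ hf)
  exact ⟨j, hj⟩

theorem sup_pResidual_eq_top [Finite G] [hp : Fact p.Prime] (P : Sylow p G) :
    (P : Subgroup G) ⊔ Cfsg.pResidual p G = ⊤ := by
  obtain ⟨k, hk⟩ := exists_index_pResidual (G := G) (p := p)
  rw [← index_eq_one]
  have h2 : ((P : Subgroup G) ⊔ Cfsg.pResidual p G).index ∣ p ^ k :=
    hk ▸ index_dvd_of_le le_sup_right
  obtain ⟨j, -, hj⟩ := (Nat.dvd_prime_pow hp.out).mp h2
  rcases j with _ | j
  · simpa using hj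
  · exact (P.not_dvd_index ((dvd_pow_self p j.succ_ne_zero).trans
      (hj ▸ index_dvd_of_le le_sup_left))).elim

/-- The intersection of a normal subgroup with a Sylow subgroup is a Sylow subgroup of it. -/
theorem not_dvd_index_subgroupOf_of_normal [Finite G] [hp : Fact p.Prime] (P : Sylow p G)
    (N : Subgroup G) [N.Normal] : ¬ p ∣ ((P : Subgroup G).subgroupOf N).index := by
  intro h
  refine P.not_dvd_index (h.trans ?_)
  have key : (P : Subgroup G).relIndex N = (P : Subgroup G).relIndex ((P : Subgroup G) ⊔ N) := by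
    have e1 := relIndex_mul_relIndex ((P : Subgroup G) ⊓ N) N ((P : Subgroup G) ⊔ N)
      inf_le_right le_sup_right
    have e2 := relIndex_mul_relIndex ((P : Subgroup G) ⊓ N) P ((P : Subgroup G) ⊔ N)
      inf_le_left le_sup_left
    rw [inf_relIndex_right] at e1
    rw [inf_relIndex_left, ← e1, relIndex_sup_right, mul_comm (N.relIndex P)] at e2
    exact (Nat.eq_of_mul_eq_mul_right (Nat.pos_of_ne_zero (index_ne_zero_of_finite)) e2).symm
  change (P : Subgroup G).relIndex N ∣ (P : Subgroup G).index
  rw [key]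
  exact Dvd.intro _ (relIndex_mul_index le_sup_left)

theorem card_eq_of_isComplement' [Finite G] [hp : Fact p.Prime] (P : Sylow p G) {N : Subgroup G}
    (h : N.IsComplement' (P : Subgroup G)) : ¬ p ∣ Nat.card N :=
  h.index_eq_card ▸ P.not_dvd_index

theorem index_pow_of_isComplement' [Finite G] [hp : Fact p.Prime] (P : Sylow p G) {N : Subgroup G}
    (h : N.IsComplement' (P : Subgroup G)) : ∃ k, N.index = p ^ k := by
  obtain ⟨k, hk⟩ := IsPGroup.iff_card.mp P.2
  exact ⟨k, by rw [h.symm.index_eq_card, hk]⟩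

theorem isComplement'_of_not_dvd_card [Finite G] [hp : Fact p.Prime] (P : Sylow p G)
    {N : Subgroup G} (h1 : ¬ p ∣ Nat.card N) (h2 : ∃ k, N.index = p ^ k) :
    N.IsComplement' (P : Subgroup G) := by
  obtain ⟨k, hk⟩ := h2
  have hP : Nat.card P = p ^ k := by
    obtain ⟨a, ha⟩ := IsPGroup.iff_card.mp P.2
    have e1 := N.card_mul_index
    have e2 := (P : Subgroup G).card_mul_index
    rw [hk] at e1
    rw [ha] at e2 ⊢
    have d1 : p ^ a ∣ p ^ k :=
      ((Nat.Coprime.pow_left a ((hp.out.coprime_iff_not_dvd).mpr h1)).dvd_mul_left).mp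
        ⟨_, e1.trans e2.symm⟩
    have d2 : p ^ k ∣ p ^ a :=
      ((Nat.Coprime.pow_left k ((hp.out.coprime_iff_not_dvd).mpr P.not_dvd_index)).dvd_mul_right).mp
        ⟨Nat.card N, by rw [mul_comm (p ^ k), e1, e2]⟩
    exact Nat.dvd_antisymm d1 d2
  refine isComplement'_of_coprime ?_ ?_
  · rw [hP, ← hk, N.card_mul_index]
  · rw [hP]
    exact (Nat.Coprime.pow_left k ((hp.out.coprime_iff_not_dvd).mpr h1)).symm

/-- A group has a normal `p`-complement iff it has a normal subgroup of order prime to `p` and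
`p`-power index. -/
theorem hasNormalPComplement_iff_exists [Finite G] [hp : Fact p.Prime] :
    Cfsg.HasNormalPComplement p G ↔
      ∃ N : Subgroup G, N.Normal ∧ ¬ p ∣ Nat.card N ∧ ∃ k, N.index = p ^ k := by
  constructor
  · rintro ⟨P, N, hN, hc⟩
    exact ⟨N, hN, card_eq_of_isComplement' P hc, index_pow_of_isComplement' P hc⟩
  · rintro ⟨N, hN, h1, h2⟩
    obtain ⟨P⟩ : Nonempty (Sylow p G) := inferInstance
    exact ⟨P, N, hN, isComplement'_of_not_dvd_card P h1 h2⟩

theorem hasNormalPComplement_iff_pResidual [Finite G] [hp : Fact p.Prime] :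
    Cfsg.HasNormalPComplement p G ↔ ¬ p ∣ Nat.card (Cfsg.pResidual p G) := by
  rw [hasNormalPComplement_iff_exists]
  constructor
  · rintro ⟨N, hN, h1, h2⟩ h
    exact h1 (h.trans (card_dvd_of_le (pResidual_le h2)))
  · exact fun h => ⟨_, pResidual_normal, h, exists_index_pResidual⟩

/-- A normal `p`-complement is `O^p(G)`. -/
theorem eq_pResidual [Finite G] [hp : Fact p.Prime] {N : Subgroup G} [N.Normal]
    (h1 : ¬ p ∣ Nat.card N) (h2 : ∃ k, N.index = p ^ k) : N = Cfsg.pResidual p G := by
  refine le_antisymm (fun x hx => mem_pResidual_of_coprime ?_) (pResidual_le h2)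
  exact coprime_orderOf_iff.mpr fun h => h1 (h.trans (N.orderOf_dvd_natCard hx))

theorem eq_pResidual_of_isComplement' [Finite G] [hp : Fact p.Prime] (P : Sylow p G)
    {N : Subgroup G} [N.Normal] (h : N.IsComplement' (P : Subgroup G)) :
    N = Cfsg.pResidual p G :=
  eq_pResidual (card_eq_of_isComplement' P h) (index_pow_of_isComplement' P h)

theorem isComplement'_pResidual [Finite G] [hp : Fact p.Prime]
    (h : Cfsg.HasNormalPComplement p G) (P : Sylow p G) :
    (Cfsg.pResidual p G).IsComplement' (P : Subgroup G) :=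
  isComplement'_of_not_dvd_card P (hasNormalPComplement_iff_pResidual.mp h) exists_index_pResidual

theorem exists_normal_isComplement'_iff [Finite G] [hp : Fact p.Prime] (P : Sylow p G) :
    (∃ N : Subgroup G, N.Normal ∧ N.IsComplement' (P : Subgroup G)) ↔
      Cfsg.HasNormalPComplement p G :=
  ⟨fun ⟨N, h1, h2⟩ => ⟨P, N, h1, h2⟩,
    fun h => ⟨_, pResidual_normal, isComplement'_pResidual h P⟩⟩

theorem hasNormalPComplement_iff_inf_eq_bot [Finite G] [hp : Fact p.Prime] (P : Sylow p G) :
    Cfsg.HasNormalPComplement p G ↔ (P : Subgroup G) ⊓ Cfsg.pResidual p G = ⊥ := by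
  constructor
  · exact fun h => disjoint_iff.mp (isComplement'_pResidual h P).disjoint.symm
  · intro h
    rw [hasNormalPComplement_iff_pResidual]
    have := pResidual_normal (G := G) (p := p)
    intro hd
    refine not_dvd_index_subgroupOf_of_normal P (Cfsg.pResidual p G) ?_
    have : (P : Subgroup G).subgroupOf (Cfsg.pResidual p G) = ⊥ := by
      rw [subgroupOf_eq_bot, disjoint_iff, h]
    rw [this, index_bot]
    exact hd

/-- In a group with a normal `p`-complement, `O^p(G)` consists exactly of the `p'`-elements. -/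
theorem mem_pResidual_iff [Finite G] [hp : Fact p.Prime] (h : Cfsg.HasNormalPComplement p G)
    {x : G} : x ∈ Cfsg.pResidual p G ↔ Nat.Coprime (orderOf x) p := by
  refine ⟨fun hx => ?_, mem_pResidual_of_coprime⟩
  exact coprime_orderOf_iff.mpr fun hd =>
    hasNormalPComplement_iff_pResidual.mp h (hd.trans (orderOf_dvd_natCard _ hx))

theorem hasNormalPComplement_of_injective [Finite G] [hp : Fact p.Prime] {H : Type*} [Group H]
    (f : H →* G) (hf : Function.Injective f) (h : Cfsg.HasNormalPComplement p G) :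
    Cfsg.HasNormalPComplement p H := by
  have := Finite.of_injective f hf
  rw [hasNormalPComplement_iff_pResidual] at h ⊢
  intro hd
  apply h
  rw [← card_map_of_injective (K := Cfsg.pResidual p H) hf] at hd
  exact hd.trans (card_dvd_of_le (map_pResidual_le f))

theorem hasNormalPComplement_subgroup [Finite G] [Fact p.Prime]
    (h : Cfsg.HasNormalPComplement p G) (H : Subgroup G) : Cfsg.HasNormalPComplement p H :=
  hasNormalPComplement_of_injective H.subtype H.subtype_injective h

theorem hasNormalPComplement_of_le [Finite G] [Fact p.Prime] {H K : Subgroup G} (hHK : H ≤ K)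
    (h : Cfsg.HasNormalPComplement p K) : Cfsg.HasNormalPComplement p H :=
  hasNormalPComplement_of_injective (Subgroup.inclusion hHK) (inclusion_injective hHK) h

theorem hasNormalPComplement_of_surjective [Finite G] [hp : Fact p.Prime] {H : Type*} [Group H]
    (f : G →* H) (hf : Function.Surjective f) (h : Cfsg.HasNormalPComplement p G) :
    Cfsg.HasNormalPComplement p H := by
  have := Finite.of_surjective f hf
  rw [hasNormalPComplement_iff_pResidual] at h ⊢
  rw [← pResidual_map_of_surjective f hf]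
  exact fun hd => h (hd.trans (card_map_dvd _ f))

theorem hasNormalPComplement_quotient [Finite G] [Fact p.Prime]
    (h : Cfsg.HasNormalPComplement p G) (N : Subgroup G) [N.Normal] :
    Cfsg.HasNormalPComplement p (G ⧸ N) :=
  hasNormalPComplement_of_surjective (QuotientGroup.mk' N) (QuotientGroup.mk'_surjective N) h

theorem hasNormalPComplement_congr [Finite G] [Fact p.Prime] {H : Type*} [Group H] (e : G ≃* H) :
    Cfsg.HasNormalPComplement p G ↔ Cfsg.HasNormalPComplement p H := by
  have := Finite.of_equiv G e.toEquiv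
  exact ⟨hasNormalPComplement_of_surjective e.toMonoidHom e.surjective,
    hasNormalPComplement_of_surjective e.symm.toMonoidHom e.symm.surjective⟩

theorem hasNormalPComplement_of_isPGroup [Finite G] [hp : Fact p.Prime] (h : IsPGroup p G) :
    Cfsg.HasNormalPComplement p G := by
  refine hasNormalPComplement_iff_exists.mpr ⟨⊥, inferInstance, ?_, ?_⟩
  · simpa using hp.out.ne_one
  · rw [index_bot]
    exact IsPGroup.iff_card.mp h

theorem hasNormalPComplement_of_not_dvd [Finite G] [hp : Fact p.Prime] (h : ¬ p ∣ Nat.card G) :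
    Cfsg.HasNormalPComplement p G :=
  hasNormalPComplement_iff_pResidual.mpr fun hd => h (hd.trans (card_subgroup_dvd_card _))

/-- Burnside's transfer theorem in the `HasNormalPComplement` form. -/
theorem hasNormalPComplement_of_normalizer_le_centralizer [Finite G] [hp : Fact p.Prime]
    (P : Sylow p G)
    (hP : normalizer ((P : Subgroup G) : Set G) ≤ centralizer ((P : Subgroup G) : Set G)) :
    Cfsg.HasNormalPComplement p G :=
  ⟨P, (MonoidHom.transferSylow P hP).ker, inferInstance,
    MonoidHom.ker_transferSylow_isComplement' P hP⟩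

end CfsgLib.Transfer
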