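import Mathlib

/-!
# A quadratic element centralizes an abelian `p'`-group of operators it normalizes

For an odd prime `p`, let `u = 1 + N` with `N² = 0` normalize a commuting family of operators of
order prime to `p` on an elementary abelian `p`-group. Then `u` commutes with all of them.
-/

set_option autoImplicit false

namespace CfsgLib.Transfer

section RingLemma

variable {A : Type*} [Ring A] {p : ℕ}

/-- The ring generated by commuting elements fixed by `x ↦ x ^ (p ^ f)` is fixed by that map. -/
theorem pow_pow_eq_self_of_mem_subringClosure [hp : Fact p.Prime] (hchar : (p : A) = 0) (f : ℕ)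
    {S : Set A} (hS : ∀ x ∈ S, ∀ y ∈ S, x * y = y * x) (hfix : ∀ x ∈ S, x ^ p ^ f = x) :
    (∀ x ∈ Subring.closure S, ∀ y ∈ Subring.closure S, x * y = y * x) ∧
      ∀ x ∈ Subring.closure S, x ^ p ^ f = x := by
  let _ : CommRing (Subring.closure S) := Subring.closureCommRingOfComm hS
  have hcomm : ∀ x ∈ Subring.closure S, ∀ y ∈ Subring.closure S, x * y = y * x := fun x hx y hy =>
    congrArg Subtype.val (mul_comm (⟨x, hx⟩ : Subring.closure S) ⟨y, hy⟩)
  refine ⟨hcomm, fun x hx => ?_⟩
  rcases subsingleton_or_nontrivial A with h | h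
  · exact Subsingleton.elim _ _
  have : CharP A p := (CharP.charP_iff_prime_eq_zero hp.out).mpr hchar
  induction hx using Subring.closure_induction with
  | mem y hy => exact hfix y hy
  | zero => exact zero_pow (pow_ne_zero f hp.out.ne_zero)
  | one => exact one_pow _
  | add a b ha hb iha ihb =>
    rw [add_pow_char_pow_of_commute (p := p) (n := f) (show Commute a b from hcomm a ha b hb), iha, ihb]
  | neg a ha iha =>
    have h2 := add_pow_char_pow_of_commute (p := p) (n := f) (Commute.refl a).neg_right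
    rw [add_neg_cancel, zero_pow (pow_ne_zero f hp.out.ne_zero), iha] at h2
    exact (neg_eq_of_add_eq_zero_right h2.symm).symm
  | mul a b ha hb iha ihb =>
    rw [(show Commute a b from hcomm a ha b hb).mul_pow, iha, ihb]

/-- **Key lemma**: a square-zero perturbation of `1` normalizing a commutative semisimple family
of operators in odd characteristic commutes with it. -/
theorem commute_of_quadratic [hp : Fact p.Prime] (hp2 : p ≠ 2) (hchar : (p : A) = 0) {m : ℕ}
    (hm : Nat.Coprime p m) {S : Set A} (hS : ∀ x ∈ S, ∀ y ∈ S, x * y = y * x)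
    (hord : ∀ x ∈ S, x ^ m = 1) {N : A} (hN : N * N = 0)
    (hplus : ∀ x ∈ S, (1 + N) * x * (1 - N) ∈ S) (hminus : ∀ x ∈ S, (1 - N) * x * (1 + N) ∈ S) :
    ∀ x ∈ S, N * x = x * N := by
  have hfix : ∀ x ∈ S, x ^ p ^ (Nat.totient m) = x := by
    intro x hx
    have h := Nat.ModEq.pow_totient hm
    obtain ⟨c, hc⟩ : m ∣ p ^ Nat.totient m - 1 :=
      (Nat.modEq_iff_dvd' (Nat.one_le_pow _ _ hp.out.pos)).mp h.symm
    have he : p ^ Nat.totient m = m * c + 1 := by
      have := Nat.one_le_pow (Nat.totient m) p hp.out.pos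
      omega
    rw [he, pow_succ, pow_mul, hord x hx, one_pow, one_mul]
  obtain ⟨hcomm, hred⟩ := pow_pow_eq_self_of_mem_subringClosure hchar _ hS hfix
  set R := Subring.closure S with hR
  intro x hx
  -- halving in characteristic `p`
  have hhalf : ∀ z : A, z + z ∈ R → z ∈ R := by
    intro z hz
    obtain ⟨j, hj⟩ := hp.out.odd_of_ne_two hp2
    have hzp : (p : A) * z = 0 := by rw [hchar, zero_mul]
    have : z = (j + 1) • (z + z) := by
      rw [← two_nsmul, ← mul_nsmul, show 2 * (j + 1) = p + 1 by omega, succ_nsmul,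
        nsmul_eq_mul, hzp, zero_add]
    rw [this]
    exact nsmul_mem hz _
  have hxR : x ∈ R := Subring.subset_closure hx
  have hxx : x * x ∈ R := mul_mem hxR hxR
  have h1 : (1 + N) * x * (1 - N) ∈ R := Subring.subset_closure (hplus x hx)
  have h2 : (1 - N) * x * (1 + N) ∈ R := Subring.subset_closure (hminus x hx)
  have hd : N * x - x * N ∈ R := by
    refine hhalf _ ?_
    convert sub_mem h1 h2 using 1
    noncomm_ring
  have he : N * x * N ∈ R := by
    refine hhalf _ ?_
    convert sub_mem (sub_mem (add_mem hxR hxR) h1) h2 using 1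
    noncomm_ring
  have hzero : ∀ r ∈ R, r * r = 0 → r = 0 := by
    intro r hr h
    rw [← hred r hr]
    rcases Nat.eq_zero_or_pos (Nat.totient m) with h0 | h0
    · rw [Nat.totient_eq_zero] at h0
      exact absurd (h0 ▸ hm) (by simp [hp.out.ne_one])
    · have h2le : 2 ≤ p ^ Nat.totient m :=
        le_trans hp.out.two_le (Nat.le_self_pow h0.ne' p)
      rw [← Nat.add_sub_cancel' h2le, pow_add, pow_two, h, zero_mul]
  have he0 : N * x * N = 0 := hzero _ he (by
    rw [show N * x * N * (N * x * N) = N * x * (N * N) * (x * N) by noncomm_ring, hN]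
    simp)
  -- `N * (x * x) * N = 0` as well
  have hxS : ∀ r ∈ R, (1 + N) * r * (1 - N) ∈ R ∧ (1 - N) * r * (1 + N) ∈ R := by
    have hu : (1 - N) * (1 + N) = 1 := by noncomm_ring; simp [hN]
    have hu' : (1 + N) * (1 - N) = 1 := by noncomm_ring; simp [hN]
    intro r hr
    induction hr using Subring.closure_induction with
    | mem y hy => exact ⟨Subring.subset_closure (hplus y hy), Subring.subset_closure (hminus y hy)⟩
    | zero => simp
    | one => simp only [mul_one]; rw [hu, hu']; exact ⟨one_mem R, one_mem R⟩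
    | add a b _ _ iha ihb =>
      exact ⟨by convert add_mem iha.1 ihb.1 using 1; noncomm_ring,
        by convert add_mem iha.2 ihb.2 using 1; noncomm_ring⟩
    | neg a _ iha =>
      simp only [mul_neg, neg_mul]
      exact ⟨neg_mem iha.1, neg_mem iha.2⟩
    | mul a b _ _ iha ihb =>
      constructor
      · have := mul_mem iha.1 ihb.1
        rwa [show (1 + N) * a * (1 - N) * ((1 + N) * b * (1 - N))
          = (1 + N) * a * ((1 - N) * (1 + N)) * b * (1 - N) by simp only [mul_assoc], hu, mul_one,
          mul_assoc (1 + N) a b] at this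
      · have := mul_mem iha.2 ihb.2
        rwa [show (1 - N) * a * (1 + N) * ((1 - N) * b * (1 + N))
          = (1 - N) * a * ((1 + N) * (1 - N)) * b * (1 + N) by simp only [mul_assoc], hu', mul_one,
          mul_assoc (1 - N) a b] at this
  have he2 : N * (x * x) * N = 0 := by
    refine hzero _ (hhalf _ ?_) (by
      rw [show N * (x * x) * N * (N * (x * x) * N) = N * (x * x) * (N * N) * (x * x * N) by
        noncomm_ring, hN]
      simp)
    convert sub_mem (sub_mem (add_mem hxx hxx) (hxS _ hxx).1) (hxS _ hxx).2 using 1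
    noncomm_ring
  have hd0 : N * x - x * N = 0 := hzero _ hd (by
    rw [show (N * x - x * N) * (N * x - x * N)
      = (N * x * N) * x + x * (N * x * N) - N * (x * x) * N - x * (N * N) * x by noncomm_ring,
      he0, he2, hN]
    simp)
  exact sub_eq_zero.mp hd0

end RingLemma

section GroupLemma

open Subgroup
open scoped commutatorElement IsMulCommutative

variable {G : Type*} [Group G] {p : ℕ}

/-- A quadratic element on an elementary abelian normal subgroup `V` commutes modulo `C(V)` with a
normal subgroup `K` acting on `V` as an abelian group of exponent prime to `p`. -/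
theorem commutator_mem_centralizer_of_quadratic [hp : Fact p.Prime] (hp2 : p ≠ 2) (V : Subgroup G)
    [V.Normal] (hV : IsMulCommutative V) (hVp : ∀ v ∈ V, v ^ p = 1) (K : Subgroup G) [K.Normal]
    (hKK : ⁅K, K⁆ ≤ centralizer (V : Set G)) {m : ℕ} (hm : Nat.Coprime p m)
    (hKm : ∀ k ∈ K, k ^ m ∈ centralizer (V : Set G)) {a : G}
    (ha : ∀ v ∈ V, a * ⁅v, a⁆ = ⁅v, a⁆ * a) :
    ∀ k ∈ K, ⁅a, k⁆ ∈ centralizer (V : Set G) := by
  let ρ : G →* AddMonoid.End (Additive V) :=
    { toFun := fun g => MonoidHom.toAdditive ((MulAut.conjNormal g : MulAut V) : V →* V)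
      map_one' := by
        rw [map_one]
        rfl
      map_mul' := fun g h => by
        rw [map_mul]
        rfl }
  have happly : ∀ g : G, ∀ v : V, ρ g (Additive.ofMul v) = Additive.ofMul (MulAut.conjNormal g v) :=
    fun _ _ => rfl
  have hone : ∀ g : G, ρ g = 1 ↔ g ∈ centralizer (V : Set G) := by
    intro g
    constructor
    · intro h v hv
      have h1 := congrArg (fun f : AddMonoid.End (Additive V) => f (Additive.ofMul ⟨v, hv⟩)) h
      have h2 : g * v * g⁻¹ = v := congrArg Subtype.val (h1 : MulAut.conjNormal g ⟨v, hv⟩ = (⟨v, hv⟩ : V))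
      exact (mul_inv_eq_iff_eq_mul.mp h2).symm
    · intro h
      refine AddMonoidHom.ext fun w => ?_
      obtain ⟨v, rfl⟩ := Additive.ofMul.surjective w
      change Additive.ofMul (MulAut.conjNormal g v) = Additive.ofMul v
      refine congrArg Additive.ofMul (Subtype.ext ?_)
      rw [MulAut.conjNormal_apply, ← mem_centralizer_iff.mp h v v.2, mul_inv_cancel_right]
  have hchar : (p : AddMonoid.End (Additive V)) = 0 := by
    refine AddMonoidHom.ext fun w => ?_
    obtain ⟨v, rfl⟩ := Additive.ofMul.surjective w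
    refine (AddMonoid.End.natCast_apply p (Additive.ofMul v)).trans ?_
    refine congrArg Additive.ofMul (Subtype.ext ?_ : v ^ p = (1 : V))
    exact hVp v v.2
  set N : AddMonoid.End (Additive V) := ρ a - 1 with hN
  have hρa : ρ a = 1 + N := by rw [hN]; noncomm_ring
  have hNN : N * N = 0 := by
    refine AddMonoidHom.ext fun w => ?_
    obtain ⟨v, rfl⟩ := Additive.ofMul.surjective w
    have hN' : ∀ u : V, N (Additive.ofMul u) = Additive.ofMul (MulAut.conjNormal a u * u⁻¹) := by
      intro u
      change Additive.ofMul (MulAut.conjNormal a u) - Additive.ofMul u = _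
      rw [sub_eq_add_neg]
      rfl
    have hd := hN' v
    change N (N (Additive.ofMul v)) = 0
    rw [hd, hN']
    refine congrArg Additive.ofMul (mul_inv_eq_one.mpr (Subtype.ext ?_) : _ = (1 : V))
    rw [MulAut.conjNormal_apply]
    have h2 : ((MulAut.conjNormal a v * v⁻¹ : V) : G) = ⁅(v : G), a⁆⁻¹ := by
      rw [coe_mul, coe_inv, MulAut.conjNormal_apply, commutatorElement_inv, commutatorElement_def]
    rw [h2]
    have h3 := ha v v.2
    calc a * ⁅(v : G), a⁆⁻¹ * a⁻¹ = (a * ⁅(v : G), a⁆ * a⁻¹)⁻¹ := conj_inv.symm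
      _ = _ := by rw [h3, mul_inv_cancel_right]
  have hρi : ρ a⁻¹ = 1 - N := by
    have h1 : ρ a⁻¹ * ρ a = 1 := by rw [← map_mul, inv_mul_cancel, map_one]
    have h2 : ρ a * (1 - N) = 1 := by
      rw [hρa, mul_sub, mul_one, add_mul, one_mul, hNN, add_zero, add_sub_cancel_right]
    calc ρ a⁻¹ = ρ a⁻¹ * (ρ a * (1 - N)) := by rw [h2, mul_one]
      _ = 1 - N := by rw [← mul_assoc, h1, one_mul]
  have hnK : K.Normal := inferInstance
  have key := commute_of_quadratic hp2 hchar hm (S := ρ '' (K : Set G)) ?_ ?_ hNN ?_ ?_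
  · intro k hk
    rw [← hone]
    have hk2 : ρ a * ρ k = ρ k * ρ a := by
      rw [hρa, add_mul, mul_add, one_mul, mul_one, key _ ⟨k, hk, rfl⟩]
    rw [commutatorElement_def, map_mul, map_mul, map_mul, hk2, mul_assoc (ρ k), ← map_mul ρ a a⁻¹,
      mul_inv_cancel, map_one, mul_one, ← map_mul, mul_inv_cancel, map_one]
  · rintro _ ⟨x, hx, rfl⟩ _ ⟨y, hy, rfl⟩
    have h1 : ρ ⁅x, y⁆ = 1 := (hone _).mpr (hKK (commutator_mem_commutator hx hy))
    calc ρ x * ρ y = ρ (⁅x, y⁆ * (y * x)) := by rw [← map_mul]; congr 1; group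
      _ = ρ y * ρ x := by rw [map_mul, h1, one_mul, map_mul]
  · rintro _ ⟨x, hx, rfl⟩
    rw [← map_pow]
    exact (hone _).mpr (hKm x hx)
  · rintro _ ⟨x, hx, rfl⟩
    exact ⟨a * x * a⁻¹, hnK.conj_mem x hx a, by rw [map_mul, map_mul, hρa, hρi]⟩
  · rintro _ ⟨x, hx, rfl⟩
    refine ⟨a⁻¹ * x * a, ?_, by rw [map_mul, map_mul, hρa, hρi]⟩
    simpa using hnK.conj_mem x hx a⁻¹

end GroupLemma

end CfsgLib.Transfer
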