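import Cfsg.Agent.Lib.Transfer.Reduction
import Cfsg.Agent.Lib.Transfer.Quadratic
import Cfsg.Prelude.Def_PLocal

/-!
# `p`-stability of the minimal configuration
-/

set_option autoImplicit false

open Subgroup Cfsg
open scoped commutatorElement

universe u

namespace CfsgLib.Transfer

variable {p : ℕ} [hp : Fact p.Prime] {G : Type u} [Group G] [Finite G] {P : Sylow p G}

/-- An element of order prime to `p` fixing the commutator `w` of an element of a `p`-group
centralises that element. -/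
theorem eq_one_of_conj_eq_mul {b v w : G} (hb : Nat.Coprime (orderOf b) p)
    (hw : ∃ k, w ^ p ^ k = 1) (h1 : b * w * b⁻¹ = w) (h2 : b * v * b⁻¹ = w * v) : w = 1 := by
  have key : ∀ i : ℕ, b ^ i * v * (b ^ i)⁻¹ = w ^ i * v := by
    intro i
    induction i with
    | zero => simp
    | succ i ih =>
      have hwi : b * w ^ i * b⁻¹ = w ^ i := by rw [← conj_pow, h1]
      calc b ^ (i + 1) * v * (b ^ (i + 1))⁻¹ = b * (b ^ i * v * (b ^ i)⁻¹) * b⁻¹ := by
            rw [pow_succ']; group
        _ = b * (w ^ i * v) * b⁻¹ := by rw [ih]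
        _ = b * w ^ i * b⁻¹ * (b * v * b⁻¹) := by group
        _ = w ^ i * (w * v) := by rw [hwi, h2]
        _ = w ^ (i + 1) * v := by rw [pow_succ, mul_assoc]
  have h3 := key (orderOf b)
  rw [pow_orderOf_eq_one, one_mul, inv_one, mul_one, right_eq_mul] at h3
  obtain ⟨k, hk⟩ := hw
  have h4 := pow_gcd_eq_one.mpr ⟨h3, hk⟩
  rwa [(hb.pow_right k).gcd_eq_one, pow_one] at h4

/-- A `p'`-element quadratic on a `p`-subgroup centralises it. -/
theorem commute_of_quadratic_coprime {V : Subgroup G} [V.Normal] (hV : IsPGroup p V) {b : G}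
    (hb : Nat.Coprime (orderOf b) p) (hq : ∀ v ∈ V, b * ⁅v, b⁆ = ⁅v, b⁆ * b) :
    b ∈ centralizer (V : Set G) := by
  rw [mem_centralizer_iff]
  intro v hv
  have hw : ⁅b, v⁆ ∈ V := by
    rw [commutatorElement_def]
    exact mul_mem ((inferInstance : V.Normal).conj_mem v hv b) (inv_mem hv)
  have h1 : b * ⁅b, v⁆ * b⁻¹ = ⁅b, v⁆ := by
    rw [← commutatorElement_inv v b]
    calc b * ⁅v, b⁆⁻¹ * b⁻¹ = (b * ⁅v, b⁆ * b⁻¹)⁻¹ := conj_inv.symm
      _ = _ := by rw [hq v hv, mul_inv_cancel_right]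
  obtain ⟨k, hk⟩ := hV ⟨_, hw⟩
  have h := eq_one_of_conj_eq_mul hb ⟨k, congrArg Subtype.val hk⟩ h1
    (show b * v * b⁻¹ = ⁅b, v⁆ * v by rw [commutatorElement_def]; group)
  exact (commutatorElement_eq_one_iff_mul_comm.mp h).symm

/-- Elements of `P` acting trivially on `K / O_p` lie in `O_p`. -/
theorem MinimalConfig.mem_pCore_of_commutes (h : MinimalConfig p G P) {K : Subgroup G} [K.Normal]
    (hHK : pCore p G ≤ K) (htop : (P : Subgroup G) ⊔ K = ⊤) {x : G} (hx : x ∈ (P : Subgroup G))
    (hc : ∀ k ∈ K, ⁅x, k⁆ ∈ pCore p G) : x ∈ pCore p G := by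
  let π := QuotientGroup.mk' (pCore p G)
  let C : Subgroup G := (centralizer ((K.map π : Subgroup (G ⧸ pCore p G)) : Set _)).comap π
  have hKn : (K.map π).Normal :=
    Subgroup.Normal.map inferInstance π (QuotientGroup.mk'_surjective _)
  have hCn : C.Normal := (inferInstance :
    (centralizer ((K.map π : Subgroup (G ⧸ pCore p G)) : Set _)).Normal).comap π
  have hC : ∀ y, y ∈ C ↔ ∀ k ∈ K, ⁅y, k⁆ ∈ pCore p G := by
    intro y
    constructor
    · intro hy k hk
      refine (QuotientGroup.eq_one_iff _).mp ?_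
      change π ⁅y, k⁆ = 1
      rw [map_commutatorElement, commutatorElement_eq_one_iff_mul_comm]
      exact (mem_centralizer_iff.mp hy _ (mem_map_of_mem π hk)).symm
    · intro hy
      rw [mem_comap, mem_centralizer_iff]
      rintro _ ⟨k, hk, rfl⟩
      rw [eq_comm, ← commutatorElement_eq_one_iff_mul_comm, ← map_commutatorElement]
      exact (QuotientGroup.eq_one_iff _).mpr (hy k hk)
  let X : Subgroup G := (P : Subgroup G) ⊓ C
  have hHX : pCore p G ≤ X := by
    refine le_inf h.pCore_lt.le fun y hy => (hC y).mpr fun k _ => ?_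
    rw [commutatorElement_def, mul_assoc y, mul_assoc]
    refine mul_mem hy ?_
    exact (inferInstance : (pCore p G).Normal).conj_mem _ (inv_mem hy) k
  have hXn : X.Normal := by
    refine normalizer_eq_top_iff.mp (top_le_iff.mp ?_)
    rw [← htop]
    refine sup_le (fun y hy => mem_set_normalizer_iff.mpr fun z => ?_) (fun k hk => ?_)
    · constructor
      · exact fun hz => mem_inf.mpr ⟨mul_mem (mul_mem hy (mem_inf.mp hz).1) (inv_mem hy),
          hCn.conj_mem z (mem_inf.mp hz).2 y⟩
      · intro hz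
        have h1 := X.mul_mem (X.mul_mem (show y⁻¹ * (y * z * y⁻¹) * y ∈ X from
          ⟨(P : Subgroup G).mul_mem ((P : Subgroup G).mul_mem ((P : Subgroup G).inv_mem hy) hz.1) hy,
            by simpa using hCn.conj_mem _ hz.2 y⁻¹⟩) (X.one_mem)) (X.one_mem)
        simpa [mul_assoc] using h1
    · have hconj : ∀ k ∈ K, ∀ z ∈ X, k * z * k⁻¹ ∈ X := by
        intro k hk z hz
        have h1 : ⁅z, k⁆ ∈ X := hHX ((hC z).mp hz.2 k hk)
        rw [show k * z * k⁻¹ = ⁅z, k⁆⁻¹ * z by group]
        exact mul_mem (inv_mem h1) hz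
      refine mem_set_normalizer_iff.mpr fun z => ⟨hconj k hk z, fun hz => ?_⟩
      have h1 := hconj k⁻¹ (inv_mem hk) _ hz
      simpa [mul_assoc] using h1
  exact CfsgLib.Base.le_pCore (P.2.to_le inf_le_left) (show x ∈ X from ⟨hx, (hC x).mpr hc⟩)

/-- **`p`-stability of the minimal configuration**: an element of `P` quadratic on a normal
`p`-subgroup not centralised by all `p'`-elements lies in `O_p`. -/
theorem MinimalConfig.mem_pCore_of_quadratic (h : MinimalConfig p G P) (hp2 : p ≠ 2)
    {V : Subgroup G} [V.Normal] (hV : IsPGroup p V)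
    (hne : ∃ g : G, Nat.Coprime (orderOf g) p ∧ g ∉ centralizer (V : Set G)) {b : G}
    (hb : b ∈ (P : Subgroup G)) (hq : ∀ v ∈ V, b * ⁅v, b⁆ = ⁅v, b⁆ * b) : b ∈ pCore p G := by
  obtain ⟨K, hKn, hHK, htop, hPK, hKK, m, hm, hKm⟩ := h.exists_complement
  -- a minimal normal subgroup in `V` not centralised by all `p'`-elements
  obtain ⟨U, ⟨hUn, hUV, hUne⟩, hUmin⟩ :=
    (Set.toFinite {U : Subgroup G | U.Normal ∧ U ≤ V ∧
      ∃ g : G, Nat.Coprime (orderOf g) p ∧ g ∉ centralizer (U : Set G)}).exists_minimal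
      ⟨V, inferInstance, le_rfl, hne⟩
  have hUp : IsPGroup p U := hV.to_le hUV
  have hUH : U ≤ pCore p G := CfsgLib.Base.le_pCore hUp
  let W : Subgroup G := (frattini U).map U.subtype ⊔ ⁅U, pCore p G⁆
  have hWn : W.Normal := sup_normal _ _
  have hWU : W ≤ U := sup_le (map_subtype_le _) (commutator_le_left U _)
  have hWne : W ≠ U := by
    intro he
    have hle : U ≤ ⁅U, pCore p G⁆ := by
      have h1 : (⁅U, pCore p G⁆).subgroupOf U ⊔ frattini U = ⊤ := by
        apply map_injective U.subtype_injective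
        rw [Subgroup.map_sup, map_subgroupOf_eq_of_le (commutator_le_left U _),
          ← MonoidHom.range_eq_map, range_subtype, sup_comm]
        exact he
      exact subgroupOf_eq_top.mp (frattini_nongenerating h1)
    have hnil : Group.IsNilpotent (pCore p G) := (CfsgLib.Base.isPGroup_pCore p G).isNilpotent
    have h2 : U.subgroupOf (pCore p G) = ⊥ := by
      refine eq_bot_of_le_commutator_top ?_
      rw [← map_subtype_le_map_subtype, map_subgroupOf_eq_of_le hUH, map_commutator,
        map_subgroupOf_eq_of_le hUH, ← MonoidHom.range_eq_map, range_subtype]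
      exact hle
    obtain ⟨g, -, hg⟩ := hUne
    refine hg fun u hu => ?_
    have : (⟨u, hUH hu⟩ : pCore p G) = 1 := mem_bot.mp (h2 ▸ mem_subgroupOf.mpr hu)
    rw [show u = 1 from congrArg Subtype.val this, one_mul, mul_one]
  have hWcent : ∀ g : G, Nat.Coprime (orderOf g) p → g ∈ centralizer (W : Set G) := by
    intro g hg
    by_contra hgW
    exact hWne (le_antisymm hWU (hUmin ⟨hWn, hWU.trans hUV, g, hg, hgW⟩ hWU))
  let π := QuotientGroup.mk' W
  have hπ : Function.Surjective π := QuotientGroup.mk'_surjective W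
  let Ub : Subgroup (G ⧸ W) := U.map π
  have hUbn : Ub.Normal := hUn.map π hπ
  have hUbH : ∀ y ∈ pCore p G, π y ∈ centralizer (Ub : Set (G ⧸ W)) := by
    intro y hy
    rw [mem_centralizer_iff]
    rintro _ ⟨u, hu, rfl⟩
    rw [← commutatorElement_eq_one_iff_mul_comm, ← map_commutatorElement]
    exact (QuotientGroup.eq_one_iff _).mpr (mem_sup_right (commutator_mem_commutator hu hy))
  have hUbc : IsMulCommutative Ub := by
    refine ⟨⟨fun a c => Subtype.ext ?_⟩⟩
    obtain ⟨_, y, hy, rfl⟩ := c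
    exact mem_centralizer_iff.mp (hUbH y (hUH hy)) a a.2
  have hUbp : ∀ u ∈ Ub, u ^ p = 1 := by
    rintro _ ⟨u, hu, rfl⟩
    rw [← map_pow]
    refine (QuotientGroup.eq_one_iff _).mpr (mem_sup_left ⟨⟨u ^ p, pow_mem hu p⟩, ?_, rfl⟩)
    rw [SetLike.mem_coe, frattini, Order.radical]
    simp only [mem_iInf]
    intro M hM
    have hMn : M.Normal := NormalizerCondition.normal_of_coatom _
      (haveI := hUp.isNilpotent; Group.normalizerCondition_of_isNilpotent) hM
    obtain ⟨i, hi⟩ := IsPGroup.iff_card.mp (hUp.to_quotient M)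
    have hcyc : Nat.card (U ⧸ M) = p := by
      by_contra hne'
      rcases i with _ | i
      · rw [pow_zero, ← index_eq_card, index_eq_one] at hi
        exact hM.1 hi
      obtain ⟨L, hL⟩ := Sylow.exists_subgroup_card_pow_prime p (n := 1) (G := U ⧸ M)
        (by rw [hi]; exact pow_dvd_pow p (by omega))
      have hLlt : M < L.comap (QuotientGroup.mk' M) := by
        refine lt_of_le_of_ne (QuotientGroup.le_comap_mk' M _) fun he => ?_
        have : L = ⊥ := by
          rw [← map_comap_eq_self_of_surjective (QuotientGroup.mk'_surjective M) L, ← he,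
            QuotientGroup.map_mk'_self]
        rw [this, card_bot, pow_one] at hL
        exact hp.out.ne_one hL.symm
      have h3 := hM.2 _ hLlt
      have h4 : L = ⊤ := by
        rw [← map_comap_eq_self_of_surjective (QuotientGroup.mk'_surjective M) L, h3,
          Subgroup.map_top_of_surjective _ (QuotientGroup.mk'_surjective M)]
      rw [h4, Subgroup.card_top, pow_one] at hL
      exact hne' hL
    refine (QuotientGroup.eq_one_iff (N := M) _).mp ?_
    change ((⟨u ^ p, pow_mem hu p⟩ : U) : U ⧸ M) = 1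
    rw [show (⟨u ^ p, pow_mem hu p⟩ : U) = (⟨u, hu⟩ : U) ^ p from rfl, QuotientGroup.mk_pow]
    rw [← hcyc]
    exact pow_card_eq_one'
  -- the kernel of the action on `U / W`
  let C : Subgroup G := (centralizer (Ub : Set (G ⧸ W))).comap π
  have hCn : C.Normal := (inferInstance : (centralizer (Ub : Set (G ⧸ W))).Normal).comap π
  have hCK : C ⊓ K ≤ pCore p G := by
    by_cases hCP : (C ⊓ K) ⊔ (P : Subgroup G) = ⊤
    · exfalso
      obtain ⟨g, hg, hgU⟩ := hUne
      apply hgU
      have hidx : ∃ k, (C ⊓ K).index = p ^ k := by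
        obtain ⟨j, hj⟩ := IsPGroup.iff_card.mp P.2
        have hn : (C ⊓ K).Normal := normal_inf_normal C K
        have e := CfsgLib.Base.card_sup_mul_card_inf (P : Subgroup G) (C ⊓ K)
        rw [sup_comm, hCP, Subgroup.card_top, ← (C ⊓ K).card_mul_index, mul_assoc,
          mul_comm (Nat.card (P : Subgroup G))] at e
        have h5 := Nat.eq_of_mul_eq_mul_left Nat.card_pos e
        have hdvd : (C ⊓ K).index ∣ p ^ j := by
          rw [← hj, ← h5]
          exact dvd_mul_right _ _
        obtain ⟨i, -, hi⟩ := (Nat.dvd_prime_pow hp.out).mp hdvd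
        exact ⟨i, hi⟩
      have hn : (C ⊓ K).Normal := normal_inf_normal C K
      have hgC : g ∈ C ⊓ K := mem_of_coprime_orderOf_of_index hidx hg
      rw [mem_centralizer_iff]
      intro u hu
      have hw : ⁅g, u⁆ ∈ W := by
        refine (QuotientGroup.eq_one_iff _).mp ?_
        change π ⁅g, u⁆ = 1
        rw [map_commutatorElement, commutatorElement_eq_one_iff_mul_comm]
        exact (mem_centralizer_iff.mp hgC.1 _ (mem_map_of_mem π hu)).symm
      have h1 : g * ⁅g, u⁆ * g⁻¹ = ⁅g, u⁆ := by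
        rw [← mem_centralizer_iff.mp (hWcent g hg) _ hw, mul_inv_cancel_right]
      obtain ⟨k, hk⟩ := hUp ⟨_, hWU hw⟩
      have h2 := eq_one_of_conj_eq_mul hg ⟨k, congrArg Subtype.val hk⟩ h1
        (show g * u * g⁻¹ = ⁅g, u⁆ * u by rw [commutatorElement_def]; group)
      exact (commutatorElement_eq_one_iff_mul_comm.mp h2).symm
    · have h1 := h.maximal _ le_sup_right hCP
      exact (le_inf (le_sup_left.trans h1.le) inf_le_right).trans hPK.le
  refine h.mem_pCore_of_commutes hHK htop hb fun k hk => hCK ⟨?_, ?_⟩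
  · have hKbn : (K.map π).Normal := hKn.map π hπ
    have key := commutator_mem_centralizer_of_quadratic hp2 Ub hUbc hUbp (K.map π) ?_ hm ?_
      (a := π b) ?_ (π k) (mem_map_of_mem π hk)
    · change π ⁅b, k⁆ ∈ centralizer (Ub : Set (G ⧸ W))
      rwa [map_commutatorElement]
    · rw [← Subgroup.map_commutator]
      rintro _ ⟨y, hy, rfl⟩
      exact hUbH y (hKK hy)
    · rintro _ ⟨y, hy, rfl⟩
      rw [← map_pow]
      exact hUbH _ (hKm y hy)
    · rintro _ ⟨u, hu, rfl⟩
      rw [← map_commutatorElement, ← map_mul, ← map_mul, hq u (hUV hu)]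
  · change ⁅b, k⁆ ∈ K
    rw [commutatorElement_def]
    exact mul_mem (hKn.conj_mem k hk b) (inv_mem hk)

/-- The minimal configuration acts `p`-stably on each normal `p`-subgroup. -/
theorem MinimalConfig.mem_pCore_quotient (h : MinimalConfig p G P) (hp2 : p ≠ 2) (C : Subgroup G)
    [C.Normal] {V : Subgroup G} [V.Normal] (hV : IsPGroup p V)
    (hVC : centralizer (V : Set G) ≤ C) {a : G} (hq : ∀ v ∈ V, ∀ i : ℤ,
      a ^ i * ⁅v, a ^ i⁆ = ⁅v, a ^ i⁆ * a ^ i) :
    (QuotientGroup.mk a : G ⧸ C) ∈ pCore p (G ⧸ C) := by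
  by_cases hall : ∀ g : G, Nat.Coprime (orderOf g) p → g ∈ centralizer (V : Set G)
  · -- the quotient is a `p`-group
    have hq' : IsPGroup p (G ⧸ C) := by
      intro x
      obtain ⟨g, rfl⟩ := QuotientGroup.mk'_surjective C x
      obtain ⟨c, -, d, -, hcd, ⟨j, hj⟩, hd⟩ := exists_pPart_mul (p := p) g
      refine ⟨j, ?_⟩
      have h1 : QuotientGroup.mk' C d = 1 := (QuotientGroup.eq_one_iff d).mpr (hVC (hall d hd))
      rw [← hcd, map_mul, h1, mul_one, ← map_pow, orderOf_dvd_iff_pow_eq_one.mp hj, map_one]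
    rw [CfsgLib.Base.pCore_eq_top_iff.mpr hq']
    exact mem_top _
  push Not at hall
  obtain ⟨c, hc, d, hd, hcd, ⟨j, hj⟩, hdp⟩ := exists_pPart_mul (p := p) a
  have hd1 : d ∈ centralizer (V : Set G) := by
    refine commute_of_quadratic_coprime hV hdp fun v hv => ?_
    obtain ⟨i, rfl⟩ := mem_zpowers_iff.mp hd
    exact hq v hv i
  -- move the `p`-part into `P`
  obtain ⟨S, hS⟩ := (IsPGroup.of_card_dvd_pow (p := p) (n := j) (G := zpowers c)
    (by rw [Nat.card_zpowers]; exact hj)).exists_le_sylow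
  obtain ⟨g, hg⟩ := MulAction.exists_smul_eq G S P
  have hgc : g * c * g⁻¹ ∈ (P : Subgroup G) := by
    rw [← hg, Sylow.coe_subgroup_smul]
    exact ⟨c, hS (mem_zpowers c), rfl⟩
  have hcq : ∀ v ∈ V, g * c * g⁻¹ * ⁅v, g * c * g⁻¹⁆ = ⁅v, g * c * g⁻¹⁆ * (g * c * g⁻¹) := by
    intro v hv
    obtain ⟨i, rfl⟩ := mem_zpowers_iff.mp hc
    have hv' : g⁻¹ * v * g ∈ V := by simpa using (inferInstance : V.Normal).conj_mem v hv g⁻¹
    have h1 := hq _ hv' i
    calc g * a ^ i * g⁻¹ * ⁅v, g * a ^ i * g⁻¹⁆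
        = g * (a ^ i * ⁅g⁻¹ * v * g, a ^ i⁆) * g⁻¹ := by group
      _ = g * (⁅g⁻¹ * v * g, a ^ i⁆ * a ^ i) * g⁻¹ := by rw [h1]
      _ = _ := by group
  have h2 := h.mem_pCore_of_quadratic hp2 hV hall hgc hcq
  have h3 : c ∈ pCore p G := by
    have := (inferInstance : (pCore p G).Normal).conj_mem _ h2 g⁻¹
    simpa [mul_assoc] using this
  have e : (QuotientGroup.mk a : G ⧸ C) = QuotientGroup.mk' C c := by
    rw [← hcd]
    change QuotientGroup.mk' C (c * d) = _
    rw [map_mul, show QuotientGroup.mk' C d = 1 from (QuotientGroup.eq_one_iff d).mpr (hVC hd1),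
      mul_one]
  rw [e]
  exact CfsgLib.Base.map_pCore_le _ (QuotientGroup.mk'_surjective C) (mem_map_of_mem _ h3)

theorem MinimalConfig.isPStableOn (h : MinimalConfig p G P) (hp2 : p ≠ 2) (V : Subgroup G)
    [V.Normal] (hV : IsPGroup p V) : IsPStableOn p V := by
  intro a ha
  refine h.mem_pCore_quotient hp2 _ hV le_rfl fun v hv i => ?_
  exact mem_centralizer_iff.mp (commutator_eq_bot_iff_le_centralizer.mp ha
    (commutator_mem_commutator hv (zpow_mem_zpowers a i))) _ (zpow_mem_zpowers a i)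

end CfsgLib.Transfer
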