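import Cfsg.Agent.Lib.Transfer.MinimalConfig
import Cfsg.Agent.Lib.PLocal.Offender
import Cfsg.Agent.Lib.PLocal.Factor
import Cfsg.Agent.Lib.PLocal.Constrained

/-!
# Thompson's normal `p`-complement theorem
-/

set_option autoImplicit false

open Subgroup Cfsg
open scoped commutatorElement

universe u

namespace CfsgLib.Transfer

variable {p : ℕ}

theorem omegaOne_normal {G : Type*} [Group G] {K : Subgroup G} (hK : K.Normal) :
    (omegaOne p K).Normal := by
  refine normal_iff_map_conj_eq.mpr fun g => ?_
  rw [CfsgLib.PLocal.map_omegaOne (MulAut.conj g).injective, hK.map_conj_eq]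

theorem normalizer_le_normalizer_thompsonSubgroupOf {G : Type*} [Group G] (R : Subgroup G) :
    normalizer (R : Set G) ≤ normalizer (thompsonSubgroupOf p R : Set G) := by
  intro g hg
  rw [mem_normalizer_iff_map_conj_eq] at hg ⊢
  rw [CfsgLib.PLocal.map_thompsonSubgroupOf (MulAut.conj g).injective, hg]

theorem normalizer_le_normalizer_inf_centralizer {G : Type*} [Group G] (R : Subgroup G) :
    normalizer (R : Set G) ≤
      normalizer ((R ⊓ centralizer (R : Set G) : Subgroup G) : Set G) := by
  intro g hg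
  rw [mem_normalizer_iff_map_conj_eq] at hg ⊢
  rw [CfsgLib.PLocal.map_inf_centralizer (MulAut.conj g).injective, hg]

theorem inf_centralizer_eq_map_center {G : Type*} [Group G] (R : Subgroup G) :
    R ⊓ centralizer (R : Set G) = (Subgroup.center R).map R.subtype := by
  refine le_antisymm (fun x hx => ⟨⟨x, hx.1⟩, mem_center_iff.mpr fun y =>
    Subtype.ext (mem_centralizer_iff.mp hx.2 y y.2), rfl⟩) ?_
  rintro _ ⟨x, hx, rfl⟩
  exact ⟨x.2, mem_centralizer_iff.mpr fun y hy =>
    congrArg Subtype.val (mem_center_iff.mp hx ⟨y, hy⟩)⟩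

theorem inf_centralizer_ne_bot {G : Type*} [Group G] [Finite G] [Fact p.Prime] {R : Subgroup G}
    (hR : IsPGroup p R) (hne : R ≠ ⊥) : R ⊓ centralizer (R : Set G) ≠ ⊥ := by
  have : Nontrivial R := (Subgroup.nontrivial_iff_ne_bot R).mpr hne
  have := hR.center_nontrivial
  rw [inf_centralizer_eq_map_center, Ne, map_eq_bot_iff_of_injective _ R.subtype_injective]
  exact (Subgroup.nontrivial_iff_ne_bot _).mp this

theorem thompsonSubgroupOf_ne_bot {G : Type*} [Group G] [Finite G] [Fact p.Prime] {R : Subgroup G}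
    (hR : IsPGroup p R) (hne : R ≠ ⊥) : thompsonSubgroupOf p R ≠ ⊥ := by
  obtain ⟨A, hA⟩ := CfsgLib.PLocal.maxEAOf_nonempty p R
  intro h
  have h1 : omegaOne p (R ⊓ centralizer (R : Set G)) ≤ thompsonSubgroupOf p R :=
    (CfsgLib.PLocal.omegaOne_center_le hA).trans (CfsgLib.PLocal.le_thompsonSubgroupOf hA)
  exact CfsgLib.PLocal.omegaOne_ne_bot (hR.to_le inf_le_left) (inf_centralizer_ne_bot hR hne)
    (le_bot_iff.mp (h ▸ h1))

theorem hasNormalPComplement_subgroupOf {G : Type*} [Group G] [Finite G] [Fact p.Prime]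
    {N U : Subgroup G} (h : HasNormalPComplement p N) :
    HasNormalPComplement p (N.subgroupOf U) := by
  have h1 : HasNormalPComplement p ((N.subgroupOf U).map U.subtype) :=
    hasNormalPComplement_of_le (by
      rintro _ ⟨x, hx, rfl⟩
      exact hx) h
  exact (hasNormalPComplement_congr ((N.subgroupOf U).equivMapOfInjective U.subtype
    U.subtype_injective)).mpr h1

theorem centralizer_subgroupOf_eq {G : Type*} [Group G] {R U : Subgroup G} (h : R ≤ U) :
    (centralizer (R : Set G)).subgroupOf U = centralizer ((R.subgroupOf U : Subgroup U) : Set U) := by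
  ext x
  simp only [mem_subgroupOf, mem_centralizer_iff]
  exact ⟨fun hx y hy => Subtype.ext (hx y hy),
    fun hx y hy => congrArg Subtype.val (hx ⟨y, h hy⟩ hy)⟩

/-- The hypothesis of Thompson's normal `p`-complement theorem. -/
def ThompsonCond (p : ℕ) (G : Type u) [Group G] (R : Subgroup G) : Prop :=
  HasNormalPComplement p (normalizer (thompsonSubgroupOf p R : Set G)) ∧
    HasNormalPComplement p (centralizer ((R ⊓ centralizer (R : Set G) : Subgroup G) : Set G))

theorem localCondition_thompson [Fact p.Prime] : LocalCondition p (ThompsonCond.{u} p) where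
  mono := by
    intro G _ _ U R _ hRU h
    have hmap : (R.subgroupOf U).map U.subtype = R := map_subgroupOf_eq_of_le hRU
    constructor
    · have e1 : thompsonSubgroupOf p (R.subgroupOf U) = (thompsonSubgroupOf p R).subgroupOf U := by
        apply map_injective U.subtype_injective
        rw [CfsgLib.PLocal.map_thompsonSubgroupOf U.subtype_injective, hmap,
          map_subgroupOf_eq_of_le ((CfsgLib.PLocal.thompsonSubgroupOf_le p R).trans hRU)]
      rw [e1, ← subgroupOf_normalizer_eq ((CfsgLib.PLocal.thompsonSubgroupOf_le p R).trans hRU)]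
      exact hasNormalPComplement_subgroupOf h.1
    · have e2 : R.subgroupOf U ⊓ centralizer ((R.subgroupOf U : Subgroup U) : Set U) =
          (R ⊓ centralizer (R : Set G)).subgroupOf U := by
        apply map_injective U.subtype_injective
        rw [CfsgLib.PLocal.map_inf_centralizer U.subtype_injective, hmap,
          map_subgroupOf_eq_of_le (inf_le_left.trans hRU)]
      rw [e2, ← centralizer_subgroupOf_eq (inf_le_left.trans hRU)]
      exact hasNormalPComplement_subgroupOf h.2
  quot := by
    intro G _ _ P N _ hN h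
    constructor
    · rw [← CfsgLib.PLocal.map_mk'_thompsonSubgroupOf N hN P.2,
        ← CfsgLib.PLocal.map_normalizer_mk' N hN
          (P.2.to_le (CfsgLib.PLocal.thompsonSubgroupOf_le p _))]
      exact hasNormalPComplement_of_surjective ((QuotientGroup.mk' N).subgroupMap _)
        ((QuotientGroup.mk' N).subgroupMap_surjective _) h.1
    · have e : ((P : Subgroup G) ⊓ centralizer ((P : Subgroup G) : Set G)).map (QuotientGroup.mk' N)
          = (P : Subgroup G).map (QuotientGroup.mk' N) ⊓
            centralizer (((P : Subgroup G).map (QuotientGroup.mk' N) : Subgroup (G ⧸ N)) : Set _) := by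
        have h1 := CfsgLib.PLocal.map_inf_centralizer
          (CfsgLib.PLocal.injective_mk'_comp_subtype N hN P.2) (⊤ : Subgroup (P : Subgroup G))
        rw [← Subgroup.map_map, CfsgLib.PLocal.map_inf_centralizer (P : Subgroup G).subtype_injective,
          ← Subgroup.map_map, ← MonoidHom.range_eq_map, range_subtype] at h1
        exact h1
      rw [← e, ← CfsgLib.PLocal.map_centralizer_mk' N hN (P.2.to_le inf_le_left)]
      exact hasNormalPComplement_of_surjective ((QuotientGroup.mk' N).subgroupMap _)
        ((QuotientGroup.mk' N).subgroupMap_surjective _) h.2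
  of_local := by
    intro G _ _ R hR hRne hQ
    refine ⟨hQ _ (CfsgLib.PLocal.thompsonSubgroupOf_le p R) (thompsonSubgroupOf_ne_bot hR hRne)
      (normalizer_le_normalizer_thompsonSubgroupOf R), ?_⟩
    exact hasNormalPComplement_of_le (centralizer_le_normalizer _)
      (hQ _ inf_le_left (inf_centralizer_ne_bot hR hRne) (normalizer_le_normalizer_inf_centralizer R))
  of_normal := by
    intro G _ _ P hP h
    have e : normalizer (thompsonSubgroupOf p (P : Subgroup G) : Set G) = ⊤ :=
      top_le_iff.mp ((normalizer_eq_top_iff.mpr hP).ge.trans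
        (normalizer_le_normalizer_thompsonSubgroupOf _))
    have h1 := h.1
    rw [e] at h1
    exact (hasNormalPComplement_congr topEquiv).mp h1

variable [hp : Fact p.Prime] {G : Type u} [Group G] [Finite G] {P : Sylow p G}

/-- A subgroup containing `P` and all `p'`-elements of the minimal configuration is everything. -/
theorem MinimalConfig.eq_top_of_coprime_mem (h : MinimalConfig p G P) {U : Subgroup G}
    (hPU : (P : Subgroup G) ≤ U) (hU : ∀ g : G, Nat.Coprime (orderOf g) p → g ∈ U) : U = ⊤ := by
  obtain ⟨K, hKn, hHK, htop, hPK, -, m, hm, hKm⟩ := h.exists_complement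
  rw [← top_le_iff, ← htop]
  refine sup_le hPU fun k hk => ?_
  obtain ⟨c, hc, d, -, hcd, ⟨j, hj⟩, hd⟩ := exists_pPart_mul (p := p) k
  rw [← hcd]
  refine mul_mem (hPU (h.pCore_lt.le ?_)) (hU d hd)
  refine (QuotientGroup.eq_one_iff c).mp ?_
  have hcK : c ∈ K := (zpowers_le.mpr hk) hc
  have h1 : (QuotientGroup.mk c : G ⧸ pCore p G) ^ m = 1 := by
    rw [← QuotientGroup.mk_pow]
    exact (QuotientGroup.eq_one_iff _).mpr (hKm c hcK)
  have h2 : (QuotientGroup.mk c : G ⧸ pCore p G) ^ p ^ j = 1 := by
    rw [← QuotientGroup.mk_pow, orderOf_dvd_iff_pow_eq_one.mp hj, QuotientGroup.mk_one]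
  have h3 := pow_gcd_eq_one.mpr ⟨h1, h2⟩
  rwa [(hm.symm.pow_right j).gcd_eq_one, pow_one] at h3

/-- A `p'`-element fixing the elements of order dividing `p` of an abelian `p`-group fixes it. -/
theorem mem_centralizer_of_omegaOne {Z : Subgroup G} (hZn : Z.Normal) (hZp : IsPGroup p Z)
    (hZa : Z ≤ centralizer (Z : Set G)) {d : G} (hd : Nat.Coprime (orderOf d) p)
    (hfix : d ∈ centralizer (omegaOne p Z : Set G)) : d ∈ centralizer (Z : Set G) := by
  suffices key : ∀ (k : ℕ) (z : G), z ∈ Z → z ^ p ^ k = 1 → d * z * d⁻¹ = z by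
    rw [mem_centralizer_iff]
    intro z hz
    obtain ⟨k, hk⟩ := hZp ⟨z, hz⟩
    exact (mul_inv_eq_iff_eq_mul.mp (key k z hz (congrArg Subtype.val hk))).symm
  intro k
  induction k with
  | zero =>
    intro z _ hz
    rw [pow_zero, pow_one] at hz
    simp [hz]
  | succ k ih =>
    intro z hz hzk
    have h1 : d * z ^ p * d⁻¹ = z ^ p := ih _ (pow_mem hz p) (by rwa [← pow_mul, ← pow_succ'])
    have hdz : d * z * d⁻¹ ∈ Z := hZn.conj_mem z hz d
    have hw : ⁅d, z⁆ ∈ Z := mul_mem hdz (inv_mem hz)
    have hwp : ⁅d, z⁆ ^ p = 1 := by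
      have hcomm : Commute (d * z * d⁻¹) z⁻¹ :=
        (mem_centralizer_iff.mp (hZa (inv_mem hz)) _ hdz)
      rw [commutatorElement_def, hcomm.mul_pow, conj_pow, h1, inv_pow, mul_inv_cancel]
    have hwfix : d * ⁅d, z⁆ * d⁻¹ = ⁅d, z⁆ :=
      mul_inv_eq_iff_eq_mul.mpr
        (mem_centralizer_iff.mp hfix _ (CfsgLib.PLocal.mem_omegaOne hw hwp)).symm
    have h3 : ⁅d, z⁆ = 1 := eq_one_of_conj_eq_mul hd ⟨1, by rwa [pow_one]⟩ hwfix
      (show d * z * d⁻¹ = ⁅d, z⁆ * z by rw [commutatorElement_def]; group)
    rw [commutatorElement_def, mul_inv_eq_one] at h3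
    exact h3

/-- Thompson's normal `p`-complement theorem, the impossible configuration. -/
theorem MinimalConfig.not_thompsonCond (h : MinimalConfig p G P) (hp2 : p ≠ 2)
    (hc : ThompsonCond p G (P : Subgroup G)) : False := by
  have hJnormal : ∀ {T : Subgroup G}, T = thompsonSubgroupOf p (P : Subgroup G) →
      T.Normal → False := by
    intro T hT hTn
    subst hT
    have h1 := hc.1
    rw [normalizer_eq_top_iff.mpr hTn] at h1
    exact h.not_comp ((hasNormalPComplement_congr topEquiv).mp h1)
  let H := pCore p G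
  let Z : Subgroup G := H ⊓ centralizer (H : Set G)
  have hZn : Z.Normal := normal_inf_normal H (centralizer (H : Set G))
  have hHp : IsPGroup p H := CfsgLib.Base.isPGroup_pCore p G
  have hZp : IsPGroup p Z := hHp.to_le inf_le_left
  have hZa : Z ≤ centralizer (Z : Set G) := CfsgLib.PLocal.inf_centralizer_le_centralizer H
  let V : Subgroup G := omegaOne p Z
  have hVn : V.Normal := omegaOne_normal hZn
  have hVe : IsElementaryAbelian p V := CfsgLib.PLocal.isElementaryAbelian_omegaOne hZa
  have hVp : IsPGroup p V := CfsgLib.PLocal.isPGroup_of_isElementaryAbelian hVe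
  by_cases hall : ∀ g : G, Nat.Coprime (orderOf g) p → g ∈ centralizer (V : Set G)
  · -- then the centre of `P` is central in `G`
    have hPc : (P : Subgroup G) ⊓ centralizer ((P : Subgroup G) : Set G) ≤ Z := by
      have h1 : (P : Subgroup G) ⊓ centralizer ((P : Subgroup G) : Set G) ≤
          centralizer (H : Set G) := inf_le_right.trans (Subgroup.centralizer_le h.pCore_lt.le)
      exact le_inf (h1.trans h.centralizer_le) h1
    have htop := h.eq_top_of_coprime_mem
      (U := centralizer (((P : Subgroup G) ⊓ centralizer ((P : Subgroup G) : Set G) : Subgroup G) : Set G))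
      (le_centralizer_iff.mp inf_le_right)
      fun g hg => Subgroup.centralizer_le hPc (mem_centralizer_of_omegaOne hZn hZp hZa hg (hall g hg))
    have h2 := hc.2
    rw [htop] at h2
    exact h.not_comp ((hasNormalPComplement_congr topEquiv).mp h2)
  push Not at hall
  have hVH : V ≤ H := (CfsgLib.PLocal.omegaOne_le p _).trans inf_le_left
  have hVP : V ≤ (P : Subgroup G) := hVH.trans h.pCore_lt.le
  obtain ⟨A, hA, hAH⟩ : ∃ A ∈ CfsgLib.PLocal.maxEAOf p (P : Subgroup G), ¬ A ≤ H := by
    by_contra hno
    push Not at hno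
    have hJ : thompsonSubgroupOf p (P : Subgroup G) ≤ H := by
      rw [CfsgLib.PLocal.thompsonSubgroupOf_eq_sSup]
      exact sSup_le hno
    refine hJnormal (CfsgLib.PLocal.thompsonSubgroupOf_eq_of_le hJ h.pCore_lt.le) ?_
    refine normal_iff_map_conj_eq.mpr fun g => ?_
    rw [CfsgLib.PLocal.map_thompsonSubgroupOf (MulAut.conj g).injective,
      (inferInstance : H.Normal).map_conj_eq]
  obtain ⟨hB, hBq, hBne⟩ := CfsgLib.PLocal.maxEA_replacement hVe hVP hA.1 hA
    ((normalizer_eq_top_iff.mpr hVn) ▸ le_top)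
  set B := ⁅V, A⁆ ⊔ (A ⊓ centralizer ((⁅V, A⁆ : Subgroup G) : Set G))
  have hVA : ⁅V, A⁆ ≠ ⊥ := by
    intro h0
    refine hAH fun a ha => h.mem_pCore_of_quadratic hp2 hVp hall (hA.1 ha) fun v hv => ?_
    rw [show ⁅v, a⁆ = 1 from mem_bot.mp (h0 ▸ commutator_mem_commutator hv ha), mul_one, one_mul]
  refine hBne hVA ?_
  rw [commutator_eq_bot_iff_le_centralizer]
  refine (?_ : V ≤ centralizer (H : Set G)).trans (Subgroup.centralizer_le (?_ : B ≤ H))
  · exact (CfsgLib.PLocal.omegaOne_le p _).trans inf_le_right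
  intro b hb
  refine h.mem_pCore_of_quadratic hp2 hVp hall (hB.1 hb) fun v hv => ?_
  exact mem_centralizer_iff.mp (commutator_eq_bot_iff_le_centralizer.mp hBq
    (commutator_mem_commutator hv hb)) b hb

/-- **Thompson's normal `p`-complement theorem** (`N(J(P))` and `C(Z(P))`). -/
theorem hasNormalPComplement_of_thompson (hp2 : p ≠ 2) (P : Sylow p G)
    (hJ : HasNormalPComplement p (normalizer (thompsonSubgroupOf p (P : Subgroup G) : Set G)))
    (hZ : HasNormalPComplement p
      (centralizer (((P : Subgroup G) ⊓ centralizer ((P : Subgroup G) : Set G) : Subgroup G) : Set G))) :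
    HasNormalPComplement p G :=
  hasNormalPComplement_of_localCondition localCondition_thompson
    (fun _ _ _ _ hm hcd => hm.not_thompsonCond hp2 hcd) P ⟨hJ, hZ⟩

end CfsgLib.Transfer
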