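import Cfsg.Agent.Lib.OddOrder.QuadraticSection
import Cfsg.Agent.Lib.Transfer.MinimalConfig
import Cfsg.Agent.Lib.Transfer.ThompsonComplement
import Cfsg.Agent.Lib.PLocal.ZJ

/-!
# Groups without sections `SL(2,p)` are `p`-stable
-/

set_option autoImplicit false

open Subgroup Cfsg CfsgLib.OddOrder
open scoped commutatorElement

universe u

namespace CfsgLib.Transfer

variable {p : ℕ}

theorem involvesSL2_of_surjective {G H : Type*} [Group G] [Group H] (f : G →* H)
    (hf : Function.Surjective f) (h : InvolvesSL2 p H) : InvolvesSL2 p G := by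
  obtain ⟨K₀, φ, hφ⟩ := h
  refine ⟨K₀.comap f, φ.comp ((f.comp (K₀.comap f).subtype).codRestrict K₀ fun x => x.2), ?_⟩
  refine hφ.comp fun k => ?_
  obtain ⟨g, hg⟩ := hf k.1
  exact ⟨⟨g, show f g ∈ K₀ from hg ▸ k.2⟩, Subtype.ext hg⟩

theorem not_involvesSL2_of_no_section {G : Type*} [Group G]
    (hfree : ¬ ∃ (H K : Subgroup G) (_ : (K.subgroupOf H).Normal),
      Nonempty ((H ⧸ K.subgroupOf H) ≃* Matrix.SpecialLinearGroup (Fin 2) (ZMod p))) :
    ¬ InvolvesSL2 p G := by
  rintro ⟨K₀, f, hf⟩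
  refine hfree ⟨K₀, f.ker.map K₀.subtype, ?_, ?_⟩
  · rw [show (f.ker.map K₀.subtype).subgroupOf K₀ = f.ker from
      comap_map_eq_self_of_injective K₀.subtype_injective _]
    infer_instance
  · have heq : (f.ker.map K₀.subtype).subgroupOf K₀ = f.ker :=
      comap_map_eq_self_of_injective K₀.subtype_injective _
    have hn : ((f.ker.map K₀.subtype).subgroupOf K₀).Normal := by rw [heq]; infer_instance
    exact ⟨(QuotientGroup.quotientMulEquivOfEq heq).trans
      (QuotientGroup.quotientKerEquivOfSurjective f hf)⟩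

/-- An element quadratic on a normal elementary abelian subgroup is in `O_p` of the action. -/
theorem mem_pCore_of_quadratic_elementary [Fact p.Prime] (hp : p ≠ 2) {G : Type u} [Group G]
    [Finite G] (hfree : ¬ InvolvesSL2 p G) (V : Subgroup G) [V.Normal]
    (hV : IsElementaryAbelian p V) {a : G}
    (hq : ⁅⁅V, zpowers a⁆, zpowers a⁆ = ⊥) :
    (QuotientGroup.mk a : G ⧸ centralizer (V : Set G)) ∈
      pCore p (G ⧸ centralizer (V : Set G)) := by
  refine mem_pCore_of_pairs _ fun y => ?_
  obtain ⟨g, rfl⟩ := QuotientGroup.mk'_surjective _ y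
  let π := QuotientGroup.mk' (centralizer (V : Set G))
  have hN : normalizer (V : Set G) = ⊤ := normalizer_eq_top_iff.mpr ‹V.Normal›
  have hmap : Subgroup.closure ({π a, π g * π a * (π g)⁻¹} : Set _) =
      (Subgroup.closure {a, g * a * g⁻¹}).map π := by
    rw [MonoidHom.map_closure, Set.image_pair, map_mul, map_mul, map_inv]
  change IsPGroup p (Subgroup.closure ({π a, π g * π a * (π g)⁻¹} : Set _))
  rw [hmap]
  rcases pair_dichotomy hp V hV _ (hN ▸ le_top) a (g * a * g⁻¹) rfl hq
    (quad_conj (hN ▸ mem_top g) hq) with h | h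
  · rintro ⟨_, x, hx, rfl⟩
    obtain ⟨k, hk⟩ := h x hx
    refine ⟨k, Subtype.ext ?_⟩
    rw [SubmonoidClass.coe_pow, OneMemClass.coe_one, ← map_pow]
    exact (QuotientGroup.eq_one_iff _).mpr hk
  · exact absurd h.of_subgroup hfree

/-- An element quadratic on a normal `p`-subgroup lies in a normal subgroup all of whose
`p'`-elements centralise it. -/
theorem exists_normal_of_quadratic [Fact p.Prime] (hp : p ≠ 2) : ∀ (n : ℕ) (G : Type u) [Group G]
    [Finite G], ¬ InvolvesSL2 p G → ∀ (B : Subgroup G) [B.Normal], Nat.card B ≤ n → IsPGroup p B →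
    ∀ a : G, ⁅⁅B, zpowers a⁆, zpowers a⁆ = ⊥ →
      ∃ D : Subgroup G, D.Normal ∧ a ∈ D ∧
        ∀ d ∈ D, Nat.Coprime (orderOf d) p → d ∈ centralizer (B : Set G) := by
  intro n
  induction n with
  | zero => intro G _ _ _ B _ hn; exact absurd hn (by have := Nat.card_pos (α := B); omega)
  | succ n ih =>
    intro G _ _ hfree B _ hn hB a hq
    by_cases hB0 : B = ⊥
    · exact ⟨⊤, inferInstance, mem_top a, fun d _ _ => by
        subst hB0
        exact mem_centralizer_iff.mpr fun x hx => by rw [mem_bot.mp hx]; simp⟩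
    let V : Subgroup G := omegaOne p (B ⊓ centralizer (B : Set G))
    have hVn : V.Normal := omegaOne_normal (normal_inf_normal B (centralizer (B : Set G)))
    have hVB : V ≤ B := (CfsgLib.PLocal.omegaOne_le p _).trans inf_le_left
    have hVe : IsElementaryAbelian p V := CfsgLib.PLocal.isElementaryAbelian_omegaOne
      (CfsgLib.PLocal.inf_centralizer_le_centralizer B)
    have hVne : V ≠ ⊥ := CfsgLib.PLocal.omegaOne_ne_bot (hB.to_le inf_le_left)
      (inf_centralizer_ne_bot hB hB0)
    have hqV : ⁅⁅V, zpowers a⁆, zpowers a⁆ = ⊥ :=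
      le_bot_iff.mp ((commutator_mono (commutator_mono hVB le_rfl) le_rfl).trans hq.le)
    let π := QuotientGroup.mk' V
    have hπ : Function.Surjective π := QuotientGroup.mk'_surjective V
    have hBn : (B.map π).Normal := Normal.map ‹B.Normal› π hπ
    have hcard : Nat.card (B.map π) ≤ n := by
      have h1 := (V.subgroupOf B).card_mul_index
      rw [Nat.card_congr (subgroupOfEquivOfLe hVB).toEquiv] at h1
      have h2 : 1 < Nat.card V := (one_lt_card_iff_ne_bot V).mpr hVne
      have h3 : (V.subgroupOf B).index = Nat.card (B.map π) := by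
        rw [CfsgLib.PLocal.card_map_mk'_eq_relIndex]; rfl
      rw [h3] at h1
      have h4 : 0 < Nat.card (B.map π) := Nat.card_pos
      nlinarith
    obtain ⟨D₂, hD₂n, haD₂, hD₂⟩ := ih (G ⧸ V) (fun h => hfree (involvesSL2_of_surjective π hπ h))
      (B.map π) hcard (hB.map π) (π a) (by
        rw [← MonoidHom.map_zpowers, ← Subgroup.map_commutator, ← Subgroup.map_commutator, hq,
          Subgroup.map_bot])
    refine ⟨D₂.comap π ⊓ (pCore p (G ⧸ centralizer (V : Set G))).comap (QuotientGroup.mk' _),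
      ?_, ⟨haD₂, mem_pCore_of_quadratic_elementary hp hfree V hVe hqV⟩, ?_⟩
    · exact @normal_inf_normal G _ _ _ (hD₂n.comap π) ((pCore_normal p _).comap _)
    rintro d ⟨hd₂, hd₁'⟩ hdp
    have hd₁ : QuotientGroup.mk' (centralizer (V : Set G)) d ∈
        pCore p (G ⧸ centralizer (V : Set G)) := hd₁'
    have h1 : d ∈ centralizer (V : Set G) := by
      refine (QuotientGroup.eq_one_iff d).mp ?_
      have := eq_one_of_coprime_orderOf
        (CfsgLib.Base.isPGroup_pCore p (G ⧸ centralizer (V : Set G)))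
        (x := (⟨_, hd₁⟩ : pCore p (G ⧸ centralizer (V : Set G))))
        (by rw [orderOf_mk]; exact Nat.Coprime.coprime_dvd_left (orderOf_map_dvd _ d) hdp)
      exact congrArg Subtype.val this
    have h2 := hD₂ _ hd₂ (Nat.Coprime.coprime_dvd_left (orderOf_map_dvd π d) hdp)
    rw [mem_centralizer_iff]
    intro b hb
    have hw : ⁅d, b⁆ ∈ V := by
      refine (QuotientGroup.eq_one_iff _).mp ?_
      change π ⁅d, b⁆ = 1
      rw [map_commutatorElement, commutatorElement_eq_one_iff_mul_comm]
      exact (mem_centralizer_iff.mp h2 _ (mem_map_of_mem π hb)).symm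
    have h3 : d * ⁅d, b⁆ * d⁻¹ = ⁅d, b⁆ :=
      mul_inv_eq_iff_eq_mul.mpr (mem_centralizer_iff.mp h1 _ hw).symm
    obtain ⟨k, hk⟩ := hB ⟨_, hVB hw⟩
    have h4 := eq_one_of_conj_eq_mul hdp ⟨k, congrArg Subtype.val hk⟩ h3
      (show d * b * d⁻¹ = ⁅d, b⁆ * b by rw [commutatorElement_def]; group)
    exact (commutatorElement_eq_one_iff_mul_comm.mp h4).symm

/-- A group without a section `SL(2,p)` is quadratically `p`-stable. -/
theorem quadStable_of_not_involvesSL2 [Fact p.Prime] (hp : p ≠ 2) {G : Type u} [Group G] [Finite G]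
    (hfree : ¬ InvolvesSL2 p G) : CfsgLib.PLocal.QuadStable p G := by
  intro B _ hB a _ hq
  obtain ⟨D, hDn, haD, hD⟩ := exists_normal_of_quadratic hp _ G hfree B le_rfl hB a hq
  let π := QuotientGroup.mk' (centralizer (B : Set G))
  have hDp : IsPGroup p (D.map π) := by
    rintro ⟨_, x, hx, rfl⟩
    obtain ⟨c, -, d, hd', hcd, ⟨j, hj⟩, hdp⟩ := exists_pPart_mul (p := p) x
    have hd1 : π d = 1 := (QuotientGroup.eq_one_iff d).mpr (hD d (zpowers_le.mpr hx hd') hdp)
    refine ⟨j, Subtype.ext ?_⟩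
    rw [SubmonoidClass.coe_pow, OneMemClass.coe_one]
    change (π x) ^ p ^ j = 1
    rw [← hcd, map_mul, hd1, mul_one, ← map_pow, orderOf_dvd_iff_pow_eq_one.mp hj, map_one]
  have hDn' : (D.map π).Normal := hDn.map π (QuotientGroup.mk'_surjective _)
  exact CfsgLib.Base.le_pCore hDp (mem_map_of_mem π haD)

end CfsgLib.Transfer
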