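import Cfsg.Agent.Lib.Transfer.NormalPComplement

/-!
# Fusion in Sylow subgroups and the focal subgroup
-/

set_option autoImplicit false

open Subgroup
open scoped commutatorElement

namespace CfsgLib.Transfer

variable {G : Type*} [Group G] {p : ℕ}

theorem mem_smul_sylow_iff {g x : G} {P : Sylow p G} :
    x ∈ g • P ↔ g⁻¹ * x * g ∈ P := by
  change x ∈ (↑(g • P) : Set G) ↔ _
  rw [Sylow.coe_smul, Set.mem_smul_set_iff_inv_smul_mem]
  simp [MulAut.smul_def, ← map_inv]

theorem mem_coe_smul_sylow_iff {g x : G} {P : Sylow p G} :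
    x ∈ ((g • P : Sylow p G) : Subgroup G) ↔ g⁻¹ * x * g ∈ P :=
  mem_smul_sylow_iff

/-- Two Sylow subgroups lying in a subgroup `K` are conjugate by an element of `K`. -/
theorem exists_smul_eq_of_le [Finite G] [Fact p.Prime] (P Q : Sylow p G) {K : Subgroup G}
    (hP : (P : Subgroup G) ≤ K) (hQ : (Q : Subgroup G) ≤ K) : ∃ k ∈ K, k • P = Q := by
  obtain ⟨k, hk⟩ := MulAction.exists_smul_eq K (P.subtype hP) (Q.subtype hQ)
  rw [Sylow.smul_subtype] at hk
  exact ⟨k, k.2, Sylow.subtype_injective hk⟩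

/-- In a subgroup `K`, every `p`-subgroup is conjugate by an element of `K` into the
intersection with a given Sylow subgroup of `K`. -/
theorem exists_conj_le_of_isPGroup [Finite G] [Fact p.Prime] {K U V : Subgroup G}
    (hU : IsPGroup p U) (_hUK : U ≤ K) (hUmax : ¬ p ∣ U.relIndex K) (hV : IsPGroup p V)
    (hVK : V ≤ K) : ∃ k ∈ K, ∀ v ∈ V, k⁻¹ * v * k ∈ U := by
  have hU' : IsPGroup p (U.subgroupOf K) := hU.comap_subtype
  obtain ⟨R, hR⟩ := (hV.comap_subtype (K := K)).exists_le_sylow
  obtain ⟨k, hk⟩ := MulAction.exists_smul_eq K (hU'.toSylow hUmax) R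
  refine ⟨k, k.2, fun v hv => ?_⟩
  have h1 : (⟨v, hVK hv⟩ : K) ∈ R := hR (mem_subgroupOf.mpr hv)
  rw [← hk, mem_smul_sylow_iff] at h1
  exact h1

/-- Burnside's fusion lemma for normal subsets of a Sylow subgroup. -/
theorem exists_mem_normalizer_image_eq [Finite G] [Fact p.Prime] (P : Sylow p G) {X Y : Set G}
    (hX : (P : Subgroup G) ≤ normalizer X) (hY : (P : Subgroup G) ≤ normalizer Y)
    {g : G} (hg : MulAut.conj g '' X = Y) :
    ∃ n ∈ normalizer ((P : Subgroup G) : Set G),
      MulAut.conj n '' X = Y ∧ ∃ y ∈ normalizer Y, n = y * g := by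
  have hgP : ((g • P : Sylow p G) : Subgroup G) ≤ normalizer Y := by
    intro a ha
    have h1 := hX (mem_coe_smul_sylow_iff.mp ha)
    rw [mem_normalizer_iff_conj_image_eq] at h1 ⊢
    rw [← hg, Set.image_image]
    conv_rhs => rw [← h1, Set.image_image]
    congr 1
    funext x
    simp only [MulAut.conj_apply]
    group
  obtain ⟨y, hy, hyP⟩ := exists_smul_eq_of_le (g • P) P hgP hY
  rw [smul_smul] at hyP
  refine ⟨y * g, Sylow.smul_eq_iff_mem_normalizer.mp hyP, ?_, y, hy, rfl⟩
  rw [map_mul, MulAut.coe_mul, Set.image_comp, hg]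
  exact mem_normalizer_iff_conj_image_eq.mp hy

/-- Burnside: elements of `C(P)` conjugate in `G` are conjugate in `N(P)`. -/
theorem exists_mem_normalizer_conj [Finite G] [Fact p.Prime] (P : Sylow p G) {x y g : G}
    (hx : x ∈ centralizer ((P : Subgroup G) : Set G))
    (hy : y ∈ centralizer ((P : Subgroup G) : Set G)) (hg : g * x * g⁻¹ = y) :
    ∃ n ∈ normalizer ((P : Subgroup G) : Set G), n * x * n⁻¹ = y := by
  subst hg
  obtain ⟨n, hn, h⟩ := P.conj_eq_normalizer_conj_of_mem_centralizer x g⁻¹ hx (by simpa using hy)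
  exact ⟨n⁻¹, inv_mem hn, by simpa using h.symm⟩

/-- A weakly closed subgroup centralised by `P` has a normalizer controlling fusion in `P`. -/
theorem exists_mem_normalizer_conj_of_isWeaklyClosed [Finite G] [Fact p.Prime] (P : Sylow p G)
    {Z : Subgroup G} (hZ : Z ≤ centralizer ((P : Subgroup G) : Set G))
    (hW : Cfsg.IsWeaklyClosed Z (P : Subgroup G)) {A : Set G} (hA : A ⊆ (P : Subgroup G))
    {g : G} (hg : ∀ a ∈ A, g * a * g⁻¹ ∈ (P : Subgroup G)) :
    ∃ n ∈ normalizer (Z : Set G), ∀ a ∈ A, n * a * n⁻¹ = g * a * g⁻¹ := by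
  let K := centralizer (MulAut.conj g '' A)
  have hZK : Z ≤ K := by
    intro z hz
    rw [mem_centralizer_iff]
    rintro _ ⟨a, ha, rfl⟩
    exact hZ hz _ (hg a ha)
  have hgZK : Z.map (MulAut.conj g).toMonoidHom ≤ K := by
    rintro _ ⟨z, hz, rfl⟩
    rw [mem_centralizer_iff]
    rintro _ ⟨a, ha, rfl⟩
    change MulAut.conj g a * MulAut.conj g z = MulAut.conj g z * MulAut.conj g a
    rw [← map_mul, ← map_mul, hZ hz a (hA ha)]
  have hZp : IsPGroup p Z := P.2.to_le hW.1
  -- a Sylow subgroup of `K` containing `Z`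
  obtain ⟨R, hR⟩ := (hZp.comap_subtype (K := K)).exists_le_sylow
  have hRp : IsPGroup p ((R : Subgroup K).map K.subtype) := R.2.map _
  have hRK : (R : Subgroup K).map K.subtype ≤ K := map_subtype_le _
  have hZR : Z ≤ (R : Subgroup K).map K.subtype :=
    fun z hz => ⟨⟨z, hZK hz⟩, hR (mem_subgroupOf.mpr hz), rfl⟩
  have hRmax : ¬ p ∣ ((R : Subgroup K).map K.subtype).relIndex K := by
    rw [relIndex, subgroupOf, comap_map_eq_self_of_injective K.subtype_injective]
    exact R.not_dvd_index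
  obtain ⟨k, hk, hkZ⟩ := exists_conj_le_of_isPGroup hRp hRK hRmax (hZp.map _) hgZK
  obtain ⟨S, hS⟩ := hRp.exists_le_sylow
  obtain ⟨s, hs⟩ := MulAction.exists_smul_eq G S P
  -- conjugating by `s` moves everything into `P`
  have key : ∀ v : G, (∀ z ∈ Z, v * z * v⁻¹ ∈ (S : Subgroup G)) →
      Z.map (MulAut.conj (s * v)).toMonoidHom = Z := by
    intro v hv
    refine hW.2 _ ?_
    rintro _ ⟨z, hz, rfl⟩
    rw [← hs, mem_coe_smul_sylow_iff]
    have e : s⁻¹ * (MulAut.conj (s * v)).toMonoidHom z * s = v * z * v⁻¹ := by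
      simp only [MulEquiv.coe_toMonoidHom, MulAut.conj_apply]
      group
    rw [e]
    exact hv z hz
  have e1 := key 1 (fun z hz => by simpa using hS (hZR hz))
  have e2 := key (k⁻¹ * g) (fun z hz => by
    have h := hS (hkZ _ ⟨z, hz, rfl⟩)
    convert h using 1
    simp only [MulEquiv.coe_toMonoidHom, MulAut.conj_apply]
    group)
  rw [mul_one] at e1
  have m1 : s ∈ normalizer (Z : Set G) := mem_normalizer_iff_map_conj_eq.mpr e1
  have m2 : s * (k⁻¹ * g) ∈ normalizer (Z : Set G) := mem_normalizer_iff_map_conj_eq.mpr e2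
  refine ⟨k⁻¹ * g, (mul_mem_cancel_left m1).mp m2, fun a ha => ?_⟩
  have hc := hk (MulAut.conj g a) ⟨a, ha, rfl⟩
  simp only [MulAut.conj_apply] at hc
  calc k⁻¹ * g * a * (k⁻¹ * g)⁻¹ = k⁻¹ * (g * a * g⁻¹ * k) := by group
    _ = k⁻¹ * (k * (g * a * g⁻¹)) := by rw [hc]
    _ = g * a * g⁻¹ := by group

/-- If `H` controls the fusion of elements of `P`, the focal subgroup of `P` is contained in the
commutator subgroup of `H`. -/
theorem focalSubgroup_le_of_fusion {P H : Subgroup G} (_hPH : P ≤ H)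
    (h : ∀ x ∈ P, ∀ g : G, g * x * g⁻¹ ∈ P → ∃ k ∈ H, k * x * k⁻¹ = g * x * g⁻¹) :
    Subgroup.focalSubgroup P ≤ ⁅P, H⁆ := by
  rw [focalSubgroup_def, closure_le]
  rintro z ⟨hz, x, hx, u, rfl⟩
  have hmem : u * x⁻¹ * u⁻¹ ∈ P := by
    have := mul_mem (inv_mem hx) hz
    rw [commutatorElement_def] at this
    simpa [mul_assoc] using this
  obtain ⟨k, hk, hk'⟩ := h x⁻¹ (inv_mem hx) u hmem
  have : ⁅x, u⁆ = ⁅x, k⁆ := by
    rw [commutatorElement_def, commutatorElement_def,
      show x * u * x⁻¹ * u⁻¹ = x * (u * x⁻¹ * u⁻¹) by group, ← hk']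
    group
  rw [this]
  exact commutator_mem_commutator hx hk

/-- Focal subgroup theorem for a subgroup controlling the fusion of elements of a Sylow
subgroup. -/
theorem commutator_inf_eq_of_fusion [Finite G] [Fact p.Prime] (P : Sylow p G) {H : Subgroup G}
    (hPH : (P : Subgroup G) ≤ H)
    (h : ∀ x ∈ (P : Subgroup G), ∀ g : G, g * x * g⁻¹ ∈ (P : Subgroup G) →
      ∃ k ∈ H, k * x * k⁻¹ = g * x * g⁻¹) :
    commutator G ⊓ (P : Subgroup G) = ⁅H, H⁆ ⊓ (P : Subgroup G) := by
  refine le_antisymm (le_inf ?_ inf_le_right) (inf_le_inf_right _ (commutator_mono le_top le_top))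
  rw [commutator_inf_eq_focalSubgroup]
  exact (focalSubgroup_le_of_fusion hPH h).trans (commutator_mono hPH le_rfl)

/-- The intersection of a Sylow subgroup with `O^p(G)` lies in its focal subgroup. -/
theorem inf_pResidual_le_focalSubgroup [Finite G] [Fact p.Prime] (P : Sylow p G) :
    (P : Subgroup G) ⊓ Cfsg.pResidual p G ≤ Subgroup.focalSubgroup (P : Subgroup G) := by
  rw [inf_comm, ← ker_transferFocal_inf_eq_focalSubgroup P]
  refine inf_le_inf_right _ (pResidual_le ?_)
  rw [index_ker]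
  refine IsPGroup.iff_card.mp ?_
  exact (P.2.to_quotient _).to_subgroup _

/-- Burnside: for an abelian Sylow subgroup the focal subgroup is `[P, N(P)]`. -/
theorem focalSubgroup_eq_of_isMulCommutative [Finite G] [Fact p.Prime] (P : Sylow p G)
    (hP : IsMulCommutative P) :
    Subgroup.focalSubgroup (P : Subgroup G) =
      ⁅(P : Subgroup G), normalizer ((P : Subgroup G) : Set G)⁆ := by
  apply le_antisymm
  · refine focalSubgroup_le_of_fusion le_normalizer fun x hx g hg => ?_
    obtain ⟨n, hn, h⟩ := P.conj_eq_normalizer_conj_of_mem x g⁻¹ hx (by rw [inv_inv]; exact hg)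
    exact ⟨n⁻¹, inv_mem hn, by simpa using h.symm⟩
  · rw [commutator_le]
    intro x hx n hn
    rw [focalSubgroup_def]
    refine subset_closure ⟨?_, x, hx, n, rfl⟩
    rw [commutatorElement_def, mul_assoc (x * n), mul_assoc x, ← mul_assoc n]
    exact mul_mem hx ((mem_set_normalizer_iff.mp hn _).mp (inv_mem hx))

/-- If the fusion of elements of `P` is controlled by `P`, there is a normal `p`-complement. -/
theorem hasNormalPComplement_of_fusion [Finite G] [hp : Fact p.Prime] (P : Sylow p G)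
    (h : ∀ x ∈ (P : Subgroup G), ∀ g : G, g * x * g⁻¹ ∈ (P : Subgroup G) →
      ∃ k ∈ (P : Subgroup G), k * x * k⁻¹ = g * x * g⁻¹) :
    Cfsg.HasNormalPComplement p G := by
  rw [hasNormalPComplement_iff_inf_eq_bot P]
  let K := Cfsg.pResidual p G
  have hKn : K.Normal := pResidual_normal
  let Q : Subgroup K := (P : Subgroup G).subgroupOf K
  have hQ : ¬ p ∣ Q.index := not_dvd_index_subgroupOf_of_normal P K
  let S : Sylow p K := (P.2.comap_subtype (K := K)).toSylow hQ
  -- `O^p(K) = K`, so `S` is its own focal subgroup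
  have hres : Cfsg.pResidual p K = ⊤ := by
    apply map_injective K.subtype_injective
    rw [← MonoidHom.range_eq_map, range_subtype]
    refine le_antisymm (map_subtype_le _) ?_
    refine (closure_le _).mpr fun g hg => ⟨⟨g, mem_pResidual_of_coprime hg⟩, ?_, rfl⟩
    refine mem_pResidual_of_coprime ?_
    rwa [← orderOf_injective K.subtype K.subtype_injective]
  have hfoc : (S : Subgroup K) ≤ Subgroup.focalSubgroup (S : Subgroup K) := by
    have := inf_pResidual_le_focalSubgroup S
    rwa [hres, inf_top_eq] at this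
  let PK : Subgroup G := (P : Subgroup G) ⊓ K
  have h1 : PK ≤ ⁅PK, (P : Subgroup G)⁆ := by
    intro x hx
    have hxS : (⟨x, hx.2⟩ : K) ∈ Subgroup.focalSubgroup (S : Subgroup K) :=
      hfoc (show (⟨x, hx.2⟩ : K) ∈ Q from mem_subgroupOf.mpr hx.1)
    have key : (Subgroup.focalSubgroup (S : Subgroup K)).map K.subtype ≤
        ⁅PK, (P : Subgroup G)⁆ := by
      rw [focalSubgroup_def, MonoidHom.map_closure, closure_le]
      rintro _ ⟨z, ⟨hz, a, ha, u, rfl⟩, rfl⟩
      have ha' : (a : G) ∈ (P : Subgroup G) := mem_subgroupOf.mp (show a ∈ Q from ha)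
      have hz' : ⁅(a : G), (u : G)⁆ ∈ (P : Subgroup G) :=
        mem_subgroupOf.mp (show ⁅a, u⁆ ∈ Q from hz)
      have hmem : (u : G) * (a : G)⁻¹ * (u : G)⁻¹ ∈ (P : Subgroup G) := by
        have := mul_mem (inv_mem ha') hz'
        rw [commutatorElement_def] at this
        simpa [mul_assoc] using this
      obtain ⟨k, hk, hk'⟩ := h _ (inv_mem ha') u hmem
      have : K.subtype ⁅a, u⁆ = ⁅(a : G), k⁆ := by
        rw [map_commutatorElement, commutatorElement_def, commutatorElement_def]
        simp only [coe_subtype]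
        calc (a : G) * u * (a : G)⁻¹ * (u : G)⁻¹ = a * ((u : G) * (a : G)⁻¹ * (u : G)⁻¹) := by
              group
          _ = a * (k * (a : G)⁻¹ * k⁻¹) := by rw [hk']
          _ = _ := by group
      rw [this]
      exact commutator_mem_commutator ⟨ha', a.2⟩ hk
    exact key ⟨_, hxS, rfl⟩
  -- a normal subgroup `R` of the nilpotent group `P` with `R ≤ [R, P]` is trivial
  have hnil : Group.IsNilpotent (P : Subgroup G) := P.2.isNilpotent
  obtain ⟨n, hn⟩ := Subgroup.nilpotent_iff_lowerCentralSeries.mp hnil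
  have h2 : ∀ m, PK ≤ ((⊤ : Subgroup (P : Subgroup G)).lowerCentralSeries m).map
      (P : Subgroup G).subtype := by
    intro m
    induction m with
    | zero =>
      rw [Subgroup.lowerCentralSeries_zero, ← MonoidHom.range_eq_map, range_subtype]
      exact inf_le_left
    | succ m ih =>
      rw [Subgroup.lowerCentralSeries_succ, map_commutator, ← MonoidHom.range_eq_map, range_subtype]
      exact h1.trans (commutator_mono ih le_rfl)
  have := h2 n
  rw [hn, Subgroup.map_bot] at this
  exact le_bot_iff.mp this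

end CfsgLib.Transfer
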