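import Cfsg.Agent.Lib.Transfer.NormalPComplement

/-!
# The Thompson transfer lemma
-/

set_option autoImplicit false

open Subgroup

namespace CfsgLib.Transfer

variable {G : Type*} [Group G] [Finite G]

/-- A two-torsion element without fixed points on a set of `2 * odd` points is an odd
permutation. -/
theorem sign_eq_neg_one_of_fixedPointFree {α : Type*} [Fintype α] [DecidableEq α]
    {σ : Equiv.Perm α} (hσ : σ ^ 2 = 1) (hfix : ∀ a, σ a ≠ a) {m : ℕ} (hm : Odd m)
    (hcard : Fintype.card α = 2 * m) : Equiv.Perm.sign σ = -1 := by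
  rw [Equiv.Perm.sign_of_pow_two_eq_one hσ,
    Fintype.card_eq_zero_iff.mpr (⟨fun a => hfix a.1 a.2⟩ : IsEmpty (Function.fixedPoints σ)),
    hcard, Nat.sub_zero, Nat.mul_div_cancel_left m (by norm_num : 0 < 2), hm.neg_one_pow]

/-- **Thompson transfer lemma**: an involution which has no conjugate in a subgroup `Q` of index
`2` in a Sylow 2-subgroup lies outside a normal subgroup of index `2`. -/
theorem exists_index_two_of_not_conj_mem (P : Sylow 2 G) {Q : Subgroup G}
    (hQP : Q ≤ (P : Subgroup G)) (hQi : Q.relIndex (P : Subgroup G) = 2) {u : G}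
    (hu : orderOf u = 2) (hno : ∀ g : G, g * u * g⁻¹ ∉ Q) :
    ∃ M : Subgroup G, M.Normal ∧ M.index = 2 ∧ u ∉ M := by
  classical
  have hu2 : u ^ 2 = 1 := by rw [← hu]; exact pow_orderOf_eq_one u
  let _ : Fintype (G ⧸ Q) := Fintype.ofFinite _
  let φ : G →* ℤˣ := Equiv.Perm.sign.comp (MulAction.toPermHom G (G ⧸ Q))
  have hφu : φ u = -1 := by
    refine sign_eq_neg_one_of_fixedPointFree ?_ ?_ (m := (P : Subgroup G).index) ?_ ?_
    · rw [← map_pow, hu2, map_one]
    · intro a
      induction a using Quotient.inductionOn' with | _ g =>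
      intro h
      have h' : ((u * g : G) : G ⧸ Q) = (g : G ⧸ Q) := h
      rw [QuotientGroup.eq] at h'
      refine hno g⁻¹ ?_
      rw [inv_inv]
      have := inv_mem h'
      rwa [mul_inv_rev, inv_inv, ← mul_assoc] at this
      -- `g⁻¹ * u * g` is the conjugate in question
    · exact Nat.not_even_iff_odd.mp fun he => P.not_dvd_index (even_iff_two_dvd.mp he)
    · rw [← Nat.card_eq_fintype_card, ← index, ← relIndex_mul_index hQP, hQi]
  refine ⟨φ.ker, inferInstance, ?_, ?_⟩
  · have hne : φ u ≠ 1 := by rw [hφu]; decide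
    have hr : φ.range = ⊤ := by
      rw [eq_top_iff]
      intro x _
      rcases Int.units_eq_one_or x with rfl | rfl
      · exact one_mem _
      · exact ⟨u, hφu⟩
    rw [index_ker, hr, Subgroup.card_top, Nat.card_eq_fintype_card, Fintype.card_units_int]
  · rw [MonoidHom.mem_ker, hφu]
    decide

end CfsgLib.Transfer
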