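import Cfsg.Agent.Lib.Transfer.ZJElementary

/-!
# The Glauberman–Thompson normal `p`-complement theorem
-/

set_option autoImplicit false

open Subgroup Cfsg CfsgLib.PLocal

universe u

namespace CfsgLib.Transfer

/-- A functorial choice of a nontrivial subgroup in each `p`-group. -/
structure SubgroupFunctor (p : ℕ) (K : ∀ (G : Type u) [Group G], Subgroup G → Subgroup G) :
    Prop where
  le : ∀ (G : Type u) [Group G] [Finite G] (R : Subgroup G), K G R ≤ R
  map : ∀ (G H : Type u) [Group G] [Group H] [Finite G] [Finite H] (f : G →* H) (R : Subgroup G),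
    Function.Injective (f.comp R.subtype) → (K G R).map f = K H (R.map f)
  ne_bot : ∀ (G : Type u) [Group G] [Finite G] (R : Subgroup G), IsPGroup p R → R ≠ ⊥ → K G R ≠ ⊥

variable {p : ℕ} {K : ∀ (G : Type u) [Group G], Subgroup G → Subgroup G}

theorem SubgroupFunctor.normalizer_le (hK : SubgroupFunctor p K) {G : Type u} [Group G] [Finite G]
    (R : Subgroup G) : normalizer (R : Set G) ≤ normalizer (K G R : Set G) := by
  intro g hg
  rw [mem_normalizer_iff_map_conj_eq] at hg ⊢
  rw [hK.map G G _ R ((MulAut.conj g).injective.comp R.subtype_injective), hg]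

theorem SubgroupFunctor.localCondition [Fact p.Prime] (hK : SubgroupFunctor p K) :
    LocalCondition p
      (fun (G : Type u) [Group G] R => HasNormalPComplement p (normalizer (K G R : Set G))) where
  mono := by
    intro G _ _ U R _ hRU h
    have e1 : K U (R.subgroupOf U) = (K G R).subgroupOf U := by
      apply map_injective U.subtype_injective
      rw [hK.map U G U.subtype _ (U.subtype_injective.comp (R.subgroupOf U).subtype_injective),
        map_subgroupOf_eq_of_le hRU, map_subgroupOf_eq_of_le ((hK.le G R).trans hRU)]
    rw [e1, ← subgroupOf_normalizer_eq ((hK.le G R).trans hRU)]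
    exact hasNormalPComplement_subgroupOf h
  quot := by
    intro G _ _ P N _ hN h
    rw [← hK.map G (G ⧸ N) (QuotientGroup.mk' N) _ (injective_mk'_comp_subtype N hN P.2),
      ← map_normalizer_mk' N hN (P.2.to_le (hK.le G _))]
    exact hasNormalPComplement_of_surjective ((QuotientGroup.mk' N).subgroupMap _)
      ((QuotientGroup.mk' N).subgroupMap_surjective _) h
  of_local := by
    intro G _ _ R hR hRne hQ
    exact hQ _ (hK.le G R) (hK.ne_bot G R hR hRne) (hK.normalizer_le R)
  of_normal := by
    intro G _ _ P hP h
    have e : normalizer (K G (P : Subgroup G) : Set G) = ⊤ :=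
      top_le_iff.mp ((normalizer_eq_top_iff.mpr hP).ge.trans (hK.normalizer_le _))
    rw [e] at h
    exact (hasNormalPComplement_congr topEquiv).mp h

/-- A functor normal in `p`-stable `p`-constrained groups controls normal `p`-complements. -/
theorem SubgroupFunctor.hasNormalPComplement [Fact p.Prime] (hK : SubgroupFunctor p K)
    (hp2 : p ≠ 2)
    (hnormal : ∀ (G : Type u) [Group G] [Finite G],
      centralizer (pCore p G : Set G) ≤ pCore p G → QuadStable p G →
      ∀ S : Sylow p G, (K G (S : Subgroup G)).Normal)
    {G : Type u} [Group G] [Finite G] (P : Sylow p G)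
    (h : HasNormalPComplement p (normalizer (K G (P : Subgroup G) : Set G))) :
    HasNormalPComplement p G := by
  refine hasNormalPComplement_of_localCondition hK.localCondition
    (fun H _ _ Q hm hcd => hm.not_comp ?_) P h
  have hn := hnormal H hm.centralizer_le
    (quadStable_of_isPStableOn fun V _ hV => hm.isPStableOn hp2 V hV) Q
  rw [normalizer_eq_top_iff.mpr hn] at hcd
  exact (hasNormalPComplement_congr topEquiv).mp hcd

theorem map_centerThompsonOf {G H : Type u} [Group G] [Group H] (f : G →* H) (R : Subgroup G)
    (hf : Function.Injective (f.comp R.subtype)) :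
    (centerThompsonOf p R).map f = centerThompsonOf p (R.map f) := by
  have e : ∀ {X : Type u} [Group X] (φ : R →* X), Function.Injective φ →
      (centerThompsonOf p (⊤ : Subgroup R)).map φ = centerThompsonOf p ((⊤ : Subgroup R).map φ) := by
    intro X _ φ hφ
    rw [centerThompsonOf, centerThompsonOf, map_inf_centralizer hφ, map_thompsonSubgroupOf hφ]
  have h1 := e R.subtype R.subtype_injective
  rw [← MonoidHom.range_eq_map, range_subtype] at h1
  rw [← h1, Subgroup.map_map, e _ hf, ← Subgroup.map_map, ← MonoidHom.range_eq_map, range_subtype]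

theorem subgroupFunctor_centerThompsonOf [Fact p.Prime] :
    SubgroupFunctor.{u} p (fun G _ R => centerThompsonOf p R) where
  le _ _ _ R := centerThompsonOf_le R
  map _ _ _ _ _ _ f R hf := map_centerThompsonOf f R hf
  ne_bot _ _ _ R hR hne :=
    inf_centralizer_ne_bot (hR.to_le (thompsonSubgroupOf_le p R))
      (thompsonSubgroupOf_ne_bot hR hne)

theorem subgroupFunctor_centerThompsonAOf [Fact p.Prime] :
    SubgroupFunctor.{u} p (fun G _ R => centerThompsonAOf R) where
  le G _ _ R := by rw [centerThompsonAOf_eq]; exact maxCenter_le 0 R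
  map G H _ _ _ _ f R hf := by
    rw [centerThompsonAOf_eq, centerThompsonAOf_eq]
    exact map_maxCenter_of_injective f R hf
  ne_bot G _ _ R hR hne := by
    rw [centerThompsonAOf_eq]
    intro h
    refine inf_centralizer_ne_bot hR hne (le_bot_iff.mp (h ▸ fun x hx => ?_))
    exact mem_maxCenter hx.1 (pow_zero x) fun A hA a ha => mem_centralizer_iff.mp hx.2 a (hA.1 ha)

/-- **Glauberman–Thompson**: `N(Z(J(P)))` decides normal `p`-complements (elementary `J`). -/
theorem hasNormalPComplement_of_centerThompsonOf [Fact p.Prime] (hp2 : p ≠ 2) {G : Type u}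
    [Group G] [Finite G] (P : Sylow p G)
    (h : HasNormalPComplement p (normalizer (centerThompsonOf p (P : Subgroup G) : Set G))) :
    HasNormalPComplement p G :=
  subgroupFunctor_centerThompsonOf.hasNormalPComplement hp2
    (fun _ _ _ hc hst S => centerThompsonOf_normal hp2 hc hst S) P h

/-- **Glauberman–Thompson** for the abelian version of `J`. -/
theorem hasNormalPComplement_of_centerThompsonAOf [Fact p.Prime] (hp2 : p ≠ 2) {G : Type u}
    [Group G] [Finite G] (P : Sylow p G)
    (h : HasNormalPComplement p (normalizer (centerThompsonAOf (P : Subgroup G) : Set G))) :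
    HasNormalPComplement p G :=
  subgroupFunctor_centerThompsonAOf.hasNormalPComplement hp2
    (fun X _ _ hc hst S => by
      rw [centerThompsonAOf_eq]
      have := maxCenter_characteristic (e := 0) hp2 (Or.inr rfl) hc hst S
      infer_instance) P h

end CfsgLib.Transfer
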