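import Cfsg.Agent.Lib.Transfer.Alperin

/-!
# Burnside-type consequences for abelian Sylow subgroups
-/

set_option autoImplicit false

open Subgroup

namespace CfsgLib.Transfer

variable {G : Type*} [Group G] [Finite G] {p : ℕ}

/-- An automorphism of prime order `q ≠ p` of a `p`-group of order `p ^ a` forces `q` to divide
some `p ^ j - 1` with `1 ≤ j ≤ a`. -/
theorem exists_dvd_pow_sub_one_of_mulAut {P : Type*} [Group P] [Finite P] [hp : Fact p.Prime]
    {a : ℕ} (ha : Nat.card P = p ^ a) {q : ℕ} [hq : Fact q.Prime] (hqp : q ≠ p) {f : MulAut P}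
    (hf : orderOf f = q) : ∃ j, 1 ≤ j ∧ j ≤ a ∧ q ∣ p ^ j - 1 := by
  have hfp : IsPGroup q (zpowers f) :=
    IsPGroup.of_card (n := 1) (by rw [Nat.card_zpowers, hf, pow_one])
  let F : Subgroup P :=
    { carrier := MulAction.fixedPoints (zpowers f) P
      mul_mem' := fun {x y} hx hy σ => by
        change (σ : MulAut P) (x * y) = x * y
        rw [map_mul]
        exact congrArg₂ (· * ·) (hx σ) (hy σ)
      one_mem' := fun σ => map_one (σ : MulAut P)
      inv_mem' := fun {x} hx σ => by
        change (σ : MulAut P) x⁻¹ = x⁻¹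
        rw [map_inv]
        exact congrArg (·⁻¹) (hx σ) }
  have hmod : Nat.card P ≡ Nat.card F [MOD q] := hfp.card_modEq_card_fixedPoints P
  obtain ⟨k, hka, hk⟩ := (Nat.dvd_prime_pow hp.out).mp (ha ▸ card_subgroup_dvd_card F)
  have hlt : k < a := by
    refine lt_of_le_of_ne hka fun hka' => ?_
    have hFtop : F = ⊤ := eq_top_of_card_eq _ (by rw [hk, ha, hka'])
    have hf1 : f = 1 := by
      refine MulEquiv.ext fun x => ?_
      exact (hFtop ▸ mem_top x : x ∈ F) ⟨f, mem_zpowers f⟩
    rw [hf1, orderOf_one] at hf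
    exact hq.out.ne_one hf.symm
  refine ⟨a - k, by omega, by omega, ?_⟩
  rw [ha, hk] at hmod
  have h1 : q ∣ p ^ a - p ^ k :=
    (Nat.modEq_iff_dvd' (Nat.pow_le_pow_right hp.out.pos hka)).mp hmod.symm
  rw [show p ^ a - p ^ k = p ^ k * (p ^ (a - k) - 1) by
    rw [Nat.mul_sub, ← pow_add, Nat.add_sub_cancel' hka, mul_one]] at h1
  refine ((hq.out.dvd_mul).mp h1).resolve_left fun h => hqp ?_
  exact (Nat.prime_dvd_prime_iff_eq hq.out hp.out).mp (hq.out.dvd_of_dvd_pow h)

/-- If an abelian Sylow `p`-subgroup of order `p ^ a` has no normal complement, some prime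
divisor `q ≠ p` of the group order divides some `p ^ j - 1` with `1 ≤ j ≤ a`. -/
theorem exists_prime_dvd_of_not_hasNormalPComplement [hp : Fact p.Prime] (P : Sylow p G)
    (hP : IsMulCommutative P) (h : ¬ Cfsg.HasNormalPComplement p G) {a : ℕ}
    (ha : Nat.card P = p ^ a) :
    ∃ q, q.Prime ∧ q ≠ p ∧ q ∣ Nat.card G ∧ ∃ j, 1 ≤ j ∧ j ≤ a ∧ q ∣ p ^ j - 1 := by
  let N : Subgroup G := normalizer ((P : Subgroup G) : Set G)
  have hex : ∃ n : N, Nat.Coprime (orderOf n) p ∧ (P : Subgroup G).normalizerMonoidHom n ≠ 1 := by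
    by_contra hno
    push Not at hno
    apply h
    refine hasNormalPComplement_of_normalizer_le_centralizer P fun g hg => ?_
    have hker : ∀ n : N, n ∈ (P : Subgroup G).normalizerMonoidHom.ker := by
      intro n
      have hmem : n ∈ ((P.subtype le_normalizer : Sylow p N) : Subgroup N) ⊔ Cfsg.pResidual p N := by
        rw [sup_pResidual_eq_top]
        exact mem_top _
      have hle : ((P.subtype le_normalizer : Sylow p N) : Subgroup N) ⊔ Cfsg.pResidual p N ≤
          (P : Subgroup G).normalizerMonoidHom.ker := by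
        refine sup_le ?_ ((closure_le _).mpr fun x hx => hno x hx)
        intro x hx
        rw [normalizerMonoidHom_ker, mem_subgroupOf]
        exact P.le_centralizer hx
      exact hle hmem
    have := hker ⟨g, hg⟩
    rwa [normalizerMonoidHom_ker, mem_subgroupOf] at this
  obtain ⟨n, hn, hn1⟩ := hex
  obtain ⟨q, hq, hqd⟩ := Nat.exists_prime_and_dvd (n := orderOf ((P : Subgroup G).normalizerMonoidHom n))
    (by rwa [Ne, orderOf_eq_one_iff])
  have hqn : q ∣ orderOf n := hqd.trans (orderOf_map_dvd _ n)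
  have hqp : q ≠ p := by
    rintro rfl
    exact coprime_orderOf_iff.mp hn hqn
  refine ⟨q, hq, hqp, hqn.trans ((orderOf_dvd_natCard n).trans (card_subgroup_dvd_card N)), ?_⟩
  have : Fact q.Prime := ⟨hq⟩
  have hpos : orderOf ((P : Subgroup G).normalizerMonoidHom n) ≠ 0 := (orderOf_pos _).ne'
  exact exists_dvd_pow_sub_one_of_mulAut ha hqp (orderOf_pow_orderOf_div hpos hqd)

/-- A non-abelian simple group has no normal `p`-complement for a prime divisor `p` of its
order. -/
theorem not_hasNormalPComplement_of_isSimpleGroup [hp : Fact p.Prime] [IsSimpleGroup G]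
    (hG : ∃ x y : G, x * y ≠ y * x) (hdvd : p ∣ Nat.card G) :
    ¬ Cfsg.HasNormalPComplement p G := by
  intro h
  obtain ⟨N, hN, h1, k, hk⟩ := hasNormalPComplement_iff_exists.mp h
  rcases hN.eq_bot_or_eq_top with rfl | rfl
  · -- `G` is a `p`-group
    rw [index_bot] at hk
    have hG' : IsPGroup p G := IsPGroup.of_card hk
    have hne : center G ≠ ⊥ := (nontrivial_iff_ne_bot _).mp hG'.center_nontrivial
    have htop := ((inferInstance : (center G).Normal).eq_bot_or_eq_top).resolve_left hne
    obtain ⟨x, y, hxy⟩ := hG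
    exact hxy ((mem_center_iff.mp (htop ▸ mem_top y)) x)
  · rw [Subgroup.card_top] at h1
    exact h1 hdvd

end CfsgLib.Transfer
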