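import Cfsg.Agent.Lib.Transfer.Alperin

/-!
# Control of fusion determines `P ∩ O^p(G)`
-/

set_option autoImplicit false

open Subgroup
open scoped commutatorElement

namespace CfsgLib.Transfer

variable {G : Type*} [Group G] {p : ℕ}

/-- In a nilpotent group, a subgroup contained in its commutator with the whole group is
trivial. -/
theorem eq_bot_of_le_commutator_top [Group.IsNilpotent G] {H : Subgroup G}
    (h : H ≤ ⁅H, (⊤ : Subgroup G)⁆) : H = ⊥ := by
  obtain ⟨n, hn⟩ := Subgroup.nilpotent_iff_lowerCentralSeries.mp ‹Group.IsNilpotent G›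
  have h2 : ∀ m, H ≤ (⊤ : Subgroup G).lowerCentralSeries m := by
    intro m
    induction m with
    | zero => rw [Subgroup.lowerCentralSeries_zero]; exact le_top
    | succ m ih =>
      rw [Subgroup.lowerCentralSeries_succ]
      exact h.trans (commutator_mono ih le_rfl)
  exact le_bot_iff.mp (hn ▸ h2 n)

/-- If `V` controls the fusion of elements of `P` then `P ∩ O^p(G) ≤ O^p(V)`. -/
theorem inf_pResidual_le_of_fusion [Finite G] [hp : Fact p.Prime] (P : Sylow p G) {V : Subgroup G}
    (hPV : (P : Subgroup G) ≤ V)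
    (h : ∀ x ∈ (P : Subgroup G), ∀ g : G, g * x * g⁻¹ ∈ (P : Subgroup G) →
      ∃ k ∈ V, k * x * k⁻¹ = g * x * g⁻¹) :
    (P : Subgroup G) ⊓ Cfsg.pResidual p G ≤ (Cfsg.pResidual p V).map V.subtype := by
  let K := Cfsg.pResidual p G
  have hKn : K.Normal := pResidual_normal
  let Q : Subgroup K := (P : Subgroup G).subgroupOf K
  let S : Sylow p K :=
    (P.2.comap_subtype (K := K)).toSylow (not_dvd_index_subgroupOf_of_normal P K)
  have hres : Cfsg.pResidual p K = ⊤ := by
    apply map_injective K.subtype_injective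
    rw [← MonoidHom.range_eq_map, range_subtype]
    refine le_antisymm (map_subtype_le _) ?_
    refine (closure_le _).mpr fun g hg => ⟨⟨g, mem_pResidual_of_coprime hg⟩, ?_, rfl⟩
    refine mem_pResidual_of_coprime ?_
    rwa [← orderOf_injective K.subtype K.subtype_injective]
  have hfoc : (S : Subgroup K) ≤ Subgroup.focalSubgroup (S : Subgroup K) := by
    have := inf_pResidual_le_focalSubgroup S
    rwa [hres, inf_top_eq] at this
  let PK : Subgroup G := (P : Subgroup G) ⊓ K
  have h1 : PK ≤ ⁅PK, V⁆ := by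
    intro x hx
    have hxS : (⟨x, hx.2⟩ : K) ∈ Subgroup.focalSubgroup (S : Subgroup K) :=
      hfoc (show (⟨x, hx.2⟩ : K) ∈ Q from mem_subgroupOf.mpr hx.1)
    have key : (Subgroup.focalSubgroup (S : Subgroup K)).map K.subtype ≤ ⁅PK, V⁆ := by
      rw [focalSubgroup_def, MonoidHom.map_closure, closure_le]
      rintro _ ⟨z, ⟨hz, a, ha, u, rfl⟩, rfl⟩
      have ha' : (a : G) ∈ (P : Subgroup G) := mem_subgroupOf.mp (show a ∈ Q from ha)
      have hz' : ⁅(a : G), (u : G)⁆ ∈ (P : Subgroup G) :=
        mem_subgroupOf.mp (show ⁅a, u⁆ ∈ Q from hz)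
      have hmem : (u : G) * (a : G)⁻¹ * (u : G)⁻¹ ∈ (P : Subgroup G) := by
        have := mul_mem (inv_mem ha') hz'
        rw [commutatorElement_def] at this
        simpa [mul_assoc] using this
      obtain ⟨k, hk, hk'⟩ := h _ (inv_mem ha') u hmem
      have : K.subtype ⁅a, u⁆ = ⁅(a : G), k⁆ := by
        rw [map_commutatorElement, commutatorElement_def, commutatorElement_def]
        simp only [coe_subtype]
        calc (a : G) * u * (a : G)⁻¹ * (u : G)⁻¹ = a * ((u : G) * (a : G)⁻¹ * (u : G)⁻¹) := by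
              group
          _ = a * (k * (a : G)⁻¹ * k⁻¹) := by rw [hk']
          _ = _ := by group
      rw [this]
      exact commutator_mem_commutator ⟨ha', a.2⟩ hk
    exact key ⟨_, hxS, rfl⟩
  have hRn := pResidual_normal (G := V) (p := p)
  let π := QuotientGroup.mk' (Cfsg.pResidual p V)
  have hnil : Group.IsNilpotent (V ⧸ Cfsg.pResidual p V) :=
    (isPGroup_quotient_pResidual (G := V) (p := p)).isNilpotent
  have hPKV : PK ≤ V := inf_le_left.trans hPV
  have h2 : PK.subgroupOf V ≤ ⁅PK.subgroupOf V, (⊤ : Subgroup V)⁆ := by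
    rw [← map_subtype_le_map_subtype, map_subgroupOf_eq_of_le hPKV, map_commutator,
      map_subgroupOf_eq_of_le hPKV, ← MonoidHom.range_eq_map, range_subtype]
    exact h1
  have h3 := eq_bot_of_le_commutator_top (H := (PK.subgroupOf V).map π) (by
    refine (map_mono h2).trans ?_
    rw [map_commutator]
    exact commutator_mono le_rfl le_top)
  intro x hx
  have hxV : x ∈ V := hPKV hx
  have : π ⟨x, hxV⟩ = 1 := by
    rw [← mem_bot, ← h3]
    exact mem_map_of_mem π (mem_subgroupOf.mpr hx)
  exact ⟨⟨x, hxV⟩, (QuotientGroup.eq_one_iff _).mp this, rfl⟩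

/-- If `V` controls the fusion of elements of `P` then `P ∩ O^p(G) = P ∩ O^p(V)`. -/
theorem inf_pResidual_eq_of_fusion [Finite G] [hp : Fact p.Prime] (P : Sylow p G) {V : Subgroup G}
    (hPV : (P : Subgroup G) ≤ V)
    (h : ∀ x ∈ (P : Subgroup G), ∀ g : G, g * x * g⁻¹ ∈ (P : Subgroup G) →
      ∃ k ∈ V, k * x * k⁻¹ = g * x * g⁻¹) :
    (P : Subgroup G) ⊓ Cfsg.pResidual p G =
      (P : Subgroup G) ⊓ (Cfsg.pResidual p V).map V.subtype :=
  le_antisymm (le_inf inf_le_left (inf_pResidual_le_of_fusion P hPV h))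
    (inf_le_inf_left _ (map_pResidual_le _))

/-- In a finite nilpotent group the `p'`-elements centralise the Sylow `p`-subgroup. -/
theorem mem_centralizer_sylow_of_isNilpotent [Finite G] [hp : Fact p.Prime] [Group.IsNilpotent G]
    (P : Sylow p G) {g : G} (hg : Nat.Coprime (orderOf g) p) :
    g ∈ centralizer ((P : Subgroup G) : Set G) := by
  have hPn : (P : Subgroup G).Normal :=
    P.normal_of_normalizerCondition Group.normalizerCondition_of_isNilpotent
  refine mem_of_coprime_orderOf_of_index ?_ hg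
  refine ⟨_, Nat.eq_prime_pow_of_unique_prime_dvd index_ne_zero_of_finite fun {q} hq hd => ?_⟩
  by_contra hne
  have : Fact q.Prime := ⟨hq⟩
  obtain ⟨R⟩ : Nonempty (Sylow q G) := inferInstance
  have hRn : (R : Subgroup G).Normal :=
    R.normal_of_normalizerCondition Group.normalizerCondition_of_isNilpotent
  refine R.not_dvd_index (hd.trans (index_dvd_of_le fun r hr => mem_centralizer_iff.mpr fun a ha => ?_))
  exact (commute_of_normal_of_disjoint _ _ hPn hRn
    (IsPGroup.disjoint_of_ne p q (Ne.symm hne) _ _ P.2 R.2) a r ha hr).eq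

/-- A finite nilpotent group has a normal `p`-complement. -/
theorem hasNormalPComplement_of_isNilpotent [Finite G] [hp : Fact p.Prime] [Group.IsNilpotent G] :
    Cfsg.HasNormalPComplement p G := by
  obtain ⟨P⟩ : Nonempty (Sylow p G) := inferInstance
  rw [hasNormalPComplement_iff_forall_centralizing P]
  exact fun Q hQ g _ hg => centralizer_le hQ (mem_centralizer_sylow_of_isNilpotent P hg)

end CfsgLib.Transfer
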