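import Cfsg.Agent.Lib.Transfer.Fusion

/-!
# Alperin's fusion theorem and Frobenius' normal `p`-complement theorem
-/

set_option autoImplicit false

open Subgroup

namespace CfsgLib.Transfer

variable {G : Type*} [Group G] {p : ℕ}

/-- A chain of local conjugations inside `P`, with total effect `g` on `A`. Each step conjugates
by an element of the normalizer of a tame intersection `P ⊓ Q`. -/
inductive FusionChain [Finite G] (P : Sylow p G) : Set G → G → Prop
  | nil (A : Set G) : FusionChain P A 1
  | cons {A : Set G} {g : G} (Q : Sylow p G) (x : G)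
      (hxN : x ∈ normalizer (((P : Subgroup G) ⊓ (Q : Subgroup G) : Subgroup G) : Set G))
      (hP : ¬ p ∣ ((P : Subgroup G) ⊓
        normalizer (((P : Subgroup G) ⊓ (Q : Subgroup G) : Subgroup G) : Set G)).relIndex
        (normalizer (((P : Subgroup G) ⊓ (Q : Subgroup G) : Subgroup G) : Set G)))
      (hQ : ¬ p ∣ ((Q : Subgroup G) ⊓
        normalizer (((P : Subgroup G) ⊓ (Q : Subgroup G) : Subgroup G) : Set G)).relIndex
        (normalizer (((P : Subgroup G) ⊓ (Q : Subgroup G) : Subgroup G) : Set G)))
      (hA : A ⊆ (((P : Subgroup G) ⊓ (Q : Subgroup G) : Subgroup G) : Set G))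
      (h : FusionChain P ((fun a => x⁻¹ * a * x) '' A) g) : FusionChain P A (x * g)

variable [Finite G] {P : Sylow p G}

theorem FusionChain.mono {A B : Set G} {g : G} (h : FusionChain P A g) (hBA : B ⊆ A) :
    FusionChain P B g := by
  induction h generalizing B with
  | nil A => exact .nil B
  | cons Q x hxN hP hQ hA _ ih =>
    exact .cons Q x hxN hP hQ (hBA.trans hA) (ih (Set.image_mono hBA))

theorem FusionChain.append {A : Set G} {g k : G} (h : FusionChain P A g)
    (h' : FusionChain P ((fun a => g⁻¹ * a * g) '' A) k) : FusionChain P A (g * k) := by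
  induction h with
  | nil A => simpa using h'
  | @cons A g Q x hxN hP hQ hA _ ih =>
    rw [mul_assoc]
    refine .cons Q x hxN hP hQ hA (ih ?_)
    convert h' using 1
    rw [Set.image_image]
    congr 1
    funext a
    group

omit [Finite G] in
theorem relIndex_inf_normalizer_not_dvd {U N : Subgroup G} {T : Sylow p G}
    (hU : ¬ p ∣ U.relIndex N) (hUT : U ≤ (T : Subgroup G)) (hUN : U ≤ N) :
    ¬ p ∣ ((T : Subgroup G) ⊓ N).relIndex N := fun hd =>
  hU (hd.trans (relIndex_dvd_of_le_left N (le_inf hUT hUN)))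

theorem card_lt_card_of_lt {H K : Subgroup G} (h : H < K) : Nat.card H < Nat.card K := by
  rcases (card_le_of_le h.le).lt_or_eq with h1 | h1
  · exact h1
  · exact absurd (eq_of_le_of_card_ge h.le h1.ge) h.ne

/-- Normalizers grow in `p`-groups. -/
theorem lt_inf_normalizer [Fact p.Prime] {D Q : Subgroup G} (hQ : IsPGroup p Q) (hDQ : D < Q) :
    D < Q ⊓ normalizer (D : Set G) := by
  have hnil : Group.IsNilpotent Q := hQ.isNilpotent
  have hlt : D.subgroupOf Q < ⊤ := by
    rw [lt_top_iff_ne_top, Ne, subgroupOf_eq_top]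
    exact hDQ.not_ge
  have h := Group.normalizerCondition_of_isNilpotent _ hlt
  refine lt_of_le_of_ne (le_inf hDQ.le le_normalizer) fun he => h.ne ?_
  refine le_antisymm le_normalizer fun x hx => ?_
  rw [mem_subgroupOf]
  refine he.ge ⟨x.2, mem_set_normalizer_iff.mpr fun y => ⟨fun hy => ?_, fun hy => ?_⟩⟩
  · exact (mem_set_normalizer_iff.mp hx ⟨y, hDQ.le hy⟩).mp hy
  · have hyQ : y ∈ Q := by
      have := Q.mul_mem (Q.mul_mem (Q.inv_mem x.2) (hDQ.le hy)) x.2
      simpa [mul_assoc] using this
    exact (mem_set_normalizer_iff.mp hx ⟨y, hyQ⟩).mpr hy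

/-- **Alperin's fusion theorem**, inductive form. -/
theorem fusionChain_aux [hp : Fact p.Prime] (P : Sylow p G) (n : ℕ) : ∀ g : G,
    Nat.card G - Nat.card ((P : Subgroup G) ⊓ ((g • P : Sylow p G) : Subgroup G) : Subgroup G) < n →
    FusionChain P
      (((P : Subgroup G) ⊓ ((g • P : Sylow p G) : Subgroup G) : Subgroup G) : Set G) g := by
  induction n with
  | zero => intro g hg; omega
  | succ n ih =>
    intro g hg
    -- any intersection bigger than the current one is covered by the induction hypothesis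
    have hbig : ∀ k : G,
        Nat.card ((P : Subgroup G) ⊓ ((g • P : Sylow p G) : Subgroup G) : Subgroup G) <
          Nat.card ((P : Subgroup G) ⊓ ((k • P : Sylow p G) : Subgroup G) : Subgroup G) →
        FusionChain P
          (((P : Subgroup G) ⊓ ((k • P : Sylow p G) : Subgroup G) : Subgroup G) : Set G) k := by
      intro k hk
      refine ih k ?_
      have := card_le_card_group ((P : Subgroup G) ⊓ ((k • P : Sylow p G) : Subgroup G))
      omega
    -- continue a chain ending in `x` by a chain for `x⁻¹ * g`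
    have hcomb : ∀ x : G, FusionChain P
          (((P : Subgroup G) ⊓ ((g • P : Sylow p G) : Subgroup G) : Subgroup G) : Set G) x →
        (∀ a ∈ (P : Subgroup G) ⊓ ((g • P : Sylow p G) : Subgroup G),
          x⁻¹ * a * x ∈ (P : Subgroup G)) →
        FusionChain P (((P : Subgroup G) ⊓ (((x⁻¹ * g) • P : Sylow p G) : Subgroup G) :
          Subgroup G) : Set G) (x⁻¹ * g) →
        FusionChain P
          (((P : Subgroup G) ⊓ ((g • P : Sylow p G) : Subgroup G) : Subgroup G) : Set G) g := by
      intro x h1 hxP h2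
      have := h1.append (k := x⁻¹ * g) (h2.mono ?_)
      · simpa using this
      rintro _ ⟨a, ha, rfl⟩
      refine ⟨hxP a ha, ?_⟩
      change x⁻¹ * a * x ∈ (((x⁻¹ * g) • P : Sylow p G) : Subgroup G)
      rw [mem_coe_smul_sylow_iff]
      have hag := mem_coe_smul_sylow_iff.mp ha.2
      convert hag using 1
      group
    set D : Subgroup G := (P : Subgroup G) ⊓ ((g • P : Sylow p G) : Subgroup G) with hD
    by_cases hPD : D = (P : Subgroup G)
    · -- `g` normalises `P`
      have hgP : (g • P : Sylow p G) = P := by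
        refine Sylow.ext (eq_of_le_of_card_ge ?_ ?_).symm
        · exact hPD ▸ inf_le_right
        · exact (Nat.card_congr ((P.equivSMul g).toEquiv)).ge
      have hgN : g ∈ normalizer ((P : Subgroup G) : Set G) := Sylow.smul_eq_iff_mem_normalizer.mp hgP
      rw [hPD, ← mul_one g]
      refine .cons P g (by rwa [inf_idem]) ?_ ?_ (by rw [inf_idem]) (.nil _) <;>
      · simp only [inf_idem]
        rw [inf_of_le_left le_normalizer]
        exact fun hd => P.not_dvd_index (hd.trans (relIndex_dvd_index_of_le le_normalizer))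
    have hDP : D < (P : Subgroup G) := lt_of_le_of_ne inf_le_left hPD
    have hDg : D < ((g • P : Sylow p G) : Subgroup G) := by
      refine lt_of_le_of_ne inf_le_right fun he => hPD (eq_of_le_of_card_ge inf_le_left ?_)
      rw [he]
      exact (Nat.card_congr ((P.equivSMul g).toEquiv)).le
    let N : Subgroup G := normalizer (D : Set G)
    -- the case in which `P ⊓ N` is a Sylow subgroup of `N`
    have caseB : ∀ g' : G, ∀ D' : Subgroup G,
        D' = (P : Subgroup G) ⊓ ((g' • P : Sylow p G) : Subgroup G) → Nat.card D' = Nat.card D →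
        D' < ((g' • P : Sylow p G) : Subgroup G) →
        ¬ p ∣ ((P : Subgroup G) ⊓ normalizer (D' : Set G)).relIndex (normalizer (D' : Set G)) →
        FusionChain P (D' : Set G) g' := by
      intro g' D' hD' hcard hD'g hmax
      have hNQ := lt_inf_normalizer (g' • P).2 hD'g
      let M : Subgroup G := normalizer (D' : Set G)
      let V : Subgroup G := ((g' • P : Sylow p G) : Subgroup G) ⊓ M
      have hV : IsPGroup p V := (g' • P).2.to_le inf_le_left
      obtain ⟨U₀, hU₀⟩ := (hV.comap_subtype (K := M)).exists_le_sylow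
      let U : Subgroup G := (U₀ : Subgroup M).map M.subtype
      have hVU : V ≤ U := fun v hv => ⟨⟨v, hv.2⟩, hU₀ (mem_subgroupOf.mpr hv), rfl⟩
      have hUM : U ≤ M := map_subtype_le _
      have hUp : IsPGroup p U := U₀.2.map _
      have hUmax : ¬ p ∣ U.relIndex M := by
        rw [relIndex, subgroupOf, comap_map_eq_self_of_injective M.subtype_injective]
        exact U₀.not_dvd_index
      obtain ⟨T, hT⟩ := hUp.exists_le_sylow
      have hD'T : D' ≤ (P : Subgroup G) ⊓ (T : Subgroup G) :=
        le_inf (hD' ▸ inf_le_left) ((hNQ.le.trans hVU).trans hT)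
      -- a conjugation step into `P`, followed by the induction hypothesis
      have step : ∀ y : G, FusionChain P (D' : Set G) y →
          (∀ a ∈ D', y⁻¹ * a * y ∈ (P : Subgroup G)) →
          (∀ v ∈ V, y⁻¹ * v * y ∈ (P : Subgroup G)) → FusionChain P (D' : Set G) g' := by
        intro y h1 hyP hyV
        have hmap : V.map (MulAut.conj y⁻¹).toMonoidHom ≤
            (P : Subgroup G) ⊓ (((y⁻¹ * g') • P : Sylow p G) : Subgroup G) := by
          rintro _ ⟨v, hv, rfl⟩
          simp only [MulEquiv.coe_toMonoidHom, MulAut.conj_apply, inv_inv]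
          refine ⟨hyV v hv, ?_⟩
          change y⁻¹ * v * y ∈ (((y⁻¹ * g') • P : Sylow p G) : Subgroup G)
          rw [mem_coe_smul_sylow_iff]
          have hvg := mem_coe_smul_sylow_iff.mp hv.1
          convert hvg using 1
          group
        have hlt : Nat.card D < Nat.card ((P : Subgroup G) ⊓
            (((y⁻¹ * g') • P : Sylow p G) : Subgroup G) : Subgroup G) := by
          refine lt_of_lt_of_le ?_ (card_le_of_le hmap)
          rw [card_map_of_injective (MulAut.conj y⁻¹).injective, ← hcard]
          exact card_lt_card_of_lt hNQ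
        have := h1.append (k := y⁻¹ * g') ((hbig _ hlt).mono ?_)
        · simpa using this
        rintro _ ⟨a, ha, rfl⟩
        refine ⟨hyP a ha, ?_⟩
        change y⁻¹ * a * y ∈ (((y⁻¹ * g') • P : Sylow p G) : Subgroup G)
        rw [mem_coe_smul_sylow_iff]
        have hag : a ∈ ((g' • P : Sylow p G) : Subgroup G) := (hD'.le ha).2
        rw [mem_coe_smul_sylow_iff] at hag
        convert hag using 1
        group
      by_cases hbigT : Nat.card D < Nat.card ((P : Subgroup G) ⊓ (T : Subgroup G) : Subgroup G)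
      · obtain ⟨z, hz⟩ := MulAction.exists_smul_eq G P T
        rw [← hz] at hbigT hD'T hT
        refine step z ((hbig z hbigT).mono hD'T) (fun a ha => ?_) (fun v hv => ?_)
        · exact mem_coe_smul_sylow_iff.mp (hD'T ha).2
        · exact mem_coe_smul_sylow_iff.mp (hT (hVU hv))
      · have heq : (P : Subgroup G) ⊓ (T : Subgroup G) = D' :=
          (eq_of_le_of_card_ge hD'T (by omega)).symm
        obtain ⟨y, hyM, hy⟩ := exists_conj_le_of_isPGroup (P.2.to_le inf_le_left)
          (inf_le_right : (P : Subgroup G) ⊓ M ≤ M) hmax hV inf_le_right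
        refine step y ?_ (fun a ha => ?_) (fun v hv => (hy v hv).1)
        · rw [← mul_one y]
          refine .cons T y (by rw [heq]; exact hyM) (by rw [heq]; exact hmax) ?_ (by rw [heq])
            (.nil _)
          rw [heq]
          exact relIndex_inf_normalizer_not_dvd hUmax hT hUM
        · exact (hD'.le ((mem_set_normalizer_iff''.mp hyM a).mp ha)).1
    -- move a Sylow subgroup of `N` into `P`
    obtain ⟨W₀, hW₀⟩ := ((P.2.to_le (inf_le_left : (P : Subgroup G) ⊓ N ≤ _)).comap_subtype
      (K := N)).exists_le_sylow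
    let W : Subgroup G := (W₀ : Subgroup N).map N.subtype
    have hPW : (P : Subgroup G) ⊓ N ≤ W := fun v hv => ⟨⟨v, hv.2⟩, hW₀ (mem_subgroupOf.mpr hv), rfl⟩
    have hWp : IsPGroup p W := W₀.2.map _
    have hWmax : ¬ p ∣ W.relIndex N := by
      rw [relIndex, subgroupOf, comap_map_eq_self_of_injective N.subtype_injective]
      exact W₀.not_dvd_index
    obtain ⟨R, hR⟩ := hWp.exists_le_sylow
    obtain ⟨x, hx⟩ := MulAction.exists_smul_eq G P R
    rw [← hx] at hR
    have hDR : D < (P : Subgroup G) ⊓ ((x • P : Sylow p G) : Subgroup G) :=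
      lt_of_lt_of_le (lt_inf_normalizer P.2 hDP) (le_inf inf_le_left (hPW.trans hR))
    have hxP : ∀ a ∈ D, x⁻¹ * a * x ∈ (P : Subgroup G) := fun a ha =>
      mem_coe_smul_sylow_iff.mp (hDR.le ha).2
    refine hcomb x ((hbig x (card_lt_card_of_lt hDR)).mono hDR.le) hxP ?_
    let D' : Subgroup G := (P : Subgroup G) ⊓ (((x⁻¹ * g) • P : Sylow p G) : Subgroup G)
    have hmap : D.map (MulAut.conj x⁻¹).toMonoidHom ≤ D' := by
      rintro _ ⟨a, ha, rfl⟩
      simp only [MulEquiv.coe_toMonoidHom, MulAut.conj_apply, inv_inv]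
      refine ⟨hxP a ha, ?_⟩
      change x⁻¹ * a * x ∈ (((x⁻¹ * g) • P : Sylow p G) : Subgroup G)
      rw [mem_coe_smul_sylow_iff]
      have hag := mem_coe_smul_sylow_iff.mp ha.2
      convert hag using 1
      group
    by_cases hlt : Nat.card D < Nat.card D'
    · exact hbig _ hlt
    have hcardmap : Nat.card (D.map (MulAut.conj x⁻¹).toMonoidHom) = Nat.card D :=
      card_map_of_injective (MulAut.conj x⁻¹).injective
    have heq : D.map (MulAut.conj x⁻¹).toMonoidHom = D' :=
      eq_of_le_of_card_ge hmap (by rw [hcardmap]; omega)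
    have hcard : Nat.card D' = Nat.card D := by rw [← heq, hcardmap]
    refine caseB (x⁻¹ * g) D' rfl hcard ?_ ?_
    · refine lt_of_le_of_ne inf_le_right fun he => ?_
      have h1 := card_lt_card_of_lt hDg
      have h2 := Nat.card_congr ((P.equivSMul g).toEquiv)
      have h3 := Nat.card_congr ((P.equivSMul (x⁻¹ * g)).toEquiv)
      rw [he] at hcard
      omega
    · have hN : normalizer (D' : Set G) = N.map (MulAut.conj x⁻¹).toMonoidHom := by
        rw [← heq, map_equiv_normalizer_eq]
      have hle : W.map (MulAut.conj x⁻¹).toMonoidHom ≤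
          (P : Subgroup G) ⊓ normalizer (D' : Set G) := by
        refine le_inf ?_ (hN ▸ map_mono (map_subtype_le _))
        rintro _ ⟨w, hw, rfl⟩
        simp only [MulEquiv.coe_toMonoidHom, MulAut.conj_apply, inv_inv]
        exact mem_coe_smul_sylow_iff.mp (hR hw)
      intro hd
      refine hWmax ?_
      have := hd.trans (relIndex_dvd_of_le_left _ hle)
      rwa [hN, relIndex_map_map_of_injective _ _ (MulAut.conj x⁻¹).injective] at this

/-- **Alperin's fusion theorem**. -/
theorem fusionChain [hp : Fact p.Prime] (P : Sylow p G) {A : Set G} {g : G}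
    (hA : A ⊆ (P : Subgroup G)) (hg : ∀ a ∈ A, g⁻¹ * a * g ∈ (P : Subgroup G)) :
    FusionChain P A g :=
  (fusionChain_aux P _ g (Nat.lt_succ_self _)).mono
    fun a ha => ⟨hA ha, mem_coe_smul_sylow_iff.mpr (hg a ha)⟩

/-- Fusion of elements of `P` is controlled by `P` if, in each tame intersection normalizer,
the `p'`-elements centralise the intersection. -/
theorem exists_conj_of_centralizing [hp : Fact p.Prime] (P : Sylow p G)
    (h : ∀ Q : Subgroup G, Q ≤ (P : Subgroup G) → ∀ g ∈ normalizer (Q : Set G),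
      Nat.Coprime (orderOf g) p → g ∈ centralizer (Q : Set G)) :
    ∀ x ∈ (P : Subgroup G), ∀ g : G, g * x * g⁻¹ ∈ (P : Subgroup G) →
      ∃ k ∈ (P : Subgroup G), k * x * k⁻¹ = g * x * g⁻¹ := by
  have key : ∀ (A : Set G) (g : G), FusionChain P A g →
      ∀ a ∈ A, ∃ k ∈ (P : Subgroup G), k⁻¹ * a * k = g⁻¹ * a * g := by
    intro A g hc
    induction hc with
    | nil A => exact fun a _ => ⟨1, one_mem _, rfl⟩
    | @cons A g Q x hxN hP hQ hA _ ih =>
      intro a ha
      obtain ⟨k, hk, hk'⟩ := ih _ ⟨a, ha, rfl⟩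
      set D : Subgroup G := (P : Subgroup G) ⊓ (Q : Subgroup G) with hD
      let N : Subgroup G := normalizer (D : Set G)
      let S : Sylow p N :=
        ((P.2.to_le (inf_le_left : (P : Subgroup G) ⊓ N ≤ _)).comap_subtype (K := N)).toSylow hP
      have hmem : (⟨x, hxN⟩ : N) ∈ (S : Subgroup N) ⊔ Cfsg.pResidual p N := by
        rw [sup_pResidual_eq_top]
        exact mem_top _
      have := pResidual_normal (G := N) (p := p)
      obtain ⟨u, hu, c, hc, huc⟩ := mem_sup_of_normal_right.mp hmem
      have hcC : (c : G) ∈ centralizer (D : Set G) := by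
        have hle : Cfsg.pResidual p N ≤ (centralizer (D : Set G)).subgroupOf N := by
          refine (closure_le _).mpr fun n hn => ?_
          rw [SetLike.mem_coe, mem_subgroupOf]
          refine h D inf_le_left _ n.2 ?_
          rwa [← Subgroup.coe_subtype, orderOf_injective N.subtype N.subtype_injective]
        exact mem_subgroupOf.mp (hle hc)
      have huP : (u : G) ∈ (P : Subgroup G) := (mem_subgroupOf.mp hu).1
      have huN : (u : G) ∈ N := u.2
      have hau : (u : G)⁻¹ * a * u ∈ D := (mem_set_normalizer_iff''.mp huN a).mp (hA ha)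
      have hxu : x⁻¹ * a * x = (u : G)⁻¹ * a * u := by
        have hxe : x = (u : G) * (c : G) := by
          rw [← coe_mul, huc]
        have hcomm := hcC _ hau
        calc x⁻¹ * a * x = (c : G)⁻¹ * (((u : G)⁻¹ * a * u) * c) := by rw [hxe]; group
          _ = (c : G)⁻¹ * (c * ((u : G)⁻¹ * a * u)) := by rw [hcomm]
          _ = _ := by group
      refine ⟨u * k, mul_mem huP hk, ?_⟩
      calc ((u : G) * k)⁻¹ * a * (u * k) = k⁻¹ * ((u : G)⁻¹ * a * u) * k := by group
        _ = k⁻¹ * (x⁻¹ * a * x) * k := by rw [hxu]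
        _ = g⁻¹ * (x⁻¹ * a * x) * g := hk'
        _ = _ := by group
  intro x hx g hg
  obtain ⟨k, hk, hk'⟩ := key _ _
    (fusionChain P (A := {x}) (g := g⁻¹) (Set.singleton_subset_iff.mpr hx)
      (fun a ha => by rw [Set.mem_singleton_iff] at ha; rw [ha, inv_inv]; exact hg)) x rfl
  exact ⟨k⁻¹, inv_mem hk, by simpa using hk'⟩

/-- **Frobenius' normal `p`-complement theorem**. -/
theorem hasNormalPComplement_iff_forall_centralizing [hp : Fact p.Prime] (P : Sylow p G) :
    Cfsg.HasNormalPComplement p G ↔
      ∀ Q : Subgroup G, Q ≤ (P : Subgroup G) → ∀ g ∈ normalizer (Q : Set G),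
        Nat.Coprime (orderOf g) p → g ∈ centralizer (Q : Set G) := by
  refine ⟨fun h Q hQ g hg hcop => ?_,
    fun h => hasNormalPComplement_of_fusion P (exists_conj_of_centralizing P h)⟩
  have hg' : g ∈ Cfsg.pResidual p G := mem_pResidual_of_coprime hcop
  have hn := pResidual_normal (G := G) (p := p)
  rw [mem_centralizer_iff_commutator_eq_one]
  intro q hq
  have h1 : q * g * q⁻¹ * g⁻¹ ∈ (P : Subgroup G) := by
    have : g * q⁻¹ * g⁻¹ ∈ Q := (mem_set_normalizer_iff.mp hg _).mp (inv_mem hq)
    have h2 := mul_mem (hQ hq) (hQ this)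
    simpa [mul_assoc] using h2
  have h3 : q * g * q⁻¹ * g⁻¹ ∈ Cfsg.pResidual p G :=
    mul_mem (hn.conj_mem g hg' q) (inv_mem hg')
  have := (hasNormalPComplement_iff_inf_eq_bot P).mp h
  exact mem_bot.mp (this ▸ ⟨h1, h3⟩)

end CfsgLib.Transfer
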