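import Cfsg.Agent.Lib.Transfer.NormalPComplement
import Cfsg.Agent.Lib.Base.Nilpotent

/-!
# Tate's theorem

If `N` is normal in `G` and `P ∩ N ≤ Φ(P)` then `N` has a normal `p`-complement. The proof splits
the central extension of `G` pulled back from a central chief factor of `P` by transfer.
-/

set_option autoImplicit false

open Subgroup

namespace CfsgLib.Transfer

variable {G : Type*} [Group G] [Finite G] {p : ℕ}

/-- A normal subgroup `K` with `O^p(K) = K` whose Sylow subgroup `P ∩ K` lies in `Φ(P)` has order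
prime to `p`. -/
theorem inf_eq_bot_of_le_frattini [hp : Fact p.Prime] (P : Sylow p G) (K : Subgroup G) [hK : K.Normal]
    (hres : Cfsg.pResidual p K = ⊤)
    (h : (P : Subgroup G) ⊓ K ≤ (frattini (P : Subgroup G)).map (P : Subgroup G).subtype) :
    (P : Subgroup G) ⊓ K = ⊥ := by
  by_contra hne
  let Q : Subgroup (P : Subgroup G) := K.subgroupOf (P : Subgroup G)
  have hQΦ : Q ≤ frattini (P : Subgroup G) := by
    intro x hx
    obtain ⟨y, hy, hyx⟩ := h ⟨x.2, mem_subgroupOf.mp hx⟩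
    rwa [← Subtype.ext hyx]
  have hQne : Q ≠ ⊥ := by
    intro hQ
    rw [subgroupOf_eq_bot, disjoint_iff, inf_comm] at hQ
    exact hne hQ
  -- a maximal normal subgroup `D` of `P` strictly below `Q`
  obtain ⟨D, ⟨hDn, hDQ⟩, hDmax⟩ :=
    (Set.toFinite {D : Subgroup (P : Subgroup G) | D.Normal ∧ D < Q}).exists_maximal
      ⟨⊥, inferInstance, bot_lt_iff_ne_bot.mpr hQne⟩
  let π := QuotientGroup.mk' D
  let C : Subgroup ((P : Subgroup G) ⧸ D) := Q.map π
  have hCn : C.Normal :=
    Subgroup.Normal.map inferInstance π (QuotientGroup.mk'_surjective D)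
  have hbar : IsPGroup p ((P : Subgroup G) ⧸ D) := P.2.to_quotient D
  have hCne : C ≠ ⊥ := by
    intro hC
    rw [Subgroup.map_eq_bot_iff, QuotientGroup.ker_mk'] at hC
    exact absurd hC (not_le_of_gt hDQ)
  have hCcen : C ≤ center _ := by
    -- the central part of `C` is nontrivial, hence everything
    obtain ⟨c, hc1, hcC⟩ : ∃ c : (P : Subgroup G) ⧸ D, c ≠ 1 ∧ c ∈ C ⊓ center _ := by
      have hnil : Group.IsNilpotent ((P : Subgroup G) ⧸ D) := hbar.isNilpotent
      obtain ⟨c, hc, hc1⟩ := (bot_or_exists_ne_one _).resolve_left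
        (CfsgLib.Base.inf_center_ne_bot_of_isNilpotent (N := C) hCne)
      exact ⟨c, hc1, hc⟩
    let D' : Subgroup (P : Subgroup G) := (C ⊓ center _).comap π
    have hD' : D < D' := by
      refine lt_of_le_of_ne (QuotientGroup.le_comap_mk' D _) fun he => ?_
      obtain ⟨x, rfl⟩ := QuotientGroup.mk'_surjective D c
      exact hc1 ((QuotientGroup.eq_one_iff x).mpr (he ▸ hcC : x ∈ D))
    have hD'Q : D' ≤ Q := by
      intro x hx
      have : x ∈ C.comap π := hx.1
      rwa [comap_map_eq, QuotientGroup.ker_mk', sup_eq_left.mpr hDQ.le] at this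
    have hD'n : D'.Normal := by
      have : (C ⊓ center ((P : Subgroup G) ⧸ D)).Normal := normal_inf_normal _ _
      exact this.comap π
    rcases hD'Q.eq_or_lt with he | hlt
    · exact le_trans (map_mono he.ge) (le_trans (map_comap_le _ _) inf_le_right)
    · exact absurd (hDmax ⟨hD'n, hlt⟩ hD'.le) (not_le_of_gt hD')
  have hCcomm : ∀ a b : C, a * b = b * a := fun a b =>
    Subtype.ext (mem_center_iff.mp (hCcen b.2) a)
  let _ : CommGroup C := { (inferInstance : Group C) with mul_comm := hCcomm }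
  -- the pulled back extension
  let ψ := QuotientGroup.mk' K
  let θ : (P : Subgroup G) ⧸ D →* G ⧸ K :=
    QuotientGroup.lift D (ψ.comp (P : Subgroup G).subtype) (fun x hx =>
      (QuotientGroup.eq_one_iff _).mpr (mem_subgroupOf.mp (hDQ.le hx)))
  let E : Subgroup (G × ((P : Subgroup G) ⧸ D)) :=
    (ψ.comp (MonoidHom.fst G _)).eqLocus (θ.comp (MonoidHom.snd G _))
  let η : E →* G := (MonoidHom.fst G _).comp E.subtype
  let P' : Subgroup E := (P : Subgroup G).comap η
  let j : (P : Subgroup G) →* E :=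
    ((P : Subgroup G).subtype.prod π).codRestrict E (fun _ => rfl)
  have hidx : ¬ p ∣ P'.index := by
    rw [index_comap]
    exact fun hd => P.not_dvd_index (hd.trans (Dvd.intro _ (relIndex_mul_index
      (show (P : Subgroup G) ≤ η.range from fun x hx => ⟨j ⟨x, hx⟩, rfl⟩))))
  -- the retraction on `P'`
  have hmemC : ∀ e : P', (π ⟨η e, e.2⟩)⁻¹ * (e : E).1.2 ∈ C := by
    intro e
    obtain ⟨x', hx'⟩ := QuotientGroup.mk'_surjective D (e : E).1.2
    have he : ψ (η e) = θ ((e : E).1.2) := (e : E).2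
    rw [← hx'] at he
    refine ⟨⟨η e, e.2⟩⁻¹ * x', ?_, by rw [map_mul, map_inv, hx']⟩
    rw [SetLike.mem_coe, mem_subgroupOf]
    refine (QuotientGroup.eq_one_iff _).mp (?_ : ψ _ = 1)
    rw [coe_mul, coe_inv, map_mul, map_inv, inv_mul_eq_one]
    exact he
  let φ : P' →* C := MonoidHom.mk' (fun e => ⟨_, hmemC e⟩) (fun e₁ e₂ => Subtype.ext (by
    have hc := mem_center_iff.mp (hCcen (hmemC e₁)) (π ⟨η e₂, e₂.2⟩)⁻¹
    change (π ⟨η (e₁ * e₂ : P'), _⟩)⁻¹ * ((e₁ : E).1.2 * (e₂ : E).1.2) = _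
    have hπ : π ⟨η (e₁ * e₂ : P'), (e₁ * e₂).2⟩ = π ⟨η e₁, e₁.2⟩ * π ⟨η e₂, e₂.2⟩ := by
      rw [← map_mul]
      exact congrArg π (Subtype.ext (map_mul η (e₁ : E) (e₂ : E)))
    rw [hπ, mul_inv_rev]
    calc (π ⟨η e₂, e₂.2⟩)⁻¹ * (π ⟨η e₁, e₁.2⟩)⁻¹ * ((e₁ : E).1.2 * (e₂ : E).1.2)
        = (π ⟨η e₂, e₂.2⟩)⁻¹ * ((π ⟨η e₁, e₁.2⟩)⁻¹ * (e₁ : E).1.2) * (e₂ : E).1.2 := by group
      _ = ((π ⟨η e₁, e₁.2⟩)⁻¹ * (e₁ : E).1.2) * (π ⟨η e₂, e₂.2⟩)⁻¹ * (e₂ : E).1.2 := by rw [hc]
      _ = _ := by simp only [coe_mul]; group))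
  let τ : E →* C := MonoidHom.transfer φ
  -- `τ` on the central subgroup
  let ι : K →* E := (K.subtype.prod (1 : K →* (P : Subgroup G) ⧸ D)).codRestrict E (fun k => by
    change ψ (k : G) = θ 1
    rw [map_one]
    exact (QuotientGroup.eq_one_iff _).mpr k.2)
  have hC1 : ∀ c : C, (((1 : G), (c : (P : Subgroup G) ⧸ D)) : G × _) ∈ E := by
    intro c
    obtain ⟨x, hx, hxc⟩ := c.2
    change ψ 1 = θ (c : (P : Subgroup G) ⧸ D)
    rw [map_one, ← hxc]
    exact ((QuotientGroup.eq_one_iff _).mpr (mem_subgroupOf.mp hx)).symm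
  have hτC : ∀ c : C, τ ⟨_, hC1 c⟩ = c ^ P'.index := by
    intro c
    let z : P' := ⟨⟨_, hC1 c⟩, one_mem (P : Subgroup G)⟩
    have hzc : (z : E) ∈ center E := by
      rw [mem_center_iff]
      intro e
      refine Subtype.ext (Prod.ext ?_ (mem_center_iff.mp (hCcen c.2) _))
      change e.1.1 * 1 = 1 * e.1.1
      rw [mul_one, one_mul]
    have key : ∀ (k : ℕ) (g₀ : E), g₀⁻¹ * (z : E) ^ k * g₀ ∈ P' →
        g₀⁻¹ * (z : E) ^ k * g₀ = (z : E) ^ k := by
      intro k g₀ _
      have h := mem_center_iff.mp (pow_mem hzc k) g₀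
      rw [mul_assoc, ← h, inv_mul_cancel_left]
    change MonoidHom.transfer φ (z : E) = _
    rw [MonoidHom.transfer_eq_pow φ _ key]
    rw [show (⟨(z : E) ^ P'.index, _⟩ : P') = z ^ P'.index from rfl, map_pow]
    congr 1
    refine Subtype.ext ?_
    change (π ⟨η (z : E), _⟩)⁻¹ * (c : (P : Subgroup G) ⧸ D) = c
    rw [show (⟨η (z : E), z.2⟩ : (P : Subgroup G)) = 1 from Subtype.ext rfl, map_one, inv_one, one_mul]
  have hCp : IsPGroup p C := hbar.to_subgroup C
  have hτι : ∀ k : K, τ (ι k) = 1 := by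
    intro k
    have hle : Cfsg.pResidual p K ≤ (τ.comp ι).ker :=
      (closure_le _).mpr fun x hx => eq_one_of_coprime_orderOf hCp
        (Nat.Coprime.coprime_dvd_left (orderOf_map_dvd (τ.comp ι) x) hx)
    exact hle (hres ▸ mem_top k)
  let r : (P : Subgroup G) →* C := τ.comp j
  have hrQ : ∀ c : C, ∃ x ∈ Q, r x = c ^ P'.index := by
    intro c
    obtain ⟨x, hx, hxc⟩ := c.2
    refine ⟨x, hx, ?_⟩
    have : j x = ι ⟨x, mem_subgroupOf.mp hx⟩ * ⟨_, hC1 c⟩ := by
      refine Subtype.ext (Prod.ext ?_ ?_)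
      · change (x : G) = (x : G) * 1
        rw [mul_one]
      · change π x = 1 * (c : (P : Subgroup G) ⧸ D)
        rw [one_mul, hxc]
    change τ (j x) = _
    rw [this, map_mul, hτι, one_mul, hτC]
  have hbij := (hCp.powEquiv' hidx).surjective
  have hker : r.ker ⊔ Q = ⊤ := by
    refine top_le_iff.mp fun x _ => ?_
    obtain ⟨c, hc⟩ := hbij (r x)
    obtain ⟨y, hy, hry⟩ := hrQ c
    have h1 : x * y⁻¹ ∈ r.ker := by
      rw [MonoidHom.mem_ker, map_mul, map_inv, hry, ← hc, mul_inv_eq_one]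
      rfl
    have := mul_mem (mem_sup_left (T := Q) h1) (mem_sup_right (S := r.ker) hy)
    rwa [inv_mul_cancel_right] at this
  have hr : r.ker = ⊤ :=
    frattini_nongenerating (top_le_iff.mp (hker.ge.trans (sup_le_sup_left hQΦ _)))
  apply hCne
  rw [eq_bot_iff]
  intro c hc
  obtain ⟨d, hd⟩ := hbij ⟨c, hc⟩
  obtain ⟨y, _, hry⟩ := hrQ d
  have h1 : r y = 1 := MonoidHom.mem_ker.mp (hr ▸ mem_top y)
  rw [h1] at hry
  have : (⟨c, hc⟩ : C) = 1 := hd.symm.trans hry.symm
  exact mem_bot.mpr (congrArg Subtype.val this)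

/-- **Tate's theorem**: a normal subgroup meeting `P` inside `Φ(P)` has a normal
`p`-complement. -/
theorem hasNormalPComplement_of_inf_le_frattini [hp : Fact p.Prime] (P : Sylow p G) (N : Subgroup G)
    [hN : N.Normal]
    (h : N ⊓ (P : Subgroup G) ≤ (frattini (P : Subgroup G)).map (P : Subgroup G).subtype) :
    Cfsg.HasNormalPComplement p N := by
  rw [hasNormalPComplement_iff_pResidual]
  let K : Subgroup G := (Cfsg.pResidual p N).map N.subtype
  have := pResidual_characteristic (G := N) (p := p)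
  have hKn : K.Normal := inferInstance
  have hres : Cfsg.pResidual p K = ⊤ := by
    apply map_injective K.subtype_injective
    rw [← MonoidHom.range_eq_map, range_subtype]
    refine le_antisymm (map_subtype_le _) ?_
    change (Cfsg.pResidual p N).map N.subtype ≤ _
    rw [map_le_iff_le_comap]
    refine (closure_le _).mpr fun g hg => ?_
    refine ⟨⟨g, ⟨g, mem_pResidual_of_coprime hg, rfl⟩⟩, ?_, rfl⟩
    refine mem_pResidual_of_coprime ?_
    rw [← orderOf_injective K.subtype K.subtype_injective]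
    change Nat.Coprime (orderOf (N.subtype g)) p
    rwa [orderOf_injective N.subtype N.subtype_injective]
  have hbot := inf_eq_bot_of_le_frattini P K hres
    (le_trans (le_inf (inf_le_right.trans (map_subtype_le _)) inf_le_left) h)
  have h2 := not_dvd_index_subgroupOf_of_normal P K
  rw [subgroupOf_eq_bot.mpr (disjoint_iff.mpr hbot), index_bot,
    card_map_of_injective N.subtype_injective] at h2
  exact h2

end CfsgLib.Transfer
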