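import Cfsg.Agent.Lib.Transfer.SLTwoThree
import Cfsg.Agent.Lib.Transfer.Alperin
import Cfsg.Agent.Lib.Transfer.MinimalConfig
import Cfsg.Agent.Lib.PGroups.UniqueOrderP
import Cfsg.Agent.Lib.PLocal.Quadratic
import Cfsg.Agent.Lib.LocalEven.StrongEmb2

/-!
# Quaternion Sylow 2-subgroups: a normal 2-complement or a section `SL(2,3)`
-/

set_option autoImplicit false

open Subgroup Cfsg
open scoped commutatorElement

namespace CfsgLib.Transfer

/-- The map on `Q₈` determined by the images of the two generators. -/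
def qMap (a b : QuaternionGroup 2) : QuaternionGroup 2 → QuaternionGroup 2
  | .a k => a ^ k.val
  | .xa k => b * a ^ k.val

theorem qMap_iterate : ∀ a b : QuaternionGroup 2, a * b ≠ b * a →
    (qMap a b)^[12] (.a 1) = .a 1 ∧ (qMap a b)^[12] (.xa 0) = .xa 0 := by decide +kernel

theorem q8_facts : ∀ x y : QuaternionGroup 2, x * y ≠ y * x →
    x ^ 4 = 1 ∧ x ^ 2 = y ^ 2 ∧ y * x * y⁻¹ = x⁻¹ ∧ x ^ 2 ≠ 1 := by decide +kernel

theorem q8_third : ∀ x y z : QuaternionGroup 2, x * y ≠ y * x → x * z ≠ z * x → y * z ≠ z * y →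
    z = x * y ∨ z = y * x := by decide +kernel

theorem q8_center : ∀ x : QuaternionGroup 2, (∀ y, x * y = y * x) → x = 1 ∨ x = .a 2 := by
  decide +kernel

theorem q8_comm_iff : ∀ x y : QuaternionGroup 2, x * y = y * x → (∃ z, x * z ≠ z * x) →
    y = 1 ∨ y = x ∨ y = x ^ 2 ∨ y = x ^ 3 := by decide +kernel

theorem qMap_eq {a b : QuaternionGroup 2} (σ : QuaternionGroup 2 ≃* QuaternionGroup 2)
    (ha : σ (.a 1) = a) (hb : σ (.xa 0) = b) (w : QuaternionGroup 2) : σ w = qMap a b w := by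
  have h1 : ∀ k : ZMod (2 * 2), σ (.a k) = a ^ k.val := by
    intro k
    rw [← ha, ← map_pow, QuaternionGroup.a_one_pow, ZMod.natCast_zmod_val]
  cases w with
  | a k => exact h1 k
  | xa k =>
    change σ (.xa k) = b * a ^ k.val
    rw [← h1, ← hb, ← map_mul]
    congr 1
    rw [QuaternionGroup.xa_mul_a, zero_add]

/-- The exponent of `Aut Q₈` divides 12. -/
theorem q8_aut_pow (σ : MulAut (QuaternionGroup 2)) : σ ^ 12 = 1 := by
  have hne : σ (.a 1) * σ (.xa 0) ≠ σ (.xa 0) * σ (.a 1) := by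
    rw [← map_mul, ← map_mul]
    exact fun h => absurd (σ.injective h) (by decide)
  obtain ⟨h1, h2⟩ := qMap_iterate _ _ hne
  have hit : ∀ (n : ℕ) (w : QuaternionGroup 2),
      (σ ^ n) w = (qMap (σ (.a 1)) (σ (.xa 0)))^[n] w := by
    intro n
    induction n with
    | zero => intro w; simp
    | succ n ih =>
      intro w
      rw [pow_succ, MulAut.mul_apply, ih, Function.iterate_succ_apply,
        qMap_eq σ rfl rfl w]
  refine MulEquiv.ext fun w => ?_
  have e : (σ ^ 12) w = qMap (.a 1) (.xa 0) w :=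
    qMap_eq (σ ^ 12) ((hit 12 _).trans h1) ((hit 12 _).trans h2) w
  rw [e]
  exact (qMap_eq (MulEquiv.refl (QuaternionGroup 2)) rfl rfl w).symm

variable {G : Type*} [Group G] [Finite G]

/-- The automorphism induced on a subgroup by an element of its normalizer. -/
theorem mem_normalizer_conj_equiv {Q : Subgroup G} {g : G} (hg : g ∈ normalizer (Q : Set G)) :
    ∃ φ : MulAut Q, ∀ (n : ℕ) (x : Q), ((φ ^ n) x : G) = g ^ n * x * (g ^ n)⁻¹ := by
  have h1 : ∀ x : G, x ∈ Q → g * x * g⁻¹ ∈ Q := fun x hx => (mem_normalizer_iff.1 hg x).1 hx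
  have h2 : ∀ x : G, x ∈ Q → g⁻¹ * x * g ∈ Q := fun x hx => by
    simpa using (mem_normalizer_iff.1 (inv_mem hg) x).1 hx
  let φ : MulAut Q :=
    { toFun := fun x => ⟨g * x * g⁻¹, h1 x x.2⟩
      invFun := fun x => ⟨g⁻¹ * x * g, h2 x x.2⟩
      left_inv := fun x => Subtype.ext (by simp [mul_assoc])
      right_inv := fun x => Subtype.ext (by simp [mul_assoc])
      map_mul' := fun x y => Subtype.ext (by simp [mul_assoc]) }
  refine ⟨φ, fun n => ?_⟩
  induction n with
  | zero => intro x; simp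
  | succ n ih =>
    intro x
    rw [pow_succ, MulAut.mul_apply, ih]
    change g ^ n * (g * x * g⁻¹) * (g ^ n)⁻¹ = _
    rw [pow_succ]; group

/-- An element of odd order normalising a cyclic 2-group centralises it. -/
theorem mem_centralizer_of_isCyclic {C : Subgroup G} (hC : IsPGroup 2 C) (hcyc : IsCyclic C)
    {g : G} (hg : g ∈ normalizer (C : Set G)) (hodd : Nat.Coprime (orderOf g) 2) :
    g ∈ centralizer (C : Set G) := by
  obtain ⟨φ, hφ⟩ := mem_normalizer_conj_equiv hg
  obtain ⟨k, hk⟩ := IsPGroup.iff_card.mp hC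
  have hcard : Nat.card (MulAut C) = Nat.totient (2 ^ k) := by
    rw [← hk]; exact IsCyclic.card_mulAut C
  have h1 : φ ^ orderOf g = 1 := MulEquiv.ext fun x => Subtype.ext (by
    rw [hφ, pow_orderOf_eq_one, one_mul, inv_one, mul_one]; rfl)
  have h2 : φ ^ Nat.card (MulAut C) = 1 := pow_card_eq_one'
  have h3 : Nat.card (MulAut C) ∣ 2 ^ k := by
    rw [hcard]
    rcases k with _ | k
    · simp
    · rw [Nat.totient_prime_pow_succ Nat.prime_two]
      exact ⟨2, by rw [pow_succ]; simp⟩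
  have h4 := pow_gcd_eq_one.mpr ⟨h1, h2⟩
  rw [Nat.eq_one_of_dvd_coprimes (hodd.pow_right k) (Nat.gcd_dvd_left _ _)
    ((Nat.gcd_dvd_right _ _).trans h3), pow_one] at h4
  rw [mem_centralizer_iff]
  intro x hx
  have h5 := hφ 1 ⟨x, hx⟩
  rw [pow_one, pow_one, h4] at h5
  exact mul_inv_eq_iff_eq_mul.mp (h5.symm.trans rfl) |>.symm

theorem quaternion_order_gt (m : ℕ) [NeZero m] (x : QuaternionGroup m) (hx : 4 < orderOf x) :
    ∃ k, x = .a k := by
  cases x with
  | a k => exact ⟨k, rfl⟩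
  | xa k => rw [QuaternionGroup.orderOf_xa] at hx; omega

/-- An element of odd order normalising but not centralising a quaternion group forces `Q₈`. -/
theorem eq_one_of_quaternion {Q : Subgroup G} {m : ℕ} (hm : 2 ≤ m)
    (e : Q ≃* QuaternionGroup (2 ^ m)) {g : G} (hg : g ∈ normalizer (Q : Set G))
    (hodd : Nat.Coprime (orderOf g) 2) : g ∈ centralizer (Q : Set G) := by
  let c : Q := e.symm (.a 1)
  have hc : 4 < orderOf c := by
    rw [e.symm.orderOf_eq, QuaternionGroup.orderOf_a_one]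
    calc 4 < 2 * 2 ^ 2 := by norm_num
      _ ≤ 2 * 2 ^ m := Nat.mul_le_mul_left _ (Nat.pow_le_pow_right (by norm_num) hm)
  have hmem : ∀ y : Q, (∃ k, e y = .a k) → (y : G) ∈ zpowers (c : G) := by
    rintro y ⟨k, hk⟩
    refine ⟨k.val, ?_⟩
    change (c : G) ^ ((k.val : ℕ) : ℤ) = _
    rw [zpow_natCast, ← Subgroup.coe_pow]
    congr 1
    apply e.injective
    rw [map_pow, e.apply_symm_apply, QuaternionGroup.a_one_pow, ZMod.natCast_zmod_val, hk]
  let C : Subgroup G := zpowers (c : G)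
  have hCn : g ∈ normalizer (C : Set G) := by
    rw [mem_normalizer_iff_map_conj_eq, MonoidHom.map_zpowers]
    refine Subgroup.eq_of_le_of_card_ge (zpowers_le.mpr ?_) ?_
    · have hy : g * c * g⁻¹ ∈ Q := (mem_normalizer_iff.1 hg c).1 c.2
      refine hmem ⟨_, hy⟩ (quaternion_order_gt _ _ ?_)
      rw [e.orderOf_eq, ← orderOf_coe]
      change 4 < orderOf ((MulAut.conj g) (c : G))
      rwa [MulEquiv.orderOf_eq, orderOf_coe]
    · rw [Nat.card_zpowers, Nat.card_zpowers]
      exact (MulEquiv.orderOf_eq (MulAut.conj g) (c : G)).ge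
  have hCp : IsPGroup 2 C := by
    refine IsPGroup.of_card (n := m + 1) ?_
    rw [Nat.card_zpowers, orderOf_coe, e.symm.orderOf_eq, QuaternionGroup.orderOf_a_one, pow_succ']
  have hcent := mem_centralizer_of_isCyclic hCp inferInstance hCn hodd
  rw [mem_centralizer_iff]
  intro y hy
  by_cases hyC : ∃ k, e ⟨y, hy⟩ = .a k
  · exact mem_centralizer_iff.mp hcent y (hmem ⟨y, hy⟩ hyC)
  have hz : g * y * g⁻¹ ∈ Q := (mem_normalizer_iff.1 hg y).1 hy
  have hzC : ¬ ∃ k, e ⟨_, hz⟩ = .a k := by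
    intro h
    apply hyC
    have h1 := hmem _ h
    have hw : y ∈ C := by
      have := (mem_normalizer_iff.1 hCn y).2 h1
      exact this
    obtain ⟨i, hi⟩ := mem_powers_iff_mem_zpowers.mpr hw
    have e1 : (⟨y, hy⟩ : Q) = c ^ i := Subtype.ext (by rw [Subgroup.coe_pow]; exact hi.symm)
    rw [e1, map_pow, e.apply_symm_apply]
    exact ⟨_, QuaternionGroup.a_one_pow i⟩
  have hw : ⁅g, y⁆ ∈ C := by
    obtain ⟨k, hk⟩ : ∃ k, e (⟨_, hz⟩ * ⟨y, hy⟩⁻¹) = .a k := by
      rw [map_mul, map_inv]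
      cases h1 : e ⟨_, hz⟩ with
      | a k => exact absurd ⟨k, h1⟩ hzC
      | xa k =>
        cases h2 : e ⟨y, hy⟩ with
        | a l => exact absurd ⟨l, h2⟩ hyC
        | xa l => exact ⟨_, rfl⟩
    exact hmem _ ⟨k, hk⟩
  have h1 : g * ⁅g, y⁆ * g⁻¹ = ⁅g, y⁆ :=
    mul_inv_eq_iff_eq_mul.mpr (mem_centralizer_iff.mp hcent _ hw).symm
  obtain ⟨k, hk⟩ := hCp ⟨_, hw⟩
  have : Fact (Nat.Prime 2) := ⟨Nat.prime_two⟩
  have h2 := eq_one_of_conj_eq_mul (p := 2) hodd ⟨k, congrArg Subtype.val hk⟩ h1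
    (show g * y * g⁻¹ = ⁅g, y⁆ * y by rw [commutatorElement_def]; group)
  exact (commutatorElement_eq_one_iff_mul_comm.mp h2).symm

/-- The `SL(2,3)` section from an element of odd order acting on `Q₈`. -/
theorem exists_slTwoThree_section {Q : Subgroup G} (e : Q ≃* QuaternionGroup 2) {g : G}
    (hg : g ∈ normalizer (Q : Set G)) (hodd : Nat.Coprime (orderOf g) 2)
    (hne : g ∉ centralizer (Q : Set G)) :
    ∃ (H K : Subgroup G) (_ : (K.subgroupOf H).Normal),
      Nonempty ((H ⧸ K.subgroupOf H) ≃* Matrix.SpecialLinearGroup (Fin 2) (ZMod 3)) := by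
  obtain ⟨φ, hφ⟩ := mem_normalizer_conj_equiv hg
  let σ : MulAut (QuaternionGroup 2) := MulAut.congr e φ
  have hσ : ∀ n : ℕ, σ ^ n = MulAut.congr e (φ ^ n) := fun n => (map_pow _ _ _).symm
  have h3 : σ ^ 3 = 1 := by
    have h1 : φ ^ orderOf g = 1 := MulEquiv.ext fun x => Subtype.ext (by
      rw [hφ, pow_orderOf_eq_one, one_mul, inv_one, mul_one]; rfl)
    have h2 : σ ^ Nat.gcd (orderOf g) 12 = 1 :=
      pow_gcd_eq_one.mpr ⟨by rw [hσ, h1, map_one], q8_aut_pow σ⟩
    have hd : Nat.gcd (orderOf g) 12 ∣ 3 := by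
      have : Nat.Coprime (Nat.gcd (orderOf g) 12) 4 :=
        (hodd.coprime_dvd_left (Nat.gcd_dvd_left _ _)).pow_right 2
      exact this.dvd_of_dvd_mul_left (show _ ∣ 4 * 3 from Nat.gcd_dvd_right _ _)
    obtain ⟨k, hk⟩ := hd
    rw [hk, pow_mul, h2, one_pow]
  have hφ3 : φ ^ 3 = 1 := (MulAut.congr e).injective (by rw [← hσ, h3, map_one])
  have hg3 : g ^ 3 ∈ centralizer (Q : Set G) := by
    rw [mem_centralizer_iff]
    intro x hx
    have h5 := hφ 3 ⟨x, hx⟩
    rw [hφ3] at h5
    exact (mul_inv_eq_iff_eq_mul.mp h5.symm).symm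
  have h3d : 3 ∣ orderOf g := by
    by_contra hnd
    have hc : Nat.Coprime (orderOf g) 3 := (Nat.prime_three.coprime_iff_not_dvd.mpr hnd).symm
    obtain ⟨m, hm⟩ := exists_pow_eq_self_of_coprime hc.symm
    exact hne (hm ▸ pow_mem hg3 m)
  -- find the two generators
  obtain ⟨x, hx⟩ : ∃ x : QuaternionGroup 2, x * σ x ≠ σ x * x := by
    by_contra hall
    push Not at hall
    apply hne
    rw [mem_centralizer_iff]
    intro y hy
    have key : σ (e ⟨y, hy⟩) = e ⟨y, hy⟩ := by
      set w := e ⟨y, hy⟩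
      by_cases hc : ∀ v, w * v = v * w
      · have hc' : ∀ v, σ w * v = v * σ w := fun v => by
          obtain ⟨u, rfl⟩ := σ.surjective v
          rw [← map_mul, ← map_mul, hc u]
        rcases q8_center w hc with h | h <;> rcases q8_center _ hc' with h' | h'
        · exact h'.trans h.symm
        · rw [h, map_one] at h'; exact absurd h' (by decide)
        · rw [h] at h'; exact absurd (σ.injective (h'.trans (map_one σ).symm)) (by decide)
        · exact h'.trans h.symm
      · push Not at hc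
        obtain ⟨v, hv⟩ := hc
        obtain ⟨hw4, -, -, hw2⟩ := q8_facts w v hv
        have hit : (σ ^ 3) w = w := by rw [h3]; rfl
        rw [pow_succ, pow_two, MulAut.mul_apply, MulAut.mul_apply] at hit
        rcases q8_comm_iff w (σ w) (hall w) ⟨v, hv⟩ with h | h | h | h
        · exact absurd (σ.injective (h.trans (map_one σ).symm)) (fun h' => hw2 (by rw [h', one_pow]))
        · exact h
        · exfalso
          apply hw2
          have : σ w ^ 2 = 1 := by rw [h, ← pow_mul]; exact hw4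
          rw [← map_pow] at this
          exact σ.injective (this.trans (map_one σ).symm)
        · exfalso
          rw [h, map_pow, h, ← pow_mul, map_pow, h, ← pow_mul,
            pow_eq_pow_mod _ hw4] at hit
          apply hw2
          calc w ^ 2 = w ^ 3 * w⁻¹ := by group
            _ = 1 := by rw [hit, mul_inv_cancel]
    have h5 := hφ 1 ⟨y, hy⟩
    rw [pow_one, pow_one] at h5
    have h6 : φ ⟨y, hy⟩ = ⟨y, hy⟩ := by
      apply e.injective
      have : σ (e ⟨y, hy⟩) = e (φ ⟨y, hy⟩) := by simp [σ, MulAut.congr]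
      rw [← this, key]
    rw [h6] at h5
    exact (mul_inv_eq_iff_eq_mul.mp h5.symm).symm
  have hxx : σ x * σ (σ x) ≠ σ (σ x) * σ x := by
    rw [← map_mul, ← map_mul]; exact fun h => hx (σ.injective h)
  have hit : σ (σ (σ x)) = x := by
    have : (σ ^ 3) x = x := by rw [h3]; rfl
    rwa [pow_succ, pow_two, MulAut.mul_apply, MulAut.mul_apply] at this
  have hx2 : x * σ (σ x) ≠ σ (σ x) * x := by
    intro h
    apply hx
    have := congrArg σ h
    rw [map_mul, map_mul, hit] at this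
    exact this.symm
  obtain ⟨i, hi, hrel⟩ : ∃ i : QuaternionGroup 2, i * σ i ≠ σ i * i ∧ σ (σ i) = i * σ i := by
    rcases q8_third x (σ x) (σ (σ x)) hx hx2 hxx with h | h
    · exact ⟨x, hx, h⟩
    · refine ⟨x⁻¹, ?_, ?_⟩
      · rw [map_inv, ← mul_inv_rev, ← mul_inv_rev]
        exact fun h' => hx (inv_injective h').symm
      · rw [map_inv, map_inv, h, mul_inv_rev]
  obtain ⟨hi4, hi2, hinv, hi21⟩ := q8_facts i (σ i) hi
  let qi : Q := e.symm i
  let qj : Q := φ qi
  have hej : e qj = σ i := by simp [σ, qj, qi, MulAut.congr]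
  have hek : e (φ qj) = e (qi * qj) := by
    rw [map_mul, hej, e.apply_symm_apply, ← hrel]
    simp [σ, qj, qi, MulAut.congr]
  let H : Subgroup G := Q ⊔ zpowers g
  let K : Subgroup G := zpowers (g ^ 3)
  have hgH : g ∈ H := mem_sup_right (mem_zpowers g)
  have hQH : Q ≤ H := le_sup_left
  have hKn : (K.subgroupOf H).Normal := by
    have hgc : g ∈ centralizer (K : Set G) := by
      rw [mem_centralizer_iff]
      rintro _ ⟨i, rfl⟩
      exact ((Commute.refl g).pow_left 3).zpow_left i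
    have hQc : Q ≤ centralizer (K : Set G) := le_centralizer_iff.mp (zpowers_le.mpr hg3)
    have hH : H ≤ centralizer (K : Set G) := sup_le hQc (zpowers_le.mpr hgc)
    refine ⟨fun k hk h => ?_⟩
    rw [mem_subgroupOf] at hk ⊢
    rw [Subgroup.coe_mul, Subgroup.coe_mul, Subgroup.coe_inv,
      ← mem_centralizer_iff.mp (hH h.2) _ hk, mul_inv_cancel_right]
    exact hk
  refine ⟨H, K, hKn, ?_⟩
  let π := QuotientGroup.mk' (K.subgroupOf H)
  let I : H := ⟨qi, hQH qi.2⟩
  let J : H := ⟨qj, hQH qj.2⟩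
  let D : H := ⟨g, hgH⟩
  have hgen : Subgroup.closure {I, J, D} = ⊤ := by
    apply map_injective H.subtype_injective
    rw [MonoidHom.map_closure, ← MonoidHom.range_eq_map, range_subtype]
    simp only [Set.image_insert_eq, Set.image_singleton, Subgroup.coe_subtype, I, J, D]
    refine le_antisymm ((closure_le _).mpr ?_) (sup_le ?_ (zpowers_le.mpr (subset_closure (by simp))))
    · rintro z (rfl | rfl | rfl)
      exacts [hQH qi.2, hQH qj.2, hgH]
    · intro y hy
      have key : ∀ w, ∃ a b : ℕ, w = i ^ a * σ i ^ b :=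
        fun w => q8_generate i (σ i) hi w
      obtain ⟨a, b, hab⟩ := key (e ⟨y, hy⟩)
      have : (⟨y, hy⟩ : Q) = qi ^ a * qj ^ b := e.injective (by
        rw [map_mul, map_pow, map_pow, hej, e.apply_symm_apply, hab])
      have h' := congrArg Subtype.val this
      simp only [Subgroup.coe_mul, Subgroup.coe_pow] at h'
      rw [h']
      exact mul_mem (pow_mem (subset_closure (by simp)) _) (pow_mem (subset_closure (by simp)) _)
  have hgenπ : Subgroup.closure {π I, π J, π D} = ⊤ := by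
    rw [show ({π I, π J, π D} : Set _) = π '' {I, J, D} by
        rw [Set.image_insert_eq, Set.image_insert_eq, Set.image_singleton],
      ← MonoidHom.map_closure, hgen, Subgroup.map_top_of_surjective π (QuotientGroup.mk'_surjective _)]
  have hrel' : SLTwoThreeRel (π I) (π J) (π D) := by
    have hQeq : ∀ u v : Q, e u = e v → (u : G) = v := fun u v h => congrArg Subtype.val (e.injective h)
    refine ⟨?_, ?_, ?_, ?_, ?_, ?_⟩
    · rw [← map_pow, ← map_one π]
      congr 1
      exact Subtype.ext (hQeq (qi ^ 4) 1 (by rw [map_pow, e.apply_symm_apply, hi4, map_one]))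
    · rw [← map_pow, ← map_pow]
      congr 1
      exact Subtype.ext (hQeq (qi ^ 2) (qj ^ 2)
        (by rw [map_pow, map_pow, hej, e.apply_symm_apply, hi2]))
    · rw [← map_inv, ← map_mul, ← map_mul, ← map_inv]
      congr 1
      exact Subtype.ext (hQeq (qj * qi * qj⁻¹) qi⁻¹
        (by rw [map_mul, map_mul, map_inv, map_inv, hej, e.apply_symm_apply, hinv]))
    · rw [← map_pow]
      exact (QuotientGroup.eq_one_iff _).mpr (mem_subgroupOf.mpr (mem_zpowers (g ^ 3)))
    · rw [← map_inv, ← map_mul, ← map_mul]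
      congr 1
      exact Subtype.ext (by simpa [qj] using (hφ 1 qi).symm)
    · rw [← map_inv, ← map_mul, ← map_mul, ← map_mul]
      congr 1
      refine Subtype.ext ?_
      have h5 : g * (qj : G) * g⁻¹ = ((φ qj : Q) : G) := by simpa using (hφ 1 qj).symm
      change g * (qj : G) * g⁻¹ = _
      rw [h5, hQeq _ _ hek]
      rfl
  refine hrel'.mulEquiv_SL hgenπ (le_of_eq ?_)
  have hdis : Q ⊓ zpowers g = ⊥ := inf_eq_bot_of_coprime (by
    rw [Nat.card_congr e.toEquiv, Nat.card_eq_fintype_card, QuaternionGroup.card, Nat.card_zpowers]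
    exact (hodd.pow_right 3).symm)
  have hcardH : Nat.card H = 8 * orderOf g := by
    have h := CfsgLib.PLocal.card_sup_mul_card_inf (zpowers g) Q (zpowers_le.mpr hg)
    rw [inf_comm, hdis, card_bot, mul_one, sup_comm, Nat.card_zpowers, Nat.card_congr e.toEquiv,
      Nat.card_eq_fintype_card (α := QuaternionGroup 2), QuaternionGroup.card] at h
    rw [h, mul_comm]
  have hKH : K ≤ H := zpowers_le.mpr (pow_mem hgH 3)
  have h := (K.subgroupOf H).card_mul_index
  rw [Nat.card_congr (subgroupOfEquivOfLe hKH).toEquiv, Nat.card_zpowers, index_eq_card,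
    orderOf_pow' g (by norm_num), Nat.gcd_eq_right h3d, hcardH] at h
  have hpos : 0 < orderOf g := orderOf_pos g
  obtain ⟨t, ht⟩ := h3d
  rw [ht, Nat.mul_div_cancel_left _ (by norm_num : 0 < 3)] at h
  have ht0 : 0 < t := by omega
  exact (Nat.eq_of_mul_eq_mul_left ht0 (h.trans (by ring))).symm
where
  q8_generate : ∀ x y : QuaternionGroup 2, x * y ≠ y * x → ∀ w, ∃ a b : ℕ, w = x ^ a * y ^ b := by
    have key : ∀ x y : QuaternionGroup 2, x * y ≠ y * x → ∀ w,
        ∃ a : Fin 4, ∃ b : Fin 2, w = x ^ (a : ℕ) * y ^ (b : ℕ) := by decide +kernel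
    exact fun x y h w => let ⟨a, b, hab⟩ := key x y h w; ⟨a, b, hab⟩

/-- **Quaternion Sylow 2-subgroups**. -/
theorem hasNormalPComplement_or_slTwoThree (T : Sylow 2 G) (n : ℕ)
    (hT : Nonempty ((T : Subgroup G) ≃* QuaternionGroup (2 ^ n))) :
    HasNormalPComplement 2 G ∨ ∃ (H K : Subgroup G) (_ : (K.subgroupOf H).Normal),
      Nonempty ((H ⧸ K.subgroupOf H) ≃* Matrix.SpecialLinearGroup (Fin 2) (ZMod 3)) := by
  have : Fact (Nat.Prime 2) := ⟨Nat.prime_two⟩
  refine or_iff_not_imp_left.mpr fun hno => ?_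
  rw [hasNormalPComplement_iff_forall_centralizing T] at hno
  push Not at hno
  obtain ⟨Q, hQT, g, hg, hodd, hne⟩ := hno
  have hQ : IsPGroup 2 Q := T.2.to_le hQT
  have hQne : Q ≠ ⊥ := by
    rintro rfl
    exact hne (mem_centralizer_iff.mpr fun x hx => by rw [mem_bot.mp hx]; simp)
  obtain ⟨eT⟩ := hT
  have h2d : 2 ∣ Nat.card Q := by
    obtain ⟨k, hk⟩ := IsPGroup.iff_card.mp hQ
    rcases k with _ | k
    · exact absurd (eq_bot_of_card_eq Q hk) hQne
    · rw [hk]; exact dvd_pow_self 2 (Nat.succ_ne_zero k)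
  obtain ⟨z, hz⟩ := exists_prime_orderOf_dvd_card' 2 h2d
  have huniq : ∀ y : Q, y ^ 2 = 1 → y ∈ zpowers z := by
    intro y hy
    have h1 : ∀ w : Q, w ^ 2 = 1 → w = 1 ∨ eT (inclusion hQT w) = .a (2 ^ n : ℕ) := by
      intro w hw
      rcases CfsgLib.LocalEven.quaternion_eq_of_sq_eq_one
        (x := eT (inclusion hQT w)) (by rw [← map_pow, ← map_pow, hw, map_one, map_one]) with h | h
      · exact Or.inl (inclusion_injective hQT (eT.injective (h.trans (by rw [map_one, map_one]))))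
      · exact Or.inr h
    rcases h1 y hy with rfl | hy'
    · exact one_mem _
    rcases h1 z (orderOf_eq_iff (by norm_num) |>.mp hz).1 with hz' | hz'
    · rw [hz', orderOf_one] at hz; exact absurd hz (by norm_num)
    rw [inclusion_injective hQT (eT.injective (hy'.trans hz'.symm))]
    exact mem_zpowers z
  rcases CfsgLib.PGroups.isCyclic_or_quaternion_of_unique hQ
    (orderOf_eq_iff (by norm_num) |>.mp hz).1 huniq with hc | ⟨-, m, hm, ⟨e⟩⟩
  · exact absurd (mem_centralizer_of_isCyclic hQ hc hg hodd) hne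
  rcases eq_or_lt_of_le hm with hm1 | hm2
  · subst hm1
    exact exists_slTwoThree_section e hg hodd hne
  · exact absurd (eq_one_of_quaternion hm2 e hg hodd) hne

end CfsgLib.Transfer
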