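import Cfsg.Agent.Lib.Transfer.SL2Free
import Cfsg.Agent.Lib.PLocal.Constrained
import Cfsg.Agent.Lib.PLocal.Offender
import Cfsg.Agent.Lib.OddOrder.SL2Sections

/-!
# Thompson's factorization theorem
-/

set_option autoImplicit false

open Subgroup Cfsg CfsgLib.PLocal
open scoped commutatorElement

universe u

namespace CfsgLib.Transfer

variable {G : Type u} [Group G] [Finite G] {p : ℕ} [hp : Fact p.Prime]

omit [Finite G] in
theorem omegaOne_center_le_centralizer (P : Subgroup G) :
    P ≤ centralizer (omegaOne p (P ⊓ centralizer (P : Set G)) : Set G) := by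
  rw [le_centralizer_iff]
  exact (omegaOne_le p _).trans inf_le_right

/-- `J(P)` centralises the normal closure of `Ω₁(Z(P))`. -/
theorem thompsonSubgroupOf_le_centralizer_normalClosure (hp2 : p ≠ 2)
    (hfree : ¬ CfsgLib.OddOrder.InvolvesSL2 p G)
    (hc : centralizer (pCore p G : Set G) ≤ pCore p G) (P : Sylow p G) :
    thompsonSubgroupOf p (P : Subgroup G) ≤ centralizer (normalClosure
      (omegaOne p ((P : Subgroup G) ⊓ centralizer ((P : Subgroup G) : Set G)) : Set G) : Set G) := by
  let Ω : Subgroup G := omegaOne p ((P : Subgroup G) ⊓ centralizer ((P : Subgroup G) : Set G))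
  let V : Subgroup G := normalClosure (Ω : Set G)
  have hHP : pCore p G ≤ (P : Subgroup G) := CfsgLib.Base.pCore_le_sylow P
  let Z : Subgroup G := omegaOne p (pCore p G ⊓ centralizer (pCore p G : Set G))
  have hZn : Z.Normal :=
    omegaOne_normal (normal_inf_normal (pCore p G) (centralizer (pCore p G : Set G)))
  have hVZ : V ≤ Z := by
    refine normalClosure_le_normal ?_
    change Ω ≤ Z
    refine omegaOne_mono ?_
    have h1 : (P : Subgroup G) ⊓ centralizer ((P : Subgroup G) : Set G) ≤
        centralizer (pCore p G : Set G) := inf_le_right.trans (Subgroup.centralizer_le hHP)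
    exact le_inf (h1.trans hc) h1
  have hVe : IsElementaryAbelian p V := isElementaryAbelian_of_le
    (isElementaryAbelian_omegaOne (inf_centralizer_le_centralizer _)) hVZ
  have hVP : V ≤ (P : Subgroup G) :=
    hVZ.trans ((omegaOne_le p _).trans (inf_le_left.trans hHP))
  rw [thompsonSubgroupOf_eq_sSup]
  refine sSup_le fun A hA => ?_
  by_contra hAV
  obtain ⟨hB, hBq, hBne⟩ := maxEA_replacement hVe hVP hA.1 hA
    ((normalizer_eq_top_iff.mpr (inferInstance : V.Normal)) ▸ le_top)
  set B := ⁅V, A⁆ ⊔ (A ⊓ centralizer ((⁅V, A⁆ : Subgroup G) : Set G))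
  have hVA : ⁅V, A⁆ ≠ ⊥ := fun h0 =>
    hAV (le_centralizer_iff.mp (commutator_eq_bot_iff_le_centralizer.mp h0))
  refine hBne hVA (commutator_eq_bot_iff_le_centralizer.mpr (le_centralizer_iff.mp ?_))
  -- `O_p` of the induced action is trivial
  let C : Subgroup G := centralizer (V : Set G)
  let D : Subgroup G := (pCore p (G ⧸ C)).comap (QuotientGroup.mk' C)
  have hDn : D.Normal := (pCore_normal p (G ⧸ C)).comap _
  have hCD : C ≤ D := QuotientGroup.le_comap_mk' C _
  have hDC : D ≤ C := by
    obtain ⟨k, hk⟩ := CfsgLib.Base.pCore_eq_pow_card p (G ⧸ C)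
    have hrel : C.relIndex D = p ^ k := by
      rw [← card_map_mk'_eq_relIndex, CfsgLib.Base.map_mk'_comap, hk]
    intro x hx
    rw [mem_centralizer_iff]
    intro v hv
    -- check on the generators of `V`
    suffices hle : V ≤ centralizer (D : Set G) from (mem_centralizer_iff.mp (hle hv) x hx).symm
    refine normalClosure_le_normal ?_
    change Ω ≤ centralizer (D : Set G)
    rw [le_centralizer_iff, ← eq_sup_sylow_inf P hCD hrel]
    exact sup_le (Subgroup.centralizer_le subset_normalClosure)
      (inf_le_left.trans (omegaOne_center_le_centralizer _))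
  intro b hb
  refine hDC (mem_pCore_of_quadratic_elementary hp2 hfree V hVe (a := b) (le_bot_iff.mp ?_))
  exact (commutator_mono (commutator_mono le_rfl (zpowers_le.mpr hb)) (zpowers_le.mpr hb)).trans
    hBq.le

/-- **Thompson factorization** for `p`-constrained groups without section `SL(2,p)`. -/
theorem exists_thompson_factorization (hp2 : p ≠ 2) (hfree : ¬ CfsgLib.OddOrder.InvolvesSL2 p G)
    (hc : centralizer (pCore p G : Set G) ≤ pCore p G) (P : Sylow p G) (g : G) :
    ∃ a ∈ normalizer (thompsonSubgroupOf p (P : Subgroup G) : Set G),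
      ∃ c ∈ centralizer (omegaOne p ((P : Subgroup G) ⊓ centralizer ((P : Subgroup G) : Set G)) :
        Set G), g = a * c := by
  let Ω : Subgroup G := omegaOne p ((P : Subgroup G) ⊓ centralizer ((P : Subgroup G) : Set G))
  let C : Subgroup G := centralizer (normalClosure (Ω : Set G) : Set G)
  obtain ⟨d, hd, n, hn, hdn⟩ := exists_mul_normalizer P C g⁻¹
  refine ⟨n⁻¹, inv_mem ?_, d⁻¹, inv_mem (Subgroup.centralizer_le subset_normalClosure hd), ?_⟩
  · have hle : thompsonSubgroupOf p (P : Subgroup G) ≤ (P : Subgroup G) ⊓ C :=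
      le_inf (thompsonSubgroupOf_le p _)
        (thompsonSubgroupOf_le_centralizer_normalClosure hp2 hfree hc P)
    rw [← thompsonSubgroupOf_eq_of_le hle inf_le_left]
    exact normalizer_le_normalizer_thompsonSubgroupOf _ hn
  · rw [← mul_inv_rev, ← hdn, inv_inv]

/-- No section `SL(2,p)` in a solvable group, for `p ≥ 5` or abelian Sylow 2-subgroups. -/
theorem not_involvesSL2_of_isSolvable (hp2 : p ≠ 2) (hs : Group.IsSolvable G)
    (h3 : p = 3 → ∀ T : Sylow 2 G, IsMulCommutative T) :
    ¬ CfsgLib.OddOrder.InvolvesSL2 p G := by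
  intro h
  have h33 := h.eq_three hp2 isPSolvable_of_isSolvable
  obtain ⟨T⟩ : Nonempty (Sylow 2 G) := inferInstance
  exact h.sylow_two_nonabelian hp2 T (h3 h33 T)

theorem centralizer_pCore_le_of_isSolvable (hs : Group.IsSolvable G)
    (hF : ∀ N : Subgroup G, N.Normal → Nat.Coprime (Nat.card N) p → N = ⊥) :
    centralizer (pCore p G : Set G) ≤ pCore p G := by
  have hO : pPrimeCore p G = ⊥ :=
    hF _ inferInstance (CfsgLib.Base.pPrimeCore_coprime p G)
  exact (isPConstrained_iff_of_eq_bot hO).mp (isPConstrained_of_isPSolvable isPSolvable_of_isSolvable)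

end CfsgLib.Transfer
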