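import Mathlib

/-!
Transfer at an element all of whose proper powers are harmless is a product over fixed points.
-/

set_option autoImplicit false

namespace CfsgLib.Transfer

open Subgroup MulAction

variable {G : Type*} [Group G] {H : Subgroup G} {A : Type*} [CommGroup A] (ϕ : H →* A)

open Classical in
/-- The contribution of a point of `G ⧸ H` to the transfer at `x`: trivial unless `x` fixes it. -/
noncomputable def fixedVal (x : G) (q : G ⧸ H) : A :=
  if h : q.out⁻¹ * x * q.out ∈ H then ϕ ⟨_, h⟩ else 1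

theorem fixedVal_of_mem (x : G) {g : G} (h : g⁻¹ * x * g ∈ H) :
    fixedVal ϕ x (g : G ⧸ H) = ϕ ⟨g⁻¹ * x * g, h⟩ := by
  obtain ⟨j, hj⟩ := QuotientGroup.mk_out_eq_mul H g
  have h' : ((g : G ⧸ H).out)⁻¹ * x * (g : G ⧸ H).out ∈ H := by
    rw [hj, show (g * j : G)⁻¹ * x * (g * j) = (j : G)⁻¹ * (g⁻¹ * x * g) * j by group]
    exact H.mul_mem (H.mul_mem (H.inv_mem j.2) h) j.2
  rw [fixedVal, dif_pos h']
  have e : (⟨_, h'⟩ : H) = j⁻¹ * ⟨g⁻¹ * x * g, h⟩ * j := Subtype.ext (by
    show ((g : G ⧸ H).out)⁻¹ * x * (g : G ⧸ H).out = (j : G)⁻¹ * (g⁻¹ * x * g) * (j : G)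
    rw [hj]; group)
  rw [e, map_mul, map_mul, map_inv, mul_right_comm, inv_mul_cancel, one_mul]

theorem mem_iff_smul_eq (x g : G) : g⁻¹ * x * g ∈ H ↔ x • (g : G ⧸ H) = g := by
  rw [MulAction.Quotient.smul_coe, smul_eq_mul, eq_comm, QuotientGroup.eq, mul_assoc]

theorem fixedVal_of_ne (x : G) {q : G ⧸ H} (h : x • q ≠ q) : fixedVal ϕ x q = 1 := by
  rw [fixedVal, dif_neg]
  rw [mem_iff_smul_eq, QuotientGroup.out_eq']
  exact h

/-- Transfer as a product over fixed points. -/
theorem transfer_eq_prod_fixedVal [Finite G] [Fintype (G ⧸ H)] (x : G)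
    (hgood : ∀ k, 1 < k → k ∣ orderOf x → ∀ (g : G) (h : g⁻¹ * x ^ k * g ∈ H), ϕ ⟨_, h⟩ = 1) :
    MonoidHom.transfer ϕ x = ∏ q : G ⧸ H, fixedVal ϕ x q := by
  classical
  rw [MonoidHom.transfer_eq_prod_quotient_orbitRel_zpowers_quot ϕ x,
    ← (quotientEquivSigmaZMod H x).symm.prod_comp (fixedVal ϕ x), Fintype.prod_sigma]
  refine Fintype.prod_congr _ _ fun q => ?_
  simp only [quotientEquivSigmaZMod_symm_apply]
  set m := Function.minimalPeriod (x • ·) q.out with hm
  have hm0 : 0 < m := Nat.pos_of_ne_zero (NeZero.ne _)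
  have hfix : x ^ m • q.out = q.out := pow_smul_eq_iff_minimalPeriod_dvd.2 dvd_rfl
  rcases Nat.lt_or_ge 1 m with h1 | h1
  · have hne : ∀ k : ZMod m, x • x ^ (ZMod.cast k : ℤ) • q.out ≠ x ^ (ZMod.cast k : ℤ) • q.out := by
      intro k he
      rw [← mul_smul, ← zpow_one_add, add_comm, zpow_add, mul_smul, smul_left_cancel_iff, zpow_one] at he
      have h2 := pow_smul_eq_iff_minimalPeriod_dvd.1
        (show x ^ 1 • q.out = q.out by rw [pow_one]; exact he)
      rw [← hm] at h2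
      exact h1.ne' (Nat.dvd_one.1 h2)
    rw [Finset.prod_eq_one fun k _ => fixedVal_of_ne ϕ x (hne k)]
    exact hgood m h1 (pow_smul_eq_iff_minimalPeriod_dvd.1 (by rw [pow_orderOf_eq_one, one_smul]))
      q.out.out _
  · have hm1 : m = 1 := le_antisymm h1 hm0
    have hx : x • q.out = q.out := by simpa [hm1] using hfix
    have : Subsingleton (ZMod m) := by rw [hm1]; exact inferInstanceAs (Subsingleton (ZMod 1))
    rw [Fintype.prod_subsingleton _ (0 : ZMod m), ZMod.cast_zero, zpow_zero, one_smul]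
    have hmem : q.out.out⁻¹ * x * q.out.out ∈ H := by
      rw [mem_iff_smul_eq, QuotientGroup.out_eq']; exact hx
    rw [← QuotientGroup.out_eq' q.out, fixedVal_of_mem ϕ x hmem]
    congr 1
    ext
    simp only [QuotientGroup.out_eq']
    rw [← hm, hm1, pow_one]

end CfsgLib.Transfer
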