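import Cfsg.Agent.Lib.Transfer.Fusion

/-!
# Transfer evaluated at central elements, and the sign of a permutation action
-/

set_option autoImplicit false

open Subgroup

namespace CfsgLib.Transfer

variable {G : Type*} [Group G]

/-- A homomorphism of a subgroup to an abelian group kills the `index`-th power of an element of
the subgroup that is central in the group and lies in the commutator subgroup. -/
theorem map_pow_index_eq_one {H : Subgroup G} [H.FiniteIndex] {A : Type*} [CommGroup A]
    (f : H →* A) {z : H} (hc : (z : G) ∈ center G) (hz : (z : G) ∈ commutator G) :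
    f z ^ H.index = 1 := by
  have key : ∀ (k : ℕ) (g₀ : G), g₀⁻¹ * (z : G) ^ k * g₀ ∈ H →
      g₀⁻¹ * (z : G) ^ k * g₀ = (z : G) ^ k := by
    intro k g₀ _
    have h := mem_center_iff.mp (pow_mem hc k) g₀
    rw [mul_assoc, ← h, inv_mul_cancel_left]
  have h1 : MonoidHom.transfer f (z : G) = 1 :=
    Abelianization.commutator_subset_ker (MonoidHom.transfer f) hz
  rw [MonoidHom.transfer_eq_pow f _ key] at h1
  rw [← map_pow, ← h1]
  rfl

open scoped IsMulCommutative in
/-- An abelian Hall subgroup meets `G' ∩ Z(G)` trivially. -/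
theorem inf_commutator_inf_center_eq_bot [Finite G] (H : Subgroup G) (hc : IsMulCommutative H)
    (hH : Nat.Coprime (Nat.card H) H.index) : H ⊓ commutator G ⊓ center G = ⊥ := by
  rw [eq_bot_iff]
  rintro z ⟨⟨hzH, hzG⟩, hzZ⟩
  rw [mem_bot]
  have h1 := map_pow_index_eq_one (MonoidHom.id H) (z := ⟨z, hzH⟩) hzZ hzG
  have h2 : (⟨z, hzH⟩ : H) ^ Nat.card H = 1 := pow_card_eq_one'
  have h3 := pow_gcd_eq_one.mpr ⟨h2, h1⟩
  rw [hH.gcd_eq_one, pow_one] at h3
  exact congrArg Subtype.val h3

end CfsgLib.Transfer
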