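import Cfsg.Agent.Lib.Transfer.CentralTransfer
import Cfsg.Agent.Lib.Coprime.Action

/-!
# Decomposition of an abelian normal Hall subgroup
-/

set_option autoImplicit false

open Subgroup
open scoped commutatorElement

namespace CfsgLib.Transfer

variable {G : Type*} [Group G] [Finite G]

/-- For an abelian normal Hall subgroup `A`, every element is a product of an element of `[A,G]`
and a central element. -/
theorem le_commutator_sup_center (A : Subgroup G) [A.Normal] (hc : IsMulCommutative A)
    (hHall : Nat.Coprime (Nat.card A) A.index) :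
    A ≤ ⁅A, (⊤ : Subgroup G)⁆ ⊔ (center G ⊓ A) := by
  obtain ⟨K, hK⟩ := exists_right_complement'_of_coprime hHall
  have hKA : Nat.Coprime (Nat.card K) (Nat.card A) := by
    rw [← hK.symm.index_eq_card]; exact hHall.symm
  have hle : ⁅A, (⊤ : Subgroup G)⁆ ≤ A := commutator_le_left A ⊤
  intro a ha
  obtain ⟨c, hc1, hc2⟩ := CfsgLib.Coprime.exists_centralizing_in_coset (A := K)
    (N := ⁅A, (⊤ : Subgroup G)⁆) (by rw [normalizer_eq_top]; exact le_top)
    (hKA.coprime_dvd_right (card_dvd_of_le hle))
    (Or.inr (Group.isSolvable_of_comm fun x y => Subtype.ext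
        (congrArg Subtype.val (hc.is_comm.comm (⟨x, hle x.2⟩ : A) ⟨y, hle y.2⟩) :)))
    (k := a) (fun k _ => by
      have := commutator_mem_commutator (inv_mem ha) (mem_top k : k ∈ (⊤ : Subgroup G))
      rw [commutatorElement_def, inv_inv] at this
      simpa [mul_assoc] using this)
  have hcA : c ∈ A := by
    have := mul_mem ha (hle hc2)
    rwa [mul_inv_cancel_left] at this
  have hcZ : c ∈ center G := by
    rw [mem_center_iff]
    intro g
    obtain ⟨x, hx, k, hk, rfl⟩ := mem_sup_of_normal_left.mp (hK.sup_eq_top ▸ mem_top g)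
    have h1 : x * c = c * x := congrArg Subtype.val (hc.is_comm.comm ⟨x, hx⟩ ⟨c, hcA⟩)
    rw [mul_assoc, mem_centralizer_iff.mp hc1 k hk, ← mul_assoc, h1, mul_assoc]
  have e : a = c * (a⁻¹ * c)⁻¹ := by group
  rw [e]
  exact mul_mem (mem_sup_right ⟨hcZ, hcA⟩) (mem_sup_left (inv_mem hc2))

/-- An abelian normal Hall subgroup `A` has `[A,G] = G' ∩ A`. -/
theorem commutator_top_eq_commutator_inf (A : Subgroup G) [A.Normal] (hc : IsMulCommutative A)
    (hHall : Nat.Coprime (Nat.card A) A.index) :
    ⁅A, (⊤ : Subgroup G)⁆ = _root_.commutator G ⊓ A := by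
  refine le_antisymm (le_inf (commutator_mono le_top le_rfl) (commutator_le_left A ⊤)) ?_
  rintro x ⟨hx, hxA⟩
  obtain ⟨y, hy, z, hz, rfl⟩ := mem_sup_of_normal_left.mp (le_commutator_sup_center A hc hHall hxA)
  have hy' : y ∈ _root_.commutator G := commutator_mono le_top le_rfl hy
  have hz' : z ∈ _root_.commutator G := (mul_mem_cancel_left hy').mp hx
  have : z ∈ A ⊓ _root_.commutator G ⊓ center G := ⟨⟨hz.2, hz'⟩, hz.1⟩
  rw [inf_commutator_inf_center_eq_bot A hc hHall, mem_bot] at this
  rw [this, mul_one]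
  exact hy

end CfsgLib.Transfer
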