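import Cfsg.Agent.Lib.Transfer.Fusion
import Cfsg.Prelude.Def_TwoFusion

/-!
# Strongly closed subgroups of a Sylow subgroup
-/

set_option autoImplicit false

open Subgroup Cfsg

namespace CfsgLib.Transfer

variable {G : Type*} [Group G] {D P : Subgroup G}

theorem isStronglyClosed_self (P : Subgroup G) : IsStronglyClosed P P :=
  ⟨le_rfl, fun _ _ _ h => h⟩

theorem stronglyClosed_normalizer_inf (hD : IsStronglyClosed D P) {R : Subgroup G} (hR : R ≤ P) :
    normalizer (R : Set G) ≤ normalizer ((D ⊓ R : Subgroup G) : Set G) := by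
  intro g hg
  have key : ∀ h ∈ normalizer (R : Set G), ∀ x ∈ D ⊓ R, h * x * h⁻¹ ∈ D ⊓ R := by
    intro h hh x hx
    have h1 : h * x * h⁻¹ ∈ R := (mem_set_normalizer_iff.mp hh x).mp hx.2
    exact ⟨hD.2 x hx.1 h (hR h1), h1⟩
  refine mem_set_normalizer_iff.mpr fun x => ⟨key g hg x, fun hx => ?_⟩
  simpa [mul_assoc] using key g⁻¹ (inv_mem hg) _ hx

theorem stronglyClosed_le_normalizer (hD : IsStronglyClosed D P) :
    P ≤ normalizer (D : Set G) := by
  have := stronglyClosed_normalizer_inf hD (le_refl P)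
  rw [inf_eq_left.mpr hD.1] at this
  exact le_normalizer.trans this

theorem stronglyClosed_subgroupOf (hD : IsStronglyClosed D P) {R U : Subgroup G} (hRP : R ≤ P) :
    IsStronglyClosed ((D ⊓ R).subgroupOf U) (R.subgroupOf U) := by
  refine ⟨fun x hx => hx.2, fun x hx g hg => ?_⟩
  exact ⟨hD.2 _ hx.1 g (hRP hg), hg⟩

variable {p : ℕ}

theorem stronglyClosed_map_mk [Finite G] [Fact p.Prime] (P : Sylow p G) {D : Subgroup G}
    (hD : IsStronglyClosed D (P : Subgroup G)) (N : Subgroup G) [N.Normal] :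
    IsStronglyClosed (D.map (QuotientGroup.mk' N)) ((P : Subgroup G).map (QuotientGroup.mk' N)) := by
  refine ⟨map_mono hD.1, ?_⟩
  rintro _ ⟨d, hd, rfl⟩ gb hgb
  obtain ⟨g, rfl⟩ := QuotientGroup.mk'_surjective N gb
  rw [← map_inv, ← map_mul, ← map_mul] at hgb ⊢
  let y := g * d * g⁻¹
  have hyU : y ∈ N ⊔ (P : Subgroup G) := by
    have h : y ∈ ((P : Subgroup G).map (QuotientGroup.mk' N)).comap (QuotientGroup.mk' N) := hgb
    rwa [comap_map_eq, QuotientGroup.ker_mk', sup_comm] at h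
  have hyp : IsPGroup p (zpowers y) := by
    have := (P.2.to_le (zpowers_le.mpr (hD.1 hd))).map (MulAut.conj g).toMonoidHom
    rwa [MonoidHom.map_zpowers] at this
  obtain ⟨k, hk, hkP⟩ := exists_conj_le_of_isPGroup (K := N ⊔ (P : Subgroup G)) P.2 le_sup_right
    (fun h => P.not_dvd_index (h.trans (relIndex_dvd_index_of_le le_sup_right))) hyp
    (zpowers_le.mpr hyU)
  obtain ⟨n, hn, u, hu, rfl⟩ := mem_sup_of_normal_left.mp hk
  have hny : n⁻¹ * y * n ∈ (P : Subgroup G) := by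
    have h := mul_mem (mul_mem hu (hkP y (mem_zpowers y))) (inv_mem hu)
    convert h using 1
    group
  have hnD : n⁻¹ * y * n ∈ D := by
    have h := hD.2 d hd (n⁻¹ * g)
    have e : n⁻¹ * g * d * (n⁻¹ * g)⁻¹ = n⁻¹ * y * n := by simp only [y]; group
    rw [e] at h
    exact h hny
  refine ⟨_, hnD, ?_⟩
  have hn1 : QuotientGroup.mk' N n = 1 := (QuotientGroup.eq_one_iff n).mpr hn
  rw [map_mul, map_mul, map_inv, hn1, inv_one, one_mul, mul_one]

end CfsgLib.Transfer
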