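import Cfsg.Agent.Lib.Transfer.ZJComplement
import Cfsg.Agent.Lib.Transfer.SL2Free
import Cfsg.Agent.Lib.Transfer.StronglyClosed
import Cfsg.Agent.Lib.PGroups.Basic

/-!
# Control of strong fusion by the normalizer of a functor normal in constrained groups
-/

set_option autoImplicit false

open Subgroup Cfsg CfsgLib.PLocal
open scoped commutatorElement

universe u

namespace CfsgLib.Transfer

variable {G : Type u} [Group G]

/-- The conjugation by `g` agrees on `A` with that by some element of `M`. -/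
def FusedBy (M : Subgroup G) (A : Set G) (g : G) : Prop :=
  ∃ n ∈ M, ∀ a ∈ A, n⁻¹ * a * n = g⁻¹ * a * g

theorem FusedBy.mono {M : Subgroup G} {A B : Set G} {g : G} (h : FusedBy M A g) (hBA : B ⊆ A) :
    FusedBy M B g := by
  obtain ⟨n, hn, hn'⟩ := h
  exact ⟨n, hn, fun a ha => hn' a (hBA ha)⟩

theorem FusedBy.trans {M : Subgroup G} {A : Set G} {g k : G} (h : FusedBy M A g)
    (h' : FusedBy M ((fun a => g⁻¹ * a * g) '' A) k) : FusedBy M A (g * k) := by
  obtain ⟨n, hn, hn'⟩ := h
  obtain ⟨m, hm, hm'⟩ := h'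
  refine ⟨n * m, mul_mem hn hm, fun a ha => ?_⟩
  calc (n * m)⁻¹ * a * (n * m) = m⁻¹ * (n⁻¹ * a * n) * m := by group
    _ = m⁻¹ * (g⁻¹ * a * g) * m := by rw [hn' a ha]
    _ = k⁻¹ * (g⁻¹ * a * g) * k := hm' _ ⟨a, ha, rfl⟩
    _ = _ := by group

theorem FusedBy.symm {M : Subgroup G} {A : Set G} {g : G} (h : FusedBy M A g) :
    FusedBy M ((fun a => g⁻¹ * a * g) '' A) g⁻¹ := by
  obtain ⟨n, hn, hn'⟩ := h
  refine ⟨n⁻¹, inv_mem hn, ?_⟩
  rintro _ ⟨a, ha, rfl⟩
  dsimp only
  rw [show g⁻¹⁻¹ * (g⁻¹ * a * g) * g⁻¹ = a by group, ← hn' a ha]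
  group

variable {p : ℕ}

/-- `M` controls strong fusion in the `p`-subgroup `P`. -/
def ControlsFusion (P M : Subgroup G) : Prop :=
  ∀ A : Set G, A ⊆ P → ∀ g : G, (∀ a ∈ A, g⁻¹ * a * g ∈ P) → FusedBy M A g

/-- The Frattini argument inside a subgroup. -/
theorem exists_mul_normalizer_inf [Finite G] [Fact p.Prime] {U S : Subgroup G} (hS : IsPGroup p S)
    (hSU : S ≤ U) (hmax : ¬ p ∣ S.relIndex U) (C : Subgroup G) [C.Normal] {x : G} (hx : x ∈ U) :
    ∃ c ∈ C ⊓ U, ∃ m ∈ U ⊓ normalizer ((S ⊓ C : Subgroup G) : Set G), x = c * m := by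
  let T : Sylow p U := (hS.comap_subtype (K := U)).toSylow hmax
  obtain ⟨d, hd, m, hm, hdm⟩ := exists_mul_normalizer T (C.subgroupOf U) ⟨x, hx⟩
  refine ⟨d, ⟨mem_subgroupOf.mp hd, d.2⟩, m, ⟨m.2, ?_⟩, congrArg Subtype.val hdm⟩
  have e : (T : Subgroup U) ⊓ C.subgroupOf U = (S ⊓ C).subgroupOf U := rfl
  rw [e, ← subgroupOf_normalizer_eq (inf_le_left.trans hSU), mem_subgroupOf] at hm
  exact hm

/-- Exact fusion from fusion modulo a normal `p'`-subgroup. -/
theorem fusedBy_of_coprime [Finite G] [Fact p.Prime] (P : Sylow p G) {M K : Subgroup G} [K.Normal]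
    (hK : Nat.Coprime (Nat.card K) p) (hPM : (P : Subgroup G) ≤ M) {A : Set G}
    (hA : A ⊆ (P : Subgroup G)) {g n : G} (hn : n ∈ M)
    (hg : ∀ a ∈ A, g⁻¹ * a * g ∈ (P : Subgroup G))
    (hmod : ∀ a ∈ A, QuotientGroup.mk' K (n⁻¹ * a * n) = QuotientGroup.mk' K (g⁻¹ * a * g)) :
    FusedBy M A g := by
  let π := QuotientGroup.mk' K
  let U : Subgroup G := closure A
  have hUP : U ≤ (P : Subgroup G) := (closure_le _).mpr hA
  have hUp : IsPGroup p U := P.2.to_le hUP
  have hUK : U ⊓ K = ⊥ := CfsgLib.Base.inf_eq_bot_of_isPGroup_of_coprime hUp hK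
  let φ : G →* G := (MulAut.conj (g * n⁻¹)⁻¹).toMonoidHom
  have hφ : ∀ a, φ a = n * (g⁻¹ * a * g) * n⁻¹ := fun a => by
    simp [φ, MulAut.conj_apply, mul_assoc]
  have hU' : ∀ u ∈ U, φ u ∈ M ∧ u⁻¹ * φ u ∈ K := by
    intro u hu
    refine ⟨?_, ?_⟩
    · have hle : U ≤ M.comap φ := (closure_le _).mpr fun a ha => by
        rw [SetLike.mem_coe, mem_comap, hφ]
        exact mul_mem (mul_mem hn (hPM (hg a ha))) (inv_mem hn)
      exact hle hu
    · have heq : (π.comp φ) u = π u := by
        refine MonoidHom.eqOn_closure (fun a ha => ?_) hu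
        rw [MonoidHom.comp_apply, hφ, map_mul, map_mul, ← hmod a ha, ← map_mul, ← map_mul]
        congr 1
        group
      refine (QuotientGroup.eq_one_iff _).mp ?_
      change π (u⁻¹ * φ u) = 1
      rw [map_mul, map_inv, ← MonoidHom.comp_apply, heq, inv_mul_cancel]
  let W : Subgroup G := U ⊔ (K ⊓ M)
  have hUN : U ≤ normalizer ((K ⊓ M : Subgroup G) : Set G) := fun u hu =>
    normalizer_inf_le _ _ ⟨(normalizer_eq_top_iff.mpr ‹K.Normal›) ▸ mem_top u,
      le_normalizer (hPM (hUP hu))⟩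
  have hφW : U.map φ ≤ W := by
    rintro _ ⟨u, hu, rfl⟩
    rw [← mul_inv_cancel_left u (φ u)]
    exact mul_mem (mem_sup_left hu) (mem_sup_right
      (mem_inf.mpr ⟨(hU' u hu).2, mul_mem (inv_mem (hPM (hUP hu))) (hU' u hu).1⟩))
  have hmax : ¬ p ∣ U.relIndex W := by
    have h1 := card_sup_mul_card_inf U (K ⊓ M) hUN
    have h2 : U ⊓ (K ⊓ M) = ⊥ := le_bot_iff.mp ((inf_le_inf_left U inf_le_left).trans hUK.le)
    rw [h2, card_bot, mul_one] at h1
    have h3 := (U.subgroupOf W).card_mul_index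
    rw [Nat.card_congr (subgroupOfEquivOfLe (le_sup_left : U ≤ W)).toEquiv, h1] at h3
    have h4 : U.relIndex W = Nat.card (K ⊓ M : Subgroup G) :=
      Nat.eq_of_mul_eq_mul_left Nat.card_pos h3
    rw [h4]
    intro hd
    exact (Fact.out : p.Prime).coprime_iff_not_dvd.mp hK.symm
      (hd.trans (card_dvd_of_le inf_le_left))
  obtain ⟨w, hw, hwU⟩ := exists_conj_le_of_isPGroup hUp le_sup_left hmax (hUp.map φ) hφW
  have hw' : w ∈ ((U ⊔ (K ⊓ M) : Subgroup G) : Set G) := hw
  rw [sup_comm, coe_mul_of_right_le_normalizer_left _ _ hUN] at hw'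
  obtain ⟨k, hk, u, hu, rfl⟩ := hw'
  refine ⟨k⁻¹ * n, mul_mem (inv_mem (mem_inf.mp hk).2) hn, fun a ha => ?_⟩
  have hau : a ∈ U := subset_closure ha
  have h1 : k⁻¹ * φ a * k ∈ U := by
    have h := mul_mem (mul_mem hu (hwU (φ a) (mem_map_of_mem φ hau))) (inv_mem hu)
    convert h using 1
    group
  have h2 : k⁻¹ * φ a * k = a := by
    suffices hK' : a⁻¹ * (k⁻¹ * φ a * k) ∈ K by
      have h := mem_inf.mpr ⟨mul_mem (inv_mem hau) h1, hK'⟩
      rw [hUK, mem_bot] at h
      exact (inv_mul_eq_one.mp h).symm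
    refine (QuotientGroup.eq_one_iff _).mp ?_
    change π (a⁻¹ * (k⁻¹ * φ a * k)) = 1
    have hk1 : π k = 1 := (QuotientGroup.eq_one_iff k).mpr hk.1
    have hae : π (a⁻¹ * φ a) = 1 := (QuotientGroup.eq_one_iff _).mpr (hU' a hau).2
    rw [map_mul, map_mul, map_mul, map_inv π k, hk1, inv_one, one_mul, mul_one, ← map_mul, hae]
  have h3 : k * a * k⁻¹ = φ a := by
    conv_lhs => rw [← h2]
    group
  calc (k⁻¹ * n)⁻¹ * a * (k⁻¹ * n) = n⁻¹ * (k * a * k⁻¹) * n := by group
    _ = n⁻¹ * φ a * n := by rw [h3]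
    _ = _ := by rw [hφ]; group

variable {Φ : ∀ (G : Type u) [Group G], Prop}
  {K : ∀ (G : Type u) [Group G], Subgroup G → Subgroup G}

/-- The control statement for all groups of order less than `n`. -/
def ControlBelow (p : ℕ) (Φ : ∀ (G : Type u) [Group G], Prop)
    (K : ∀ (G : Type u) [Group G], Subgroup G → Subgroup G) (n : ℕ) : Prop :=
  ∀ (X : Type u) [Group X] [Finite X], Nat.card X < n → Φ X → ∀ (P : Sylow p X) (D₀ : Subgroup X),
    IsStronglyClosed D₀ (P : Subgroup X) →
    ControlsFusion (P : Subgroup X) (normalizer (K X D₀ : Set X))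

variable [Finite G] [hp : Fact p.Prime]

/-- The induction hypothesis applied to a proper subgroup. -/
theorem fusedBy_of_subgroup (hK : SubgroupFunctor p K)
    (hsub : ∀ (X : Type u) [Group X] [Finite X] (U : Subgroup X), Φ X → Φ U)
    (ih : ControlBelow p Φ K (Nat.card G)) (hΦ : Φ G) {P₀ D₀ : Subgroup G}
    (hD₀ : IsStronglyClosed D₀ P₀) {U S : Subgroup G} (hU : U ≠ ⊤) (hSP : S ≤ P₀)
    (hS : IsPGroup p S) (hSU : S ≤ U) (hmax : ¬ p ∣ S.relIndex U) {A : Set G} (hA : A ⊆ S) {g : G}
    (hg : g ∈ U) (hgA : ∀ a ∈ A, g⁻¹ * a * g ∈ S) :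
    FusedBy (U ⊓ normalizer (K G (D₀ ⊓ S) : Set G)) A g := by
  let T : Sylow p U := (hS.comap_subtype (K := U)).toSylow hmax
  obtain ⟨n, hn, hn'⟩ := ih U ((by simpa using card_lt_card_of_lt (lt_top_iff_ne_top.mpr hU) : Nat.card U < Nat.card G)) (hsub G U hΦ) T ((D₀ ⊓ S).subgroupOf U)
    (stronglyClosed_subgroupOf hD₀ hSP) (Subtype.val ⁻¹' A)
    (fun a ha => mem_subgroupOf.mpr (hA ha)) ⟨g, hg⟩ (fun a ha => mem_subgroupOf.mpr (hgA _ ha))
  have hle : D₀ ⊓ S ≤ U := inf_le_right.trans hSU
  have e : K U ((D₀ ⊓ S).subgroupOf U) = (K G (D₀ ⊓ S)).subgroupOf U := by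
    apply map_injective U.subtype_injective
    rw [hK.map U G U.subtype _ (U.subtype_injective.comp (subtype_injective _)),
      map_subgroupOf_eq_of_le hle, map_subgroupOf_eq_of_le ((hK.le G _).trans hle)]
  rw [e, ← subgroupOf_normalizer_eq ((hK.le G _).trans hle), mem_subgroupOf] at hn
  exact ⟨n, ⟨n.2, hn⟩, fun a ha => congrArg Subtype.val (hn' ⟨a, hSU (hA ha)⟩ ha)⟩

/-- Fusion of sets of more than `k` elements, given control in tame intersections that large. -/
theorem fusedBy_of_chain (P : Sylow p G) {M : Subgroup G} {k : ℕ}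
    (hstep : ∀ D : Subgroup G, D ≤ (P : Subgroup G) → k < Nat.card D →
      ¬ p ∣ ((P : Subgroup G) ⊓ normalizer (D : Set G)).relIndex (normalizer (D : Set G)) →
      (∃ Q : Sylow p G, D = (P : Subgroup G) ⊓ (Q : Subgroup G)) →
      ∀ x ∈ normalizer (D : Set G), FusedBy M (D : Set G) x)
    {A : Set G} (hA : A ⊆ (P : Subgroup G)) (hk : k < Nat.card A) {g : G}
    (hg : ∀ a ∈ A, g⁻¹ * a * g ∈ (P : Subgroup G)) : FusedBy M A g := by
  have h := fusionChain P hA hg
  clear hA hg
  induction h with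
  | nil A => exact ⟨1, one_mem M, fun a _ => rfl⟩
  | @cons A g Q x hxN hP _ hA _ ih =>
    refine ((hstep _ inf_le_left ?_ hP ⟨Q, rfl⟩ x hxN).mono hA).trans (ih ?_)
    · exact lt_of_lt_of_le hk (Nat.card_mono (Set.toFinite _) hA)
    · rwa [Nat.card_image_of_injective]
      intro a b hab
      simpa using hab

/-- Fusion inside the local subgroups is controlled by the normalizers of the functor. -/
def LocallyControlled (K : ∀ (G : Type u) [Group G], Subgroup G → Subgroup G) (P : Sylow p G)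
    (D₀ : Subgroup G) : Prop :=
  ∀ T : Subgroup G, T ≤ (P : Subgroup G) → T ≠ ⊥ →
    ¬ p ∣ ((P : Subgroup G) ⊓ normalizer (T : Set G)).relIndex (normalizer (T : Set G)) →
    ∀ A : Set G, A ⊆ ((P : Subgroup G) ⊓ normalizer (T : Set G) : Subgroup G) →
    ∀ g ∈ normalizer (T : Set G),
      (∀ a ∈ A, g⁻¹ * a * g ∈ (P : Subgroup G) ⊓ normalizer (T : Set G)) →
      FusedBy (normalizer (T : Set G) ⊓
        normalizer (K G (D₀ ⊓ ((P : Subgroup G) ⊓ normalizer (T : Set G))) : Set G)) A g

/-- A nontrivial normal subgroup of a `p`-group meets the centre. -/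
theorem inf_centralizer_ne_bot_of_normal {P D : Subgroup G} (hP : IsPGroup p P) (hDP : D ≤ P)
    (hn : P ≤ normalizer (D : Set G)) (hD : D ≠ ⊥) :
    D ⊓ centralizer (P : Set G) ≠ ⊥ := by
  intro h
  have : (D.subgroupOf P).Normal := normal_subgroupOf_of_le_normalizer hn
  have hne : Nontrivial (D.subgroupOf P) := by
    rw [Subgroup.nontrivial_iff_ne_bot]
    intro h'
    exact hD (le_bot_iff.mp (((subgroupOf_eq_bot.mp h').le_bot).trans' (le_inf le_rfl hDP)))
  refine CfsgLib.PGroups.inf_center_ne_bot hP (N := D.subgroupOf P)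
    ((Subgroup.nontrivial_iff_ne_bot _).mp hne) (le_bot_iff.mp ?_)
  rintro z ⟨hzD, hzc⟩
  refine Subgroup.mem_bot.mpr (Subtype.ext (mem_bot.mp (h ▸ mem_inf.mpr
    ⟨mem_subgroupOf.mp hzD, ?_⟩)))
  exact mem_centralizer_iff.mpr fun y hy => congrArg Subtype.val (mem_center_iff.mp hzc ⟨y, hy⟩)

/-- Climbing: local control gives control in `P`. -/
theorem fusedBy_of_local (hK : SubgroupFunctor p K) (P : Sylow p G) {D₀ : Subgroup G}
    (hD₀ : IsStronglyClosed D₀ (P : Subgroup G)) (hD₀ne : D₀ ≠ ⊥)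
    (hloc : LocallyControlled K P D₀) :
    ∀ d : ℕ, ∀ T : Subgroup G, T ≤ (P : Subgroup G) → T ≠ ⊥ →
      ¬ p ∣ ((P : Subgroup G) ⊓ normalizer (T : Set G)).relIndex (normalizer (T : Set G)) →
      Nat.card (P : Subgroup G) - Nat.card ((P : Subgroup G) ⊓ normalizer (T : Set G) :
        Subgroup G) < d →
      ∀ A : Set G, A ⊆ ((P : Subgroup G) ⊓ normalizer (T : Set G) : Subgroup G) →
      ∀ g ∈ normalizer (T : Set G), (∀ a ∈ A, g⁻¹ * a * g ∈ (P : Subgroup G)) →
      FusedBy (normalizer (K G D₀ : Set G)) A g := by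
  intro d
  induction d with
  | zero => intro T _ _ _ h; omega
  | succ d ihd =>
    intro T hTP hTne hmax hd A hA g hg hgA
    set M := normalizer (K G D₀ : Set G)
    let L : Subgroup G := normalizer (T : Set G)
    let S : Subgroup G := (P : Subgroup G) ⊓ L
    have hSp : IsPGroup p S := P.2.to_le inf_le_left
    have hgS : ∀ a ∈ A, g⁻¹ * a * g ∈ S := fun a ha =>
      mem_inf.mpr ⟨hgA a ha, mul_mem (mul_mem (inv_mem hg) (mem_inf.mp (hA ha)).2) hg⟩
    obtain ⟨n, hn, hn'⟩ := hloc T hTP hTne hmax A hA g hg hgS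
    suffices hfn : FusedBy M A n by
      obtain ⟨m, hm, hm'⟩ := hfn
      exact ⟨m, hm, fun a ha => (hm' a ha).trans (hn' a ha)⟩
    by_cases hSP : S = (P : Subgroup G)
    · have h2 := hn.2
      change n ∈ normalizer (K G (D₀ ⊓ S) : Set G) at h2
      rw [hSP, inf_eq_left.mpr hD₀.1] at h2
      exact ⟨n, h2, fun a _ => rfl⟩
    have hlt : S < (P : Subgroup G) := lt_of_le_of_ne inf_le_left hSP
    let T₂ : Subgroup G := K G (D₀ ⊓ S)
    let L₂ : Subgroup G := normalizer (T₂ : Set G)
    let E : Subgroup G := (P : Subgroup G) ⊓ L₂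
    have hSE : S < E := lt_of_lt_of_le (lt_inf_normalizer P.2 hlt)
      (inf_le_inf_left _ ((stronglyClosed_normalizer_inf hD₀ inf_le_left).trans
        (hK.normalizer_le (D₀ ⊓ S))))
    obtain ⟨R, hR⟩ := ((P.2.to_le (inf_le_left : E ≤ _)).comap_subtype (K := L₂)).exists_le_sylow
    obtain ⟨Q, hQ⟩ := (R.2.map L₂.subtype).exists_le_sylow
    obtain ⟨z, hz⟩ := MulAction.exists_smul_eq G P Q
    rw [← hz] at hQ
    have hzR : ∀ r ∈ (R : Subgroup L₂).map L₂.subtype, z⁻¹ * r * z ∈ (P : Subgroup G) :=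
      fun r hr => mem_coe_smul_sylow_iff.mp (hQ hr)
    have hzE : ∀ e ∈ E, z⁻¹ * e * z ∈ (P : Subgroup G) :=
      fun e he => hzR e ⟨⟨e, he.2⟩, hR (mem_subgroupOf.mpr he), rfl⟩
    have hcardSE := card_lt_card_of_lt hSE
    -- fusion by `z`
    have hEz : FusedBy M (E : Set G) z := by
      refine fusedBy_of_chain P (k := Nat.card S) (fun D hDP hkD hDmax _ x hx => ?_)
        (fun e he => he.1) (by simpa using hcardSE) hzE
      have hDne : D ≠ ⊥ := by
        intro h
        rw [h, card_bot] at hkD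
        have := Nat.card_pos (α := S)
        omega
      refine ihd D hDP hDne hDmax ?_ (D : Set G) (fun a ha => ⟨hDP ha, le_normalizer ha⟩) x hx
        (fun a ha => hDP ((mem_set_normalizer_iff''.mp hx a).mp ha))
      have h1 : Nat.card D ≤ Nat.card ((P : Subgroup G) ⊓ normalizer (D : Set G) : Subgroup G) :=
        card_le_of_le (le_inf hDP le_normalizer)
      have h2 : Nat.card ((P : Subgroup G) ⊓ normalizer (D : Set G) : Subgroup G) ≤
          Nat.card (P : Subgroup G) := card_le_of_le inf_le_left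
      change Nat.card (P : Subgroup G) - Nat.card S < d + 1 at hd
      omega
    -- the conjugated local subgroup
    let c := (MulAut.conj z⁻¹).toMonoidHom
    have hc : ∀ x, c x = z⁻¹ * x * z := fun x => by simp [c, MulAut.conj_apply]
    have hcinj : Function.Injective c := (MulAut.conj z⁻¹).injective
    let T₃ : Subgroup G := T₂.map c
    have hN₃ : normalizer (T₃ : Set G) = L₂.map c :=
      (map_equiv_normalizer_eq T₂ (MulAut.conj z⁻¹)).symm
    have hT₃P : T₃ ≤ (P : Subgroup G) := by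
      rintro _ ⟨t, ht, rfl⟩
      rw [hc]
      exact hzE t (hSE.le (inf_le_right (a := D₀) (hK.le G _ ht)))
    have hT₃ne : T₃ ≠ ⊥ := by
      rw [Ne, map_eq_bot_iff_of_injective _ hcinj]
      refine hK.ne_bot G _ (hSp.to_le inf_le_right) fun h => ?_
      refine inf_centralizer_ne_bot_of_normal P.2 hD₀.1 (stronglyClosed_le_normalizer hD₀) hD₀ne
        (le_bot_iff.mp (h ▸ le_inf inf_le_left (le_inf (inf_le_left.trans hD₀.1) ?_)))
      exact inf_le_right.trans ((Subgroup.centralizer_le hTP).trans (centralizer_le_normalizer _))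
    have hle : ((R : Subgroup L₂).map L₂.subtype).map c ≤
        (P : Subgroup G) ⊓ normalizer (T₃ : Set G) := by
      refine le_inf ?_ (hN₃ ▸ map_mono (map_subtype_le _))
      rintro _ ⟨r, hr, rfl⟩
      rw [hc]
      exact hzR r hr
    have hmax₃ : ¬ p ∣ ((P : Subgroup G) ⊓ normalizer (T₃ : Set G)).relIndex
        (normalizer (T₃ : Set G)) := by
      intro hdvd
      refine R.not_dvd_index ?_
      have h1 := hdvd.trans (relIndex_dvd_of_le_left _ hle)
      rwa [hN₃, relIndex_map_map_of_injective _ _ hcinj, relIndex, subgroupOf,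
        comap_map_eq_self_of_injective L₂.subtype_injective] at h1
    have hd₃ : Nat.card (P : Subgroup G) -
        Nat.card ((P : Subgroup G) ⊓ normalizer (T₃ : Set G) : Subgroup G) < d := by
      have h0 : Nat.card E ≤ Nat.card ((R : Subgroup L₂).map L₂.subtype) :=
        card_le_of_le fun e he => ⟨⟨e, he.2⟩, hR (mem_subgroupOf.mpr he), rfl⟩
      have h1 := card_le_of_le hle
      rw [card_map_of_injective hcinj] at h1
      have h2 : Nat.card ((P : Subgroup G) ⊓ normalizer (T₃ : Set G) : Subgroup G) ≤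
          Nat.card (P : Subgroup G) := card_le_of_le inf_le_left
      change Nat.card (P : Subgroup G) - Nat.card S < d + 1 at hd
      omega
    have hnS : ∀ a ∈ A, n⁻¹ * a * n ∈ S := fun a ha => hn' a ha ▸ hgS a ha
    have hsecond : FusedBy M ((fun a => z⁻¹ * a * z) '' A) (z⁻¹ * n * z) := by
      refine ihd T₃ hT₃P hT₃ne hmax₃ hd₃ _ ?_ _ ?_ ?_
      · rintro _ ⟨a, ha, rfl⟩
        refine ⟨hzE a (hSE.le (hA ha)), ?_⟩
        rw [SetLike.mem_coe, hN₃]
        exact ⟨a, (hSE.le (hA ha)).2, hc a⟩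
      · rw [hN₃]
        exact ⟨n, hn.2, hc n⟩
      · rintro _ ⟨a, ha, rfl⟩
        convert hzE _ (hSE.le (hnS a ha)) using 1
        group
    have hback : FusedBy M ((fun a => (z * (z⁻¹ * n * z))⁻¹ * a * (z * (z⁻¹ * n * z))) '' A) z⁻¹ := by
      refine (hEz.symm).mono ?_
      rintro _ ⟨a, ha, rfl⟩
      exact ⟨n⁻¹ * a * n, hSE.le (hnS a ha), by group⟩
    have h := ((hEz.mono fun a ha => hSE.le (hA ha)).trans hsecond).trans hback
    rwa [show z * (z⁻¹ * n * z) * z⁻¹ = n by group] at h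

/-- Local control gives control of fusion. -/
theorem controlsFusion_of_locals (hK : SubgroupFunctor p K) (P : Sylow p G) {D₀ : Subgroup G}
    (hD₀ : IsStronglyClosed D₀ (P : Subgroup G)) (hloc : LocallyControlled K P D₀) :
    ControlsFusion (P : Subgroup G) (normalizer (K G D₀ : Set G)) := by
  rcases eq_or_ne D₀ ⊥ with rfl | hD₀ne
  · intro A _ g _
    refine ⟨g, ?_, fun a _ => rfl⟩
    rw [le_bot_iff.mp (hK.le G (⊥ : Subgroup G)), normalizer_eq_top]
    exact mem_top g
  intro A hA g hg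
  rcases le_or_gt (Nat.card A) 1 with h1 | h1
  · rcases Set.eq_empty_or_nonempty A with rfl | ⟨a, ha⟩
    · exact ⟨1, one_mem _, by simp⟩
    by_cases ha1 : a = 1
    · subst ha1
      refine ⟨1, one_mem _, fun b hb => ?_⟩
      have : Subsingleton A := (Finite.card_le_one_iff_subsingleton).mp h1
      rw [show b = 1 from congrArg Subtype.val (Subsingleton.elim (⟨b, hb⟩ : A) ⟨1, ha⟩)]
      simp
    -- enlarge the set by `1`
    refine FusedBy.mono (fusedBy_of_chain P (k := 1) ?_ (A := insert 1 A) ?_ ?_ ?_)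
      (Set.subset_insert _ _)
    · exact fun D hDP hD hDmax _ x hx =>
        fusedBy_of_local hK P hD₀ hD₀ne hloc _ D hDP (fun h => by rw [h, card_bot] at hD; omega)
          hDmax (Nat.lt_succ_self _) _ (fun a ha => ⟨hDP ha, le_normalizer ha⟩) x hx
          fun a ha => hDP ((mem_set_normalizer_iff''.mp hx a).mp ha)
    · exact Set.insert_subset (one_mem _) hA
    · have : Nontrivial (insert (1 : G) A : Set G) :=
        ⟨⟨1, Set.mem_insert _ _⟩, ⟨a, Set.mem_insert_of_mem _ ha⟩,
          fun h => ha1 (congrArg Subtype.val h).symm⟩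
      exact Finite.one_lt_card
    · rintro b (rfl | hb)
      · simp
      · exact hg b hb
  exact fusedBy_of_chain P (k := 1) (fun D hDP hD hDmax _ x hx =>
        fusedBy_of_local hK P hD₀ hD₀ne hloc _ D hDP (fun h => by rw [h, card_bot] at hD; omega)
          hDmax (Nat.lt_succ_self _) _ (fun a ha => ⟨hDP ha, le_normalizer ha⟩) x hx
          fun a ha => hDP ((mem_set_normalizer_iff''.mp hx a).mp ha)) hA h1 hg

/-- Fusion is controlled by `M` if it is in `C P` and in `N(P ⊓ C)`, `C` normal. -/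
theorem controlsFusion_of_normal (P : Sylow p G) (C : Subgroup G) [C.Normal] {M : Subgroup G}
    (h₁ : ∀ A : Set G, A ⊆ (P : Subgroup G) → ∀ g ∈ C ⊔ (P : Subgroup G),
      (∀ a ∈ A, g⁻¹ * a * g ∈ (P : Subgroup G)) → FusedBy M A g)
    (h₂ : ∀ A : Set G, A ⊆ (P : Subgroup G) →
      ∀ g ∈ normalizer (((P : Subgroup G) ⊓ C : Subgroup G) : Set G),
      (∀ a ∈ A, g⁻¹ * a * g ∈ (P : Subgroup G)) → FusedBy M A g) :
    ControlsFusion (P : Subgroup G) M := by
  have key : ∀ d : ℕ, ∀ D : Subgroup G, D ≤ (P : Subgroup G) →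
      ¬ p ∣ ((P : Subgroup G) ⊓ normalizer (D : Set G)).relIndex (normalizer (D : Set G)) →
      Nat.card (P : Subgroup G) - Nat.card D < d →
      ∀ x ∈ normalizer (D : Set G), FusedBy M (D : Set G) x := by
    intro d
    induction d with
    | zero => intro D _ _ h; omega
    | succ d ihd =>
      intro D hDP hmax hd x hx
      let N : Subgroup G := normalizer (D : Set G)
      let S : Subgroup G := (P : Subgroup G) ⊓ N
      have hCn : C.Normal := inferInstance
      obtain ⟨c, hc, m, hm, hxcm⟩ :=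
        exists_mul_normalizer_inf (P.2.to_le inf_le_left : IsPGroup p S) inf_le_right hmax C hx
      have hcD : ∀ a ∈ (D : Set G), c⁻¹ * a * c ∈ D := fun a ha =>
        (mem_set_normalizer_iff''.mp hc.2 a).mp ha
      have h1 : FusedBy M (D : Set G) c :=
        h₁ _ hDP c (mem_sup_left hc.1) fun a ha => hDP (hcD a ha)
      suffices h2 : FusedBy M (D : Set G) m by
        rw [hxcm]
        exact h1.trans (h2.mono (by rintro _ ⟨a, ha, rfl⟩; exact hcD a ha))
      let E : Subgroup G := D ⊔ (S ⊓ C)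
      have hmE : ∀ e ∈ E, m⁻¹ * e * m ∈ E := by
        intro e he
        have hle : E ≤ E.comap (MulAut.conj m⁻¹).toMonoidHom := by
          refine sup_le (fun a ha => ?_) (fun a ha => ?_)
          · rw [mem_comap]
            refine mem_sup_left ?_
            simpa [MulAut.conj_apply] using (mem_set_normalizer_iff''.mp hm.1 a).mp ha
          · rw [mem_comap]
            refine mem_sup_right ?_
            simpa [MulAut.conj_apply] using (mem_set_normalizer_iff''.mp hm.2 a).mp ha
        simpa [MulAut.conj_apply] using hle he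
      have hEP : E ≤ (P : Subgroup G) := sup_le hDP (inf_le_left.trans inf_le_left)
      by_cases hDE : D = E
      · -- `m` normalizes `P ⊓ C`
        have hPC : (P : Subgroup G) ⊓ C ≤ D := by
          by_contra hnot
          let E₂ : Subgroup G := D ⊔ ((P : Subgroup G) ⊓ C)
          have hE₂ : D < E₂ := lt_of_le_of_ne le_sup_left fun he =>
            hnot (le_sup_right.trans he.ge)
          have hE₂p : IsPGroup p E₂ := P.2.to_le (sup_le hDP inf_le_left)
          obtain ⟨e, he, heD⟩ := SetLike.exists_of_lt (lt_inf_normalizer hE₂p hE₂)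
          have hDn : D ≤ normalizer (((P : Subgroup G) ⊓ C : Subgroup G) : Set G) := fun a ha =>
            normalizer_inf_le _ _ ⟨le_normalizer (hDP ha),
              (normalizer_eq_top_iff.mpr hCn) ▸ mem_top a⟩
          have he' : e ∈ ((D ⊔ ((P : Subgroup G) ⊓ C) : Subgroup G) : Set G) := he.1
          rw [coe_mul_of_left_le_normalizer_right _ _ hDn] at he'
          obtain ⟨a, ha, b, hb, rfl⟩ := he'
          have hbN : b ∈ N := by
            have := mul_mem (inv_mem (le_normalizer ha : a ∈ N)) he.2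
            simpa using this
          have hbD : b ∈ D := hDE.ge (mem_sup_right ⟨⟨hb.1, hbN⟩, hb.2⟩)
          exact heD (mul_mem ha hbD)
        have heq : (P : Subgroup G) ⊓ C = S ⊓ C :=
          le_antisymm (le_inf (le_inf inf_le_left (hPC.trans le_normalizer)) inf_le_right)
            (inf_le_inf_right _ inf_le_left)
        refine h₂ _ hDP m ?_ fun a ha =>
          hDP ((mem_set_normalizer_iff''.mp hm.1 a).mp ha)
        rw [heq]
        exact hm.2
      · have hlt : D < E := lt_of_le_of_ne le_sup_left hDE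
        refine (fusedBy_of_chain P (k := Nat.card D) (fun D' hD'P hk hD'max _ y hy => ?_)
          hEP (by simpa using card_lt_card_of_lt hlt) fun e he => hEP (hmE e he)).mono hlt.le
        refine ihd D' hD'P hD'max ?_ y hy
        have h2 := card_le_of_le hD'P
        omega
  intro A hA g hg
  rcases Set.eq_empty_or_nonempty A with rfl | ⟨a, ha⟩
  · exact ⟨1, one_mem _, by simp⟩
  have : Nonempty A := ⟨⟨a, ha⟩⟩
  exact fusedBy_of_chain P (k := 0) (fun D hDP _ hDmax _ x hx =>
    key _ D hDP hDmax (Nat.lt_succ_self _) x hx) hA Nat.card_pos hg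

/-- The case in which a proper subgroup contains `C(O_p) P`. -/
theorem controlsFusion_of_centralizer_proper (hK : SubgroupFunctor p K)
    (hsub : ∀ (X : Type u) [Group X] [Finite X] (U : Subgroup X), Φ X → Φ U)
    (ih : ControlBelow p Φ K (Nat.card G)) (hΦ : Φ G) (P : Sylow p G) {D₀ : Subgroup G}
    (hD₀ : IsStronglyClosed D₀ (P : Subgroup G))
    (hU₁ : centralizer (pCore p G : Set G) ⊔ (P : Subgroup G) ≠ ⊤)
    (hU₂ : normalizer (((P : Subgroup G) ⊓ centralizer (pCore p G : Set G) : Subgroup G) : Set G) ≠ ⊤) :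
    ControlsFusion (P : Subgroup G) (normalizer (K G D₀ : Set G)) := by
  set M := normalizer (K G D₀ : Set G)
  have hproper : ∀ U : Subgroup G, U ≠ ⊤ → (P : Subgroup G) ≤ U → ∀ A : Set G,
      A ⊆ (P : Subgroup G) → ∀ g ∈ U, (∀ a ∈ A, g⁻¹ * a * g ∈ (P : Subgroup G)) →
      FusedBy M A g := by
    intro U hU hPU A hA g hg hgA
    obtain ⟨n, hn, hn'⟩ := fusedBy_of_subgroup hK hsub ih hΦ hD₀ hU le_rfl P.2 hPU
      (fun hd => P.not_dvd_index (hd.trans (relIndex_dvd_index_of_le hPU))) hA hg hgA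
    rw [inf_eq_left.mpr hD₀.1] at hn
    exact ⟨n, hn.2, hn'⟩
  exact controlsFusion_of_normal P _ (hproper _ hU₁ le_sup_right)
    (hproper _ hU₂ fun a ha => normalizer_inf_le _ _
      ⟨le_normalizer ha,
        (normalizer_eq_top_iff.mpr (inferInstance : (centralizer (pCore p G : Set G)).Normal)) ▸ mem_top a⟩)

/-- Control of fusion in `G / H` lifts to `G` when all `p'`-elements centralise the normal
`p`-subgroup `H`. -/
theorem controlsFusion_comap_of_central (P : Sylow p G) (H : Subgroup G) [H.Normal]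
    (hHp : IsPGroup p H) (hHP : H ≤ (P : Subgroup G))
    (hcen : ∀ d : G, Nat.Coprime (orderOf d) p → d ∈ centralizer (H : Set G))
    {M' : Subgroup (G ⧸ H)}
    (hctrl : ControlsFusion
      ((P.mapSurjective (QuotientGroup.mk'_surjective H) : Sylow p (G ⧸ H)) : Subgroup (G ⧸ H)) M')
    (hPM₂ : (P : Subgroup G) ≤ M'.comap (QuotientGroup.mk' H)) :
    ControlsFusion (P : Subgroup G) (M'.comap (QuotientGroup.mk' H)) := by
  let π := QuotientGroup.mk' H
  let M₂ : Subgroup G := M'.comap π
  have hπ : Function.Surjective π := QuotientGroup.mk'_surjective H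
  -- exact fusion from well placed sets
  let C₂ : Set G → Subgroup G := fun B => (centralizer (π '' B)).comap π
  have hclaim : ∀ B : Set G, B ⊆ (P : Subgroup G) →
      (∃ V : Subgroup G, V ≤ (P : Subgroup G) ∧ V ≤ C₂ B ∧ ¬ p ∣ V.relIndex (C₂ B)) →
      ∀ g : G, (∀ b ∈ B, g⁻¹ * b * g ∈ (P : Subgroup G)) → FusedBy M₂ B g := by
    rintro B hB ⟨V, hVP, hVC, hVmax⟩ g hg
    obtain ⟨nb, hnb, hnb'⟩ := hctrl (π '' B) (by
      rintro _ ⟨b, hb, rfl⟩
      exact mem_map_of_mem π (hB hb)) (π g) (by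
      rintro _ ⟨b, hb, rfl⟩
      rw [← map_inv, ← map_mul, ← map_mul]
      exact mem_map_of_mem π (hg b hb))
    obtain ⟨n, rfl⟩ := hπ nb
    have hgn : g * n⁻¹ ∈ C₂ B := by
      rw [mem_comap, mem_centralizer_iff]
      rintro _ ⟨b, hb, rfl⟩
      have h := hnb' _ ⟨b, hb, rfl⟩
      rw [map_mul, map_inv]
      calc π b * (π g * (π n)⁻¹) = π g * ((π g)⁻¹ * π b * π g) * (π n)⁻¹ := by group
        _ = π g * ((π n)⁻¹ * π b * π n) * (π n)⁻¹ := by rw [h]
        _ = _ := by group
    let T : Sylow p (C₂ B) := ((P.2.to_le hVP).comap_subtype (K := C₂ B)).toSylow hVmax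
    have hres := pResidual_normal (G := C₂ B) (p := p)
    have hmem : (⟨_, hgn⟩ : C₂ B) ∈ pResidual p (C₂ B) ⊔ (T : Subgroup (C₂ B)) := by
      rw [sup_comm, sup_pResidual_eq_top]
      exact mem_top _
    obtain ⟨r, hr, u, hu, hru⟩ := mem_sup_of_normal_left.mp hmem
    have hrc : (r : G) ∈ centralizer B := by
      have hle : pResidual p (C₂ B) ≤ (centralizer B).subgroupOf (C₂ B) := by
        refine (closure_le _).mpr fun x hx => ?_
        have hx' : Nat.Coprime (orderOf (x : G)) p := by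
          rwa [← Subgroup.coe_subtype, orderOf_injective (C₂ B).subtype (C₂ B).subtype_injective]
        rw [SetLike.mem_coe, mem_subgroupOf, mem_centralizer_iff]
        intro b hb
        have hw : ⁅(x : G), b⁆ ∈ H := by
          refine (QuotientGroup.eq_one_iff _).mp ?_
          change π ⁅(x : G), b⁆ = 1
          rw [map_commutatorElement, commutatorElement_eq_one_iff_mul_comm]
          exact (mem_centralizer_iff.mp x.2 _ ⟨b, hb, rfl⟩).symm
        obtain ⟨k, hk⟩ := hHp ⟨_, hw⟩
        have h4 := eq_one_of_conj_eq_mul hx' ⟨k, congrArg Subtype.val hk⟩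
          (mul_inv_eq_iff_eq_mul.mpr (mem_centralizer_iff.mp (hcen _ hx') _ hw).symm)
          (show (x : G) * b * (x : G)⁻¹ = ⁅(x : G), b⁆ * b by rw [commutatorElement_def]; group)
        exact (commutatorElement_eq_one_iff_mul_comm.mp h4).symm
      exact mem_subgroupOf.mp (hle hr)
    refine ⟨(u : G) * n, mul_mem (hPM₂ (hVP (mem_subgroupOf.mp hu))) hnb, fun b hb => ?_⟩
    have hge : g = (r : G) * u * n := by
      have := congrArg Subtype.val hru
      simp only [Subgroup.coe_mul] at this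
      rw [this]; group
    have hrb : (r : G)⁻¹ * b * r = b := by
      rw [mul_assoc, mem_centralizer_iff.mp hrc b hb, inv_mul_cancel_left]
    rw [hge]
    calc ((u : G) * n)⁻¹ * b * ((u : G) * n) = ((u : G) * n)⁻¹ * ((r : G)⁻¹ * b * r) * (u * n) := by
          rw [hrb]
      _ = _ := by group
  intro A hA g hg
  -- a well placed conjugate of `A`
  let UA : Subgroup G := Subgroup.closure A ⊔ H
  have hUAp : IsPGroup p UA := P.2.to_le (sup_le ((closure_le _).mpr hA) hHP)
  obtain ⟨V⟩ : Nonempty (Sylow p (C₂ A)) := inferInstance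
  let V' : Subgroup G := (V : Subgroup (C₂ A)).map (C₂ A).subtype
  have hV'n : V' ≤ normalizer (UA : Set G) := by
    have hCn : ∀ c ∈ C₂ A, ∀ y ∈ UA, c * y * c⁻¹ ∈ UA := by
      intro c hc y hy
      have hle : UA ≤ UA.comap (MulAut.conj c).toMonoidHom := by
        refine sup_le ((closure_le _).mpr fun a ha => ?_) fun h hh => ?_
        · rw [SetLike.mem_coe, mem_comap]
          have h1 : ⁅c, a⁆ ∈ H := by
            refine (QuotientGroup.eq_one_iff _).mp ?_
            change π ⁅c, a⁆ = 1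
            rw [map_commutatorElement, commutatorElement_eq_one_iff_mul_comm]
            exact (mem_centralizer_iff.mp hc _ ⟨a, ha, rfl⟩).symm
          simp only [MulEquiv.coe_toMonoidHom, MulAut.conj_apply]
          rw [show c * a * c⁻¹ = ⁅c, a⁆ * a by rw [commutatorElement_def]; group]
          exact mul_mem (mem_sup_right h1) (mem_sup_left (subset_closure ha))
        · rw [mem_comap]
          exact mem_sup_right ((inferInstance : H.Normal).conj_mem h hh c)
      simpa [MulAut.conj_apply] using hle hy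
    intro c hc
    have hc' : c ∈ C₂ A := map_subtype_le _ hc
    refine mem_normalizer_iff.mpr fun y => ⟨hCn c hc' y, fun hy => ?_⟩
    simpa [mul_assoc] using hCn c⁻¹ (inv_mem hc') _ hy
  obtain ⟨Q, hQ⟩ := (IsPGroup.to_sup_of_normal_right' (V.2.map (C₂ A).subtype) hUAp hV'n).exists_le_sylow
  obtain ⟨y, hy⟩ := MulAction.exists_smul_eq G P Q
  rw [← hy] at hQ
  have hyA : ∀ a ∈ A, y⁻¹ * a * y ∈ (P : Subgroup G) := fun a ha =>
    mem_coe_smul_sylow_iff.mp (hQ (mem_sup_right (mem_sup_left (subset_closure ha))))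
  set B := (fun a => y⁻¹ * a * y) '' A with hBdef
  have hB : B ⊆ (P : Subgroup G) := by
    rintro _ ⟨a, ha, rfl⟩
    exact hyA a ha
  have hwell : ∃ V₀ : Subgroup G, V₀ ≤ (P : Subgroup G) ∧ V₀ ≤ C₂ B ∧ ¬ p ∣ V₀.relIndex (C₂ B) := by
    let c := (MulAut.conj y⁻¹).toMonoidHom
    have hc : ∀ x, c x = y⁻¹ * x * y := fun x => by simp [c, MulAut.conj_apply]
    have hC : C₂ B = (C₂ A).map c := by
      ext x
      rw [mem_map_equiv (f := MulAut.conj y⁻¹)]
      simp only [C₂, mem_comap, mem_centralizer_iff]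
      have e : π ((MulAut.conj y⁻¹).symm x) = π y * π x * (π y)⁻¹ := by
        simp [MulAut.conj_symm_apply]
      rw [e]
      constructor
      · rintro h _ ⟨a, ha, rfl⟩
        have h1 := h _ ⟨_, ⟨a, ha, rfl⟩, rfl⟩
        rw [map_mul, map_mul, map_inv] at h1
        calc π a * (π y * π x * (π y)⁻¹) = π y * ((π y)⁻¹ * π a * π y * π x) * (π y)⁻¹ := by group
          _ = π y * (π x * ((π y)⁻¹ * π a * π y)) * (π y)⁻¹ := by rw [h1]
          _ = _ := by group
      · rintro h _ ⟨_, ⟨a, ha, rfl⟩, rfl⟩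
        have h1 := h _ ⟨a, ha, rfl⟩
        rw [map_mul, map_mul, map_inv]
        calc (π y)⁻¹ * π a * π y * π x = (π y)⁻¹ * (π a * (π y * π x * (π y)⁻¹)) * π y := by group
          _ = (π y)⁻¹ * (π y * π x * (π y)⁻¹ * π a) * π y := by rw [h1]
          _ = _ := by group
    refine ⟨V'.map c, ?_, hC ▸ map_mono (map_subtype_le _), ?_⟩
    · rintro _ ⟨v, hv, rfl⟩
      rw [hc]
      exact mem_coe_smul_sylow_iff.mp (hQ (mem_sup_left hv))
    · rw [hC, relIndex_map_map_of_injective _ _ (MulAut.conj y⁻¹).injective, relIndex, subgroupOf,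
        comap_map_eq_self_of_injective (C₂ A).subtype_injective]
      exact V.not_dvd_index
  have hback : FusedBy M₂ B y⁻¹ := hclaim B hB hwell y⁻¹ (by
    rintro _ ⟨a, ha, rfl⟩
    rw [show y⁻¹⁻¹ * (y⁻¹ * a * y) * y⁻¹ = a by group]
    exact hA ha)
  have hforth : FusedBy M₂ A y := by
    have h := hback.symm
    rw [inv_inv] at h
    refine h.mono fun a ha => ⟨_, ⟨a, ha, rfl⟩, ?_⟩
    group
  have hrest : FusedBy M₂ B (y⁻¹ * g) := hclaim B hB hwell _ (by
    rintro _ ⟨a, ha, rfl⟩
    convert hg a ha using 1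
    group)
  have hfin := hforth.trans hrest
  rw [mul_inv_cancel_left] at hfin
  exact hfin

/-- The case in which all `p'`-elements centralise `O_p`. -/
theorem controlsFusion_of_central (hK : SubgroupFunctor p K)
    (hsub : ∀ (X : Type u) [Group X] [Finite X] (U : Subgroup X), Φ X → Φ U)
    (hΦq : Φ (G ⧸ pCore p G))
    (ih : ControlBelow p Φ K (Nat.card G)) (hΦ : Φ G) (P : Sylow p G)
    {D₀ : Subgroup G} (hD₀ : IsStronglyClosed D₀ (P : Subgroup G))
    (hH : pCore p G ≠ ⊥) (hDH : ¬ D₀ ≤ pCore p G)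
    (hcen : ∀ d : G, Nat.Coprime (orderOf d) p → d ∈ centralizer (pCore p G : Set G)) :
    ControlsFusion (P : Subgroup G) (normalizer (K G D₀ : Set G)) := by
  let H : Subgroup G := pCore p G
  let π := QuotientGroup.mk' H
  have hπ : Function.Surjective π := QuotientGroup.mk'_surjective H
  let Pb : Sylow p (G ⧸ H) := P.mapSurjective hπ
  have hcard : Nat.card (G ⧸ H) < Nat.card G := by
    have h1 := H.card_mul_index
    have h2 : 1 < Nat.card H := (one_lt_card_iff_ne_bot H).mpr hH
    have h3 : 0 < H.index := Nat.pos_of_ne_zero index_ne_zero_of_finite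
    rw [← index_eq_card]
    calc H.index < Nat.card H * H.index := lt_mul_left h3 h2
      _ = Nat.card G := h1
  let Db : Subgroup (G ⧸ H) := D₀.map π
  have hDb : IsStronglyClosed Db (Pb : Subgroup (G ⧸ H)) := stronglyClosed_map_mk P hD₀ H
  have hctrl := ih (G ⧸ H) hcard hΦq Pb Db hDb
  let M₂ : Subgroup G := (normalizer (K (G ⧸ H) Db : Set (G ⧸ H))).comap π
  have hPM₂ : (P : Subgroup G) ≤ M₂ := fun x hx =>
    hK.normalizer_le _ (stronglyClosed_le_normalizer hDb
      (mem_map_of_mem π hx : π x ∈ (Pb : Subgroup (G ⧸ H))))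
  have hM₂ : M₂ ≠ ⊤ := by
    intro he
    have hn : (K (G ⧸ H) Db).Normal := by
      refine normalizer_eq_top_iff.mp ?_
      rw [← map_comap_eq_self_of_surjective hπ (normalizer _)]
      change M₂.map π = ⊤
      rw [he, Subgroup.map_top_of_surjective π hπ]
    have hDbne : Db ≠ ⊥ := by
      rw [Ne, Subgroup.map_eq_bot_iff, QuotientGroup.ker_mk']
      exact hDH
    refine hK.ne_bot (G ⧸ H) Db (Pb.2.to_le hDb.1) hDbne (le_bot_iff.mp ?_)
    rw [← CfsgLib.Base.pCore_quotient_pCore p G]
    exact CfsgLib.Base.le_pCore ((Pb.2.to_le hDb.1).to_le (hK.le _ _))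
  intro A hA g hg
  obtain ⟨n, hn, hn'⟩ := controlsFusion_comap_of_central P H (CfsgLib.Base.isPGroup_pCore p G)
    (CfsgLib.Base.pCore_le_sylow P) hcen hctrl hPM₂ A hA g hg
  obtain ⟨m, hm, hm'⟩ := fusedBy_of_subgroup hK hsub ih hΦ hD₀ hM₂ le_rfl P.2 hPM₂
    (fun hd => P.not_dvd_index (hd.trans (relIndex_dvd_index_of_le hPM₂))) hA hn
    (fun a ha => hn' a ha ▸ hg a ha)
  rw [inf_eq_left.mpr hD₀.1] at hm
  exact ⟨m, hm.2, fun a ha => (hm' a ha).trans (hn' a ha)⟩

/-- A functor normal in constrained groups controls strong fusion; only quotients by `O_{p'}`,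
and by `O_p` when all `p'`-elements centralise it, are needed. -/
theorem controlsFusion_of_constrained_of_quotients (hK : SubgroupFunctor p K)
    (hsub : ∀ (X : Type u) [Group X] [Finite X] (U : Subgroup X), Φ X → Φ U)
    (hprime : ∀ (X : Type u) [Group X] [Finite X], Φ X → Φ (X ⧸ pPrimeCore p X))
    (hcentral : ∀ (X : Type u) [Group X] [Finite X], Φ X →
      (∀ d : X, Nat.Coprime (orderOf d) p → d ∈ centralizer (pCore p X : Set X)) →
      Φ (X ⧸ pCore p X))
    (hnormal : ∀ (X : Type u) [Group X] [Finite X], Φ X →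
      centralizer (pCore p X : Set X) ≤ pCore p X → ∀ (S : Sylow p X) (D₀ : Subgroup X),
        IsStronglyClosed D₀ (S : Subgroup X) → (K X D₀).Normal)
    (hΦ : Φ G) (P : Sylow p G) {D₀ : Subgroup G} (hD₀ : IsStronglyClosed D₀ (P : Subgroup G)) :
    ControlsFusion (P : Subgroup G) (normalizer (K G D₀ : Set G)) := by
  suffices h : ∀ n, ControlBelow p Φ K n from h _ G (Nat.lt_succ_self _) hΦ P D₀ hD₀
  intro n
  induction n with
  | zero => intro X _ _ h; omega
  | succ n ih =>
    intro X _ _ hn hX P D₀ hD₀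
    have ih' : ControlBelow p Φ K (Nat.card X) := fun Y _ _ hY => ih Y (by omega)
    by_cases hH : pCore p X = ⊥
    · refine controlsFusion_of_locals hK P hD₀ fun T hTP hT hmax A hA g hg hgA =>
        fusedBy_of_subgroup hK hsub ih' hX hD₀ (fun he => hT (le_bot_iff.mp ?_)) inf_le_left
          (P.2.to_le inf_le_left) inf_le_right hmax hA hg hgA
      have : T.Normal := normalizer_eq_top_iff.mp he
      exact hH ▸ CfsgLib.Base.le_pCore (P.2.to_le hTP)
    by_cases hDn : D₀.Normal
    · intro A hA g hg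
      refine ⟨g, ?_, fun a _ => rfl⟩
      exact hK.normalizer_le _ ((normalizer_eq_top_iff.mpr hDn) ▸ mem_top g)
    by_cases hN : pPrimeCore p X = ⊥
    swap
    · intro A hA g hg
      let π := QuotientGroup.mk' (pPrimeCore p X)
      have hπ : Function.Surjective π := QuotientGroup.mk'_surjective _
      have hcop := CfsgLib.Base.pPrimeCore_coprime p X
      have hcard : Nat.card (X ⧸ pPrimeCore p X) < n := by
        have h1 := (pPrimeCore p X).card_mul_index
        have h2 : 1 < Nat.card (pPrimeCore p X) := (one_lt_card_iff_ne_bot _).mpr hN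
        have h3 : 0 < (pPrimeCore p X).index := Nat.pos_of_ne_zero index_ne_zero_of_finite
        rw [← index_eq_card]
        have := lt_mul_left h3 h2
        rw [h1] at this
        omega
      obtain ⟨nb, hnb, hnb'⟩ := ih _ hcard (hprime X hX) (P.mapSurjective hπ)
        (D₀.map π) (stronglyClosed_map_mk P hD₀ _) (π '' A) (by
        rintro _ ⟨a, ha, rfl⟩
        exact mem_map_of_mem π (hA ha)) (π g) (by
        rintro _ ⟨a, ha, rfl⟩
        rw [← map_inv, ← map_mul, ← map_mul]
        exact mem_map_of_mem π (hg a ha))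
      rw [← hK.map X _ π _ (injective_mk'_comp_subtype _ hcop (P.2.to_le hD₀.1)),
        ← map_normalizer_mk' _ hcop ((P.2.to_le hD₀.1).to_le (hK.le X _))] at hnb
      obtain ⟨m, hm, rfl⟩ := hnb
      refine fusedBy_of_coprime P hcop
        ((stronglyClosed_le_normalizer hD₀).trans (hK.normalizer_le _)) hA hm hg
        fun a ha => ?_
      have := hnb' _ ⟨a, ha, rfl⟩
      change π (m⁻¹ * a * m) = π (g⁻¹ * a * g)
      rw [map_mul, map_mul, map_inv, map_mul, map_mul, map_inv]
      exact this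
    by_cases hcen : ∀ d : X, Nat.Coprime (orderOf d) p → d ∈ centralizer (pCore p X : Set X)
    · refine controlsFusion_of_central hK hsub (hcentral X hX hcen) ih' hX P hD₀ hH (fun hle => hDn ?_) hcen
      refine normalizer_eq_top_iff.mp (top_le_iff.mp ?_)
      rw [← sup_pResidual_eq_top P]
      refine sup_le (stronglyClosed_le_normalizer hD₀) ((closure_le _).mpr fun d hd => ?_)
      exact centralizer_le_normalizer _ (Subgroup.centralizer_le hle (hcen d hd))
    by_cases hcons : centralizer (pCore p X : Set X) ≤ pCore p X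
    · intro A _ g _
      refine ⟨g, ?_, fun a _ => rfl⟩
      rw [normalizer_eq_top_iff.mpr (hnormal X hX hcons P D₀ hD₀)]
      exact mem_top g
    refine controlsFusion_of_centralizer_proper hK hsub ih' hX P hD₀ ?_ ?_
    · intro he
      apply hcen
      intro d hd
      refine mem_of_coprime_orderOf_of_index ?_ hd
      obtain ⟨j, hj⟩ := IsPGroup.iff_card.mp P.2
      have e := CfsgLib.Base.card_sup_mul_card_inf (P : Subgroup X) (centralizer (pCore p X : Set X))
      rw [sup_comm, he, Subgroup.card_top,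
        ← (centralizer (pCore p X : Set X)).card_mul_index, mul_assoc,
        mul_comm (Nat.card (P : Subgroup X))] at e
      have h5 := Nat.eq_of_mul_eq_mul_left Nat.card_pos e
      have hdvd : (centralizer (pCore p X : Set X)).index ∣ p ^ j := by
        rw [← hj, ← h5]; exact dvd_mul_right _ _
      obtain ⟨i, -, hi⟩ := (Nat.dvd_prime_pow hp.out).mp hdvd
      exact ⟨i, hi⟩
    · -- otherwise `O_p` is self-centralizing
      intro he
      set C := centralizer (pCore p X : Set X)
      have hPC : (P : Subgroup X) ⊓ C ≤ pCore p X := by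
        have : ((P : Subgroup X) ⊓ C).Normal := normalizer_eq_top_iff.mp he
        exact CfsgLib.Base.le_pCore (P.2.to_le inf_le_left)
      let S : Sylow p C := (P.2.comap_subtype (K := C)).toSylow (not_dvd_index_subgroupOf_of_normal P C)
      have hcomp := hasNormalPComplement_of_normalizer_le_centralizer S (fun c _ => by
        rw [mem_centralizer_iff]
        intro s hs
        exact Subtype.ext (mem_centralizer_iff.mp c.2 _ (hPC ⟨mem_subgroupOf.mp hs, s.2⟩)))
      have hch := pResidual_characteristic (G := C) (p := p)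
      have hcopR : Nat.Coprime (Nat.card ((pResidual p C).map C.subtype)) p := by
        rw [card_map_of_injective C.subtype_injective, Nat.coprime_comm,
          hp.out.coprime_iff_not_dvd]
        exact hasNormalPComplement_iff_pResidual.mp hcomp
      have hbot : (pResidual p C).map C.subtype = ⊥ :=
        le_bot_iff.mp (hN ▸ le_sSup ⟨inferInstance, hcopR⟩)
      rw [map_eq_bot_iff_of_injective _ C.subtype_injective] at hbot
      obtain ⟨k, hk⟩ := exists_index_pResidual (G := C) (p := p)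
      rw [hbot, index_bot] at hk
      exact hcons (CfsgLib.Base.le_pCore (IsPGroup.of_card hk))

/-- **A functor normal in constrained groups controls strong fusion.** -/
theorem controlsFusion_of_constrained_of_stronglyClosed (hK : SubgroupFunctor p K)
    (hsub : ∀ (X : Type u) [Group X] [Finite X] (U : Subgroup X), Φ X → Φ U)
    (hquot : ∀ (X : Type u) [Group X] [Finite X] (N : Subgroup X) [N.Normal], Φ X → Φ (X ⧸ N))
    (hnormal : ∀ (X : Type u) [Group X] [Finite X], Φ X →
      centralizer (pCore p X : Set X) ≤ pCore p X → ∀ (S : Sylow p X) (D₀ : Subgroup X),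
        IsStronglyClosed D₀ (S : Subgroup X) → (K X D₀).Normal)
    (hΦ : Φ G) (P : Sylow p G) {D₀ : Subgroup G} (hD₀ : IsStronglyClosed D₀ (P : Subgroup G)) :
    ControlsFusion (P : Subgroup G) (normalizer (K G D₀ : Set G)) :=
  controlsFusion_of_constrained_of_quotients hK hsub (fun X _ _ h => hquot X _ h)
    (fun X _ _ h _ => hquot X _ h) hnormal hΦ P hD₀

/-- A functor normal in constrained groups controls strong fusion, in the case `D₀ = P`. -/
theorem controlsFusion_of_constrained (hK : SubgroupFunctor p K)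
    (hsub : ∀ (X : Type u) [Group X] [Finite X] (U : Subgroup X), Φ X → Φ U)
    (hquot : ∀ (X : Type u) [Group X] [Finite X] (N : Subgroup X) [N.Normal], Φ X → Φ (X ⧸ N))
    (hnormal : ∀ (X : Type u) [Group X] [Finite X], Φ X →
      centralizer (pCore p X : Set X) ≤ pCore p X → ∀ (S : Sylow p X) (D₀ : Subgroup X),
        IsStronglyClosed D₀ (S : Subgroup X) → (K X D₀).Normal)
    (hΦ : Φ G) (P : Sylow p G) :
    ControlsFusion (P : Subgroup G) (normalizer (K G (P : Subgroup G) : Set G)) :=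
  controlsFusion_of_constrained_of_stronglyClosed hK hsub hquot hnormal hΦ P
    (isStronglyClosed_self _)

/-- **Glauberman's ZJ-theorem**: in a group without section `SL(2,p)`, `N(Z(J(P)))` controls
strong fusion in `P`. -/
theorem controlsFusion_centerThompsonOf (hp2 : p ≠ 2)
    (hfree : ¬ CfsgLib.OddOrder.InvolvesSL2 p G) (P : Sylow p G) :
    ControlsFusion (P : Subgroup G)
      (normalizer (centerThompsonOf p (P : Subgroup G) : Set G)) :=
  controlsFusion_of_constrained (Φ := fun X _ => ¬ CfsgLib.OddOrder.InvolvesSL2 p X)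
    subgroupFunctor_centerThompsonOf (fun _ _ _ U h hU => h hU.of_subgroup)
    (fun _ _ _ N _ h hq => h (involvesSL2_of_surjective _ (QuotientGroup.mk'_surjective N) hq))
    (fun _ _ _ h hc S _ hD =>
      centerThompsonOf_normal_of_stronglyClosed hp2 hc (quadStable_of_not_involvesSL2 hp2 h) S hD)
    hfree P

end CfsgLib.Transfer
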