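import Cfsg.Agent.Lib.PLocal.ZJ
import Cfsg.Agent.Lib.Transfer.StronglyClosed

/-!
# The ZJ-theorem for strongly closed subgroups
-/

set_option autoImplicit false
set_option linter.style.haveILetI false

open Subgroup Cfsg CfsgLib.Base CfsgLib.PLocal
open scoped commutatorElement

universe u

namespace CfsgLib.Transfer

variable {G : Type u} [Group G]

/-- The core step: `Z ⊓ B` is normal for every normal `p`-subgroup `B`. -/
theorem maxCenter_inf_normal_of_stronglyClosed {e : ℕ} [Finite G] {p : ℕ} [Fact p.Prime] (hp : p ≠ 2) (he : Odd e ∨ e = 0)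
    (hst : QuadStable p G) (S : Sylow p G) {D₀ : Subgroup G}
    (hD₀ : IsStronglyClosed D₀ (S : Subgroup G)) :
    ∀ n : ℕ, ∀ (B : Subgroup G) [B.Normal], Nat.card B = n → IsPGroup p B →
      (maxCenter e D₀ ⊓ B).Normal := by
  intro n
  induction n using Nat.strong_induction_on with
  | _ n ih =>
  intro B _ hn hB
  set Z := maxCenter e D₀ with hZdef
  set T := Z ⊓ B with hTdef
  have hBS : B ≤ (S : Subgroup G) := hB.le_sylow_of_normal S
  have hSZ : (S : Subgroup G) ≤ normalizer (Z : Set G) :=
    (stronglyClosed_le_normalizer hD₀).trans (maxCenter_le_normalizer _)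
  by_cases hB0 : B = ⊥
  · rw [hTdef, hB0, inf_bot_eq]; infer_instance
  by_cases hcl : normalClosure (T : Set G) < B
  swap
  · have hcl' : normalClosure (T : Set G) = B :=
      eq_of_le_of_not_lt (normalClosure_le_normal inf_le_right) hcl
    -- the derived subgroup of `B` lies in `Z`
    have hlt : ⁅B, B⁆ < B := by
      haveI : Nontrivial B := (nontrivial_iff_ne_bot B).2 hB0
      haveI : Group.IsNilpotent B := hB.isNilpotent
      refine lt_of_le_of_ne (commutator_le_self B) fun hEq => ?_
      have h2 : ⁅(⊤ : Subgroup B), (⊤ : Subgroup B)⁆ = (⊤ : Subgroup B) := by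
        refine map_injective B.subtype_injective ?_
        rw [map_commutator, ← MonoidHom.range_eq_map, range_subtype, hEq]
      exact (Group.IsSolvable.commutator_lt_top_of_nontrivial (G := B)).ne h2
    have hW : (Z ⊓ ⁅B, B⁆).Normal :=
      ih _ (hn ▸ card_lt_of_lt hlt) _ rfl (hB.to_le (commutator_le_self B))
    have hB'Z : ⁅B, B⁆ ≤ Z := by
      set W := Z ⊓ ⁅B, B⁆
      haveI : W.Normal := hW
      have hK : T ≤ (centralizer ((B.map (QuotientGroup.mk' W) : Subgroup (G ⧸ W)) : Set (G ⧸ W))).comap
          (QuotientGroup.mk' W) := by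
        intro t ht
        refine mem_centralizer_iff.2 ?_
        rintro _ ⟨b, hb, rfl⟩
        rw [← commutatorElement_eq_one_iff_mul_comm, ← map_commutatorElement,
          QuotientGroup.mk'_apply, QuotientGroup.eq_one_iff]
        refine mem_inf.2 ⟨?_, commutator_mem_commutator hb (mem_inf.1 ht).2⟩
        have e1 : ⁅b, t⁆ = (b * t * b⁻¹) * t⁻¹ := by group
        rw [e1]
        exact mul_mem ((mem_normalizer_iff.1 (hSZ (hBS hb)) t).1 (mem_inf.1 ht).1)
          (inv_mem (mem_inf.1 ht).1)
      haveI : (B.map (QuotientGroup.mk' W)).Normal :=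
        Normal.map ‹B.Normal› _ (QuotientGroup.mk'_surjective _)
      have hK' := normalClosure_le_normal (N := (centralizer ((B.map (QuotientGroup.mk' W)
        : Subgroup (G ⧸ W)) : Set (G ⧸ W))).comap (QuotientGroup.mk' W)) hK
      rw [hcl'] at hK'
      refine le_trans (?_ : ⁅B, B⁆ ≤ W) inf_le_left
      rw [← map_mk'_eq_bot_iff, map_commutator, commutator_eq_bot_iff_le_centralizer]
      exact map_le_iff_le_comap.2 hK'
    have hTD : T ≤ D₀ := inf_le_left.trans (maxCenter_le e D₀)
    have hBD : B ≤ D₀ := by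
      have h1 : Group.conjugatesOfSet (T : Set G) ⊆ (D₀ : Set G) := by
        intro y hy
        obtain ⟨t, ht, hty⟩ := Group.mem_conjugatesOfSet_iff.mp hy
        obtain ⟨c, rfl⟩ := isConj_iff.mp hty
        exact hD₀.2 t (hTD ht) c (hBS ((‹B.Normal›).conj_mem t (mem_inf.1 ht).2 c))
      exact hcl' ▸ (closure_le D₀).mpr h1
    set N := normalizer (T : Set G) with hNdef
    set L := N.normalCore with hLdef
    haveI : L.Normal := normalCore_normal N
    have hSN : (S : Subgroup G) ≤ N := by
      refine le_trans ?_ (normalizer_inf_le _ _)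
      exact le_inf hSZ (by rw [normalizer_eq_top]; exact le_top)
    have hCL : centralizer (B : Set G) ≤ L := by
      refine normal_le_normalCore.2 fun c hc => mem_normalizer_iff.2 fun t => ?_
      constructor
      · intro ht
        rwa [← mem_centralizer_iff.1 hc t (mem_inf.1 ht).2, mul_inv_cancel_right]
      · intro ht
        have h1 := mem_centralizer_iff.1 hc _ (mem_inf.1 ht).2
        have h2 : c * t * c⁻¹ = t := by
          calc c * t * c⁻¹ = c⁻¹ * (c * (c * t * c⁻¹)) := by group
            _ = c⁻¹ * ((c * t * c⁻¹) * c) := by rw [← h1]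
            _ = _ := by group
        rwa [h2] at ht
    set SL := D₀ ⊓ L with hSL
    by_cases hall : ∀ A ∈ maxAbExp e D₀, A ≤ L
    · obtain ⟨A0, hA0⟩ := exists_mem_maxAbExp e D₀
      have hmem : maxAbExp e SL = maxAbExp e D₀ := by
        rw [maxAbExp_mono inf_le_left hA0 (le_inf hA0.1 (hall A0 hA0))]
        ext A
        exact ⟨fun h => h.1, fun h => ⟨h, le_inf h.1 (hall A h)⟩⟩
      have hZeq : Z = maxCenter e SL := by rw [hZdef, maxCenter, maxCenter, hmem]
      refine normalizer_eq_top_iff.1 (top_le_iff.1 fun g _ => ?_)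
      obtain ⟨l, hl, m, hm, rfl⟩ := exists_mul_normalizer S L g
      replace hm := stronglyClosed_normalizer_inf hD₀ inf_le_left hm
      rw [← inf_assoc, inf_eq_left.mpr hD₀.1] at hm
      refine mul_mem (N.normalCore_le hl) (normalizer_inf_le _ _ (mem_inf.2 ⟨?_, ?_⟩))
      · exact hZeq ▸ maxCenter_le_normalizer SL hm
      · rw [normalizer_eq_top]; exact mem_top m
    exfalso
    push Not at hall
    obtain ⟨U, hU, hUL⟩ := hall
    obtain ⟨A, ⟨hA, hAL⟩, hmax⟩ := Set.exists_max_image
      {A : Subgroup G | A ∈ maxAbExp e D₀ ∧ ¬ A ≤ L}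
      (fun A => Nat.card ↥(A ⊓ B)) (Set.toFinite _) ⟨U, hU, hUL⟩
    by_cases hBN : B ≤ normalizer (A : Set G)
    · -- quadratic action
      refine hAL ((quadratic_le hst hB (S.2.to_le (hA.1.trans hD₀.1)) hA.2.1.1 hBN).trans ?_)
      set C := centralizer (B : Set G) with hCdef
      haveI : C.Normal := inferInstance
      set D := (pCore p (G ⧸ C)).comap (QuotientGroup.mk' C) with hDdef
      haveI : D.Normal := (pCore_normal p (G ⧸ C)).comap _
      obtain ⟨k, hk⟩ := pCore_eq_pow_card p (G ⧸ C)
      have hDsup : C ⊔ ((S : Subgroup G) ⊓ D) = D := eq_sup_sylow_inf S (le_comap_mk' C _) (k := k)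
        (by rw [← card_map_mk'_eq_relIndex, CfsgLib.Base.map_mk'_comap, hk])
      refine normal_le_normalCore.2 ?_
      rw [← hDsup]
      exact sup_le (hCL.trans (normalCore_le N)) (inf_le_left.trans hSN)
    -- replacement inside `S`
    set AS := A.subgroupOf (S : Subgroup G) with hASdef
    set BS := B.subgroupOf (S : Subgroup G) with hBSdef
    have hAmap : AS.map (S : Subgroup G).subtype = A := map_subgroupOf_eq_of_le (hA.1.trans hD₀.1)
    have hBmap : BS.map (S : Subgroup G).subtype = B := map_subgroupOf_eq_of_le hBS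
    have hAS : AbExp e AS := (abExp_map_iff (S : Subgroup G).subtype_injective).1 (hAmap.symm ▸ hA.2.1)
    haveI : BS.Normal := inferInstance
    have hB'A : ⁅BS, BS⁆ ≤ AS := by
      rw [← map_le_map_iff_of_injective (f := (S : Subgroup G).subtype) (S : Subgroup G).subtype_injective,
        map_commutator, hBmap, hAmap]
      exact hB'Z.trans (maxCenter_le_of_mem hA)
    have hnot : ¬ BS ≤ normalizer (AS : Set (S : Subgroup G)) := by
      intro h
      refine hBN ?_
      rw [← hBmap, ← hAmap]
      exact (map_mono h).trans (le_normalizer_map _)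
    obtain ⟨b, hb, hbN, hbA⟩ := exists_mem_normalizer_normalizer S.2 BS AS hnot
    have F := replaceFacts S.2 (fun h => absurd h hp) hAS.1 hB'A hb hbN hbA
    set R := (replaced AS b).map (S : Subgroup G).subtype with hRdef
    have hR : R ∈ maxAbExp e D₀ := by
      have hDn : (D₀.subgroupOf (S : Subgroup G)).Normal :=
        normal_subgroupOf_of_le_normalizer (stronglyClosed_le_normalizer hD₀)
      have hRD := map_mono (f := (S : Subgroup G).subtype)
        (F.le_normal _ hDn (comap_mono hA.1))
      rw [map_subgroupOf_eq_of_le hD₀.1] at hRD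
      refine ⟨hRD, (abExp_map_iff (S : Subgroup G).subtype_injective).2
        ⟨F.comm, F.exponent e he hAS.2⟩, fun C hC hCe => ?_⟩
      rw [hRdef, card_map_subtype', F.card_eq, ← card_map_subtype', hAmap]
      exact hA.2.2 C hC hCe
    have hlt1 : A ⊓ B < R ⊓ B := by
      rw [← hBmap, ← hAmap, hRdef, ← map_inf _ _ _ (S : Subgroup G).subtype_injective,
        ← map_inf _ _ _ (S : Subgroup G).subtype_injective]
      exact (map_lt_map_iff_of_injective (S : Subgroup G).subtype_injective).2 F.inf_lt
    have hRL : R ≤ L := by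
      by_contra hRL
      exact absurd (hmax R ⟨hR, hRL⟩) (Nat.not_le.2 (card_lt_of_lt hlt1))
    have hX : maxCenter e D₀ ≤ maxCenter e SL := by
      refine sInf_le_sInf ?_
      rw [maxAbExp_mono inf_le_left hR (le_inf hR.1 hRL)]
      exact fun C hC => hC.1
    have hXR : maxCenter e SL ≤ R := maxCenter_le_of_mem (by
      rw [maxAbExp_mono inf_le_left hR (le_inf hR.1 hRL)]
      exact ⟨hR, le_inf hR.1 hRL⟩)
    have hT : T ≤ (maxCenter e SL).normalCore := by
      intro t ht g
      show g * t * g⁻¹ ∈ maxCenter e SL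
      obtain ⟨l, hl, m, hm, he'⟩ := exists_mul_normalizer S L g⁻¹
      replace hm := stronglyClosed_normalizer_inf hD₀ inf_le_left hm
      rw [← inf_assoc, inf_eq_left.mpr hD₀.1] at hm
      have e1 : g * t * g⁻¹ = m⁻¹ * (l⁻¹ * t * l) * m⁻¹⁻¹ := by
        rw [← inv_inv g, he']; group
      rw [e1]
      refine (mem_normalizer_iff.1 (maxCenter_le_normalizer SL (inv_mem hm)) _).1 (hX ?_)
      have h1 := (mem_normalizer_iff.1 (N.normalCore_le (inv_mem hl)) t).1 ht
      simpa using (mem_inf.1 h1).1
    have hBR : B ≤ R := by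
      calc B = normalClosure (T : Set G) := hcl'.symm
        _ ≤ (maxCenter e SL).normalCore := normalClosure_le_normal hT
        _ ≤ _ := (normalCore_le _).trans hXR
    refine F.inf_lt_B.ne (map_injective (S : Subgroup G).subtype_injective ?_)
    rw [map_inf _ _ _ (S : Subgroup G).subtype_injective, hBmap, ← hRdef]
    exact inf_eq_right.2 hBR
  · -- reduce to the normal closure
    have h := ih _ (hn ▸ card_lt_of_lt hcl) (normalClosure (T : Set G)) rfl (hB.to_le hcl.le)
    have e1 : Z ⊓ normalClosure (T : Set G) = T :=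
      le_antisymm (le_inf inf_le_left (inf_le_right.trans hcl.le))
        (le_inf inf_le_left le_normalClosure)
    rwa [e1] at h

/-- The ZJ-theorem for strongly closed subgroups. -/
theorem maxCenter_normal_of_stronglyClosed {e p : ℕ} [Finite G] [Fact p.Prime] (hp : p ≠ 2)
    (he : Odd e ∨ e = 0) (hc : centralizer (pCore p G : Set G) ≤ pCore p G)
    (hst : QuadStable p G) (S : Sylow p G) {D₀ : Subgroup G}
    (hD₀ : IsStronglyClosed D₀ (S : Subgroup G)) : (maxCenter e D₀).Normal := by
  set Z := maxCenter e D₀ with hZdef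
  have hPS : pCore p G ≤ (S : Subgroup G) := pCore_le_sylow S
  have hZp : IsPGroup p Z := S.2.to_le ((maxCenter_le e _).trans hD₀.1)
  have hZle : Z ≤ pCore p G := by
    refine (quadratic_le hst (isPGroup_pCore p G) hZp ⟨⟨fun a b =>
      Subtype.ext (maxCenter_comm e _ _ a.2 _ b.2)⟩⟩
      (hPS.trans ((stronglyClosed_le_normalizer hD₀).trans (maxCenter_le_normalizer _)))).trans ?_
    haveI : ((pCore p (G ⧸ centralizer (pCore p G : Set G))).comap (QuotientGroup.mk' _)).Normal :=
      (pCore_normal p _).comap _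
    refine le_pCore ((isPGroup_pCore p _).comap_of_ker_isPGroup _ ?_)
    rw [QuotientGroup.ker_mk']
    exact (isPGroup_pCore p G).to_le hc
  have h := maxCenter_inf_normal_of_stronglyClosed (e := e) hp he hst S hD₀ _ (pCore p G) rfl
    (isPGroup_pCore p G)
  rwa [inf_eq_left.2 hZle] at h

end CfsgLib.Transfer
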