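import Cfsg.Agent.Lib.Transfer.Control

/-!
# Nilpotent Hall subgroups of the same order are conjugate (Wielandt)
-/

set_option autoImplicit false

open Subgroup

namespace CfsgLib.Transfer

variable {G : Type*} [Group G] [Finite G] {p : ℕ}

/-- The Sylow `p`-subgroup and `p`-complement of a nilpotent Hall subgroup, as subgroups of the
whole group. -/
theorem exists_split_nilpotent_hall [hp : Fact p.Prime] {H : Subgroup G} (hH : Group.IsNilpotent H)
    (hHall : Nat.Coprime (Nat.card H) H.index) (hpH : p ∣ Nat.card H) :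
    ∃ (P : Sylow p G) (H₁ : Subgroup G), (P : Subgroup G) ≤ H ∧ H₁ ≤ H ∧
      H₁ ≤ centralizer ((P : Subgroup G) : Set G) ∧ (P : Subgroup G) ⊔ H₁ = H ∧
      Nat.card (P : Subgroup G) * Nat.card H₁ = Nat.card H ∧ ¬ p ∣ Nat.card H₁ := by
  obtain ⟨P₀⟩ : Nonempty (Sylow p H) := inferInstance
  let P' : Subgroup G := (P₀ : Subgroup H).map H.subtype
  have hmax : ¬ p ∣ P'.index := by
    intro hd
    rw [← relIndex_mul_index (show P' ≤ H from map_subtype_le _)] at hd
    rcases hp.out.dvd_mul.mp hd with h | h
    · rw [relIndex, subgroupOf, comap_map_eq_self_of_injective H.subtype_injective] at h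
      exact P₀.not_dvd_index h
    · exact hp.out.ne_one (Nat.dvd_one.mp (hHall ▸ Nat.dvd_gcd hpH h))
  have hc := hasNormalPComplement_of_isNilpotent (G := H) (p := p)
  have hcomp := isComplement'_pResidual hc P₀
  refine ⟨(P₀.2.map H.subtype).toSylow hmax, (Cfsg.pResidual p H).map H.subtype, map_subtype_le _,
    map_subtype_le _, ?_, ?_, ?_, ?_⟩
  · rw [map_le_iff_le_comap]
    refine (closure_le _).mpr fun c hc' => ?_
    rw [SetLike.mem_coe, mem_comap, mem_centralizer_iff]
    rintro _ ⟨a, ha, rfl⟩
    exact congrArg Subtype.val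
      (mem_centralizer_iff.mp (mem_centralizer_sylow_of_isNilpotent P₀ hc') a ha)
  · change P' ⊔ _ = H
    rw [← Subgroup.map_sup, sup_comm, hcomp.sup_eq_top, ← MonoidHom.range_eq_map, range_subtype]
  · change Nat.card P' * _ = _
    rw [card_map_of_injective H.subtype_injective, card_map_of_injective H.subtype_injective,
      mul_comm, hcomp.card_mul_card]
  · rw [card_map_of_injective H.subtype_injective]
    exact hasNormalPComplement_iff_pResidual.mp hc

theorem exists_conj_nilpotent_hall_aux (n : ℕ) : ∀ (C H K : Subgroup G), Nat.card H < n →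
    H ≤ C → K ≤ C → Group.IsNilpotent H → Group.IsNilpotent K → Nat.card H = Nat.card K →
    Nat.Coprime (Nat.card H) (H.relIndex C) → ∃ c ∈ C, K.map (MulAut.conj c).toMonoidHom = H := by
  induction n with
  | zero => intro C H K h; omega
  | succ n ih =>
    intro C H K hn hHC hKC hH hK hcard hHall
    by_cases h1 : Nat.card H = 1
    · rw [eq_bot_of_card_eq H h1, eq_bot_of_card_eq K (hcard.symm.trans h1)]
      exact ⟨1, one_mem C, Subgroup.map_bot _⟩
    obtain ⟨p, hp, hpH⟩ := Nat.exists_prime_and_dvd h1
    have : Fact p.Prime := ⟨hp⟩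
    -- work inside `C`
    have hcH : Nat.card (H.subgroupOf C) = Nat.card H :=
      Nat.card_congr (subgroupOfEquivOfLe hHC).toEquiv
    have hcK : Nat.card (K.subgroupOf C) = Nat.card K :=
      Nat.card_congr (subgroupOfEquivOfLe hKC).toEquiv
    have hHallH : Nat.Coprime (Nat.card (H.subgroupOf C)) (H.subgroupOf C).index := hcH.symm ▸ hHall
    have hHallK : Nat.Coprime (Nat.card (K.subgroupOf C)) (K.subgroupOf C).index := by
      have e : (K.subgroupOf C).index = (H.subgroupOf C).index := by
        have e1 := (K.subgroupOf C).card_mul_index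
        have e2 := (H.subgroupOf C).card_mul_index
        rw [hcK, ← hcard, ← e2, hcH] at e1
        exact Nat.eq_of_mul_eq_mul_left Nat.card_pos e1
      rw [e, hcK, ← hcard, ← hcH]
      exact hHallH
    have hnH : Group.IsNilpotent (H.subgroupOf C) :=
      Group.nilpotent_of_mulEquiv (subgroupOfEquivOfLe hHC).symm
    have hnK : Group.IsNilpotent (K.subgroupOf C) :=
      Group.nilpotent_of_mulEquiv (subgroupOfEquivOfLe hKC).symm
    obtain ⟨P, H₁, hPH, hH₁, hH₁C, hsupH, hmulH, -⟩ :=
      exists_split_nilpotent_hall hnH hHallH (hcH.symm ▸ hpH)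
    obtain ⟨Q, K₁, hQK, hK₁, hK₁C, hsupK, hmulK, -⟩ :=
      exists_split_nilpotent_hall hnK hHallK (hcK.symm ▸ hcard ▸ hpH)
    obtain ⟨g, hg⟩ := MulAction.exists_smul_eq C Q P
    -- the conjugated complement centralises `P`
    let φ : C →* G := C.subtype
    let K₂ : Subgroup C := K₁.map (MulAut.conj g).toMonoidHom
    have hQP : (Q : Subgroup C).map (MulAut.conj g).toMonoidHom = (P : Subgroup C) := by
      rw [← hg]; rfl
    have hK₂C : K₂ ≤ centralizer ((P : Subgroup C) : Set C) := by
      refine (map_mono hK₁C).trans ?_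
      rw [← hQP]
      exact map_centralizer_le_centralizer_image _ _
    let D : Subgroup G := (centralizer ((P : Subgroup C) : Set C)).map φ
    have hle1 : H₁.map φ ≤ D := map_mono hH₁C
    have hle2 : K₂.map φ ≤ D := map_mono hK₂C
    have hcP : 1 < Nat.card (P : Subgroup C) := by
      have h := P.dvd_card_of_dvd_card ((hcH.symm ▸ hpH).trans (card_subgroup_dvd_card _))
      exact lt_of_lt_of_le hp.one_lt (Nat.le_of_dvd Nat.card_pos h)
    have hcardH₁ : Nat.card (H₁.map φ) < n := by
      rw [card_map_of_injective C.subtype_injective]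
      have h2 : Nat.card H₁ < Nat.card H := by
        rw [← hcH, ← hmulH]
        exact lt_mul_of_one_lt_left Nat.card_pos hcP
      omega
    have hnil₁ : Group.IsNilpotent H₁ :=
      Group.nilpotent_of_mulEquiv (subgroupOfEquivOfLe hH₁)
    have hnil₂ : Group.IsNilpotent K₁ :=
      Group.nilpotent_of_mulEquiv (subgroupOfEquivOfLe hK₁)
    have hcards : Nat.card H₁ = Nat.card K₂ := by
      rw [card_map_of_injective (MulAut.conj g).injective]
      have hPQ : Nat.card (P : Subgroup C) = Nat.card (Q : Subgroup C) := by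
        rw [← hQP, card_map_of_injective (MulAut.conj g).injective]
      refine Nat.eq_of_mul_eq_mul_left (Nat.card_pos (α := (P : Subgroup C))) ?_
      rw [hmulH]
      conv_rhs => rw [hPQ, hmulK, hcK, ← hcard, ← hcH]
    have hHall₁ : Nat.Coprime (Nat.card (H₁.map φ)) ((H₁.map φ).relIndex D) := by
      rw [card_map_of_injective C.subtype_injective,
        relIndex_map_map_of_injective _ _ C.subtype_injective]
      refine (Nat.Coprime.coprime_dvd_right (relIndex_dvd_index_of_le hH₁C)) ?_
      rw [← relIndex_mul_index hH₁]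
      refine Nat.Coprime.mul_right ?_ (hHallH.coprime_dvd_left (card_dvd_of_le hH₁))
      have h3 : H₁.relIndex (H.subgroupOf C) = Nat.card (P : Subgroup C) := by
        refine Nat.eq_of_mul_eq_mul_left (Nat.card_pos (α := H₁)) ?_
        rw [mul_comm (Nat.card H₁) (Nat.card (P : Subgroup C)), hmulH]
        have h4 := (H₁.subgroupOf (H.subgroupOf C)).card_mul_index
        rwa [Nat.card_congr (subgroupOfEquivOfLe hH₁).toEquiv] at h4
      rw [h3]
      obtain ⟨a, ha⟩ := IsPGroup.iff_card.mp P.2
      rw [ha]
      refine Nat.Coprime.pow_right a (Nat.coprime_comm.mp (hp.coprime_iff_not_dvd.mpr fun hd => ?_))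
      have h5 : H₁.index = H₁.relIndex (H.subgroupOf C) * (H.subgroupOf C).index :=
        (relIndex_mul_index hH₁).symm
      have h6 := H₁.card_mul_index
      rw [h5, h3, ← P.card_mul_index] at h6
      refine P.not_dvd_index (hd.trans ⟨(H.subgroupOf C).index, ?_⟩)
      refine Nat.eq_of_mul_eq_mul_left (Nat.card_pos (α := (P : Subgroup C))) ?_
      rw [← h6]; ring
    obtain ⟨d, hd, hconj⟩ := ih D (H₁.map φ) (K₂.map φ) hcardH₁ hle1 hle2
      (Group.nilpotent_of_mulEquiv (H₁.equivMapOfInjective φ C.subtype_injective))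
      (Group.nilpotent_of_mulEquiv ((K₁.equivMapOfInjective _ (MulAut.conj g).injective).trans
        (K₂.equivMapOfInjective φ C.subtype_injective)))
      (by rw [card_map_of_injective C.subtype_injective, card_map_of_injective C.subtype_injective,
        hcards]) hHall₁
    obtain ⟨d₀, hd₀, rfl⟩ := hd
    refine ⟨φ (d₀ * g), (d₀ * g).2, ?_⟩
    have hPfix : (P : Subgroup C).map (MulAut.conj d₀).toMonoidHom = (P : Subgroup C) := by
      refine eq_of_le_of_card_ge ?_ (card_map_of_injective (MulAut.conj d₀).injective).ge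
      rintro _ ⟨a, ha, rfl⟩
      rw [MulEquiv.coe_toMonoidHom, MulAut.conj_apply, ← mem_centralizer_iff.mp hd₀ a ha,
        mul_inv_cancel_right]
      exact ha
    have hmid : (K.subgroupOf C).map (MulAut.conj (d₀ * g)).toMonoidHom = H.subgroupOf C := by
      have hc2 : (MulAut.conj (d₀ * g)).toMonoidHom =
          (MulAut.conj d₀).toMonoidHom.comp (MulAut.conj g).toMonoidHom := by
        ext x
        simp
      have h7 : K₂.map (MulAut.conj d₀).toMonoidHom = H₁ := by
        apply map_injective C.subtype_injective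
        change (K₂.map (MulAut.conj d₀).toMonoidHom).map φ = H₁.map φ
        rw [← hconj, Subgroup.map_map K₂ φ, Subgroup.map_map K₂]
        rfl
      rw [← hsupK, ← hsupH, Subgroup.map_sup, hc2, ← Subgroup.map_map, ← Subgroup.map_map, hQP,
        hPfix]
      exact congrArg _ h7
    rw [← map_subgroupOf_eq_of_le hKC, ← map_subgroupOf_eq_of_le hHC, ← hmid, Subgroup.map_map,
      Subgroup.map_map]
    congr 1

/-- **Wielandt**: nilpotent Hall subgroups of the same order in a subgroup `C` are conjugate in
`C`. -/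
theorem exists_conj_nilpotent_hall {C H K : Subgroup G} (hHC : H ≤ C) (hKC : K ≤ C)
    (hH : Group.IsNilpotent H) (hK : Group.IsNilpotent K) (hcard : Nat.card H = Nat.card K)
    (hHall : Nat.Coprime (Nat.card H) (H.relIndex C)) :
    ∃ c ∈ C, K.map (MulAut.conj c).toMonoidHom = H :=
  exists_conj_nilpotent_hall_aux _ C H K (Nat.lt_succ_self _) hHC hKC hH hK hcard hHall

end CfsgLib.Transfer
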