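import Cfsg.Agent.Lib.Transfer.Control
import Cfsg.Agent.Lib.Base.Cores
import Cfsg.Agent.S0072

/-!
# The minimal counterexample to a normal `p`-complement theorem

The reduction used in the theorems of Thompson and Glauberman: a minimal counterexample `G` has
`C(O_p) ≤ O_p`, its Sylow `p`-subgroup `P` is maximal, and `G = P K` with `K / O_p` an abelian
`p'`-group.
-/

set_option autoImplicit false

open Subgroup Cfsg
open scoped commutatorElement

universe u

namespace CfsgLib.Transfer

/-- The configuration reached by a minimal counterexample. -/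
structure MinimalConfig (p : ℕ) (G : Type u) [Group G] (P : Sylow p G) : Prop where
  not_comp : ¬ HasNormalPComplement p G
  centralizer_le : centralizer (pCore p G : Set G) ≤ pCore p G
  pCore_lt : pCore p G < (P : Subgroup G)
  maximal : ∀ U : Subgroup G, (P : Subgroup G) ≤ U → U ≠ ⊤ → U = (P : Subgroup G)
  exists_complement : ∃ K : Subgroup G, K.Normal ∧ pCore p G ≤ K ∧ (P : Subgroup G) ⊔ K = ⊤ ∧
    (P : Subgroup G) ⊓ K = pCore p G ∧ ⁅K, K⁆ ≤ pCore p G ∧
    ∃ m : ℕ, Nat.Coprime p m ∧ ∀ k ∈ K, k ^ m ∈ pCore p G

/-- The properties of the hypothesis `Cond` needed for the reduction. -/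
structure LocalCondition (p : ℕ) (Cond : ∀ (G : Type u) [Group G], Subgroup G → Prop) : Prop where
  mono : ∀ (G : Type u) [Group G] [Finite G] (U R : Subgroup G), IsPGroup p R → R ≤ U →
    Cond G R → Cond U (R.subgroupOf U)
  quot : ∀ (G : Type u) [Group G] [Finite G] (P : Sylow p G) (N : Subgroup G) [N.Normal],
    Nat.Coprime (Nat.card N) p → Cond G (P : Subgroup G) →
      Cond (G ⧸ N) ((P : Subgroup G).map (QuotientGroup.mk' N))
  of_local : ∀ (G : Type u) [Group G] [Finite G] (R : Subgroup G), IsPGroup p R → R ≠ ⊥ →
    (∀ Q : Subgroup G, Q ≤ R → Q ≠ ⊥ → normalizer (R : Set G) ≤ normalizer (Q : Set G) →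
      HasNormalPComplement p (normalizer (Q : Set G))) → Cond G R
  of_normal : ∀ (G : Type u) [Group G] [Finite G] (P : Sylow p G), (P : Subgroup G).Normal →
    Cond G (P : Subgroup G) → HasNormalPComplement p G

variable {p : ℕ} [hp : Fact p.Prime]

theorem hasNormalPComplement_of_quotient_coprime {G : Type*} [Group G] [Finite G] (N : Subgroup G)
    [N.Normal] (hN : Nat.Coprime (Nat.card N) p) (h : HasNormalPComplement p (G ⧸ N)) :
    HasNormalPComplement p G := by
  obtain ⟨M, hM, h1, k, hk⟩ := hasNormalPComplement_iff_exists.mp h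
  refine hasNormalPComplement_iff_exists.mpr
    ⟨M.comap (QuotientGroup.mk' N), hM.comap _, ?_, k, ?_⟩
  · intro hd
    have hle : N ≤ M.comap (QuotientGroup.mk' N) := QuotientGroup.le_comap_mk' N M
    have e := (N.subgroupOf (M.comap (QuotientGroup.mk' N))).card_mul_index
    rw [Nat.card_congr (subgroupOfEquivOfLe hle).toEquiv] at e
    have e2 : (N.subgroupOf (M.comap (QuotientGroup.mk' N))).index = Nat.card M := by
      have := relIndex_comap (⊥ : Subgroup (G ⧸ N)) (QuotientGroup.mk' N) (M.comap (QuotientGroup.mk' N))
      rw [MonoidHom.comap_bot, QuotientGroup.ker_mk',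
        map_comap_eq_self_of_surjective (QuotientGroup.mk'_surjective N), relIndex_bot_left] at this
      exact this
    rw [← e, e2] at hd
    rcases hp.out.dvd_mul.mp hd with h' | h'
    · exact (hp.out.coprime_iff_not_dvd.mp hN.symm) h'
    · exact h1 h'
  · rw [index_comap_of_surjective M (QuotientGroup.mk'_surjective N), hk]

/-- The order of a Sylow `p`-subgroup of `U`. -/
noncomputable def pPart (p : ℕ) {G : Type*} [Group G] (U : Subgroup G) : ℕ :=
  p ^ (Nat.card U).factorization p

theorem card_le_pPart {G : Type*} [Group G] [Finite G] {R U : Subgroup G} (hR : IsPGroup p R)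
    (hRU : R ≤ U) : Nat.card R ≤ pPart p U := by
  obtain ⟨S, hS⟩ := (hR.comap_subtype (K := U)).exists_le_sylow
  rw [pPart, ← S.card_eq_multiplicity, ← Nat.card_congr (subgroupOfEquivOfLe hRU).toEquiv]
  exact card_le_of_le hS

theorem pPart_le_card_sylow {G : Type*} [Group G] [Finite G] (P : Sylow p G) (U : Subgroup G) :
    pPart p U ≤ Nat.card (P : Subgroup G) := by
  obtain ⟨S⟩ : Nonempty (Sylow p U) := inferInstance
  obtain ⟨T, hT⟩ := (S.2.map U.subtype).exists_le_sylow
  rw [pPart, ← S.card_eq_multiplicity, ← card_map_of_injective U.subtype_injective,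
    Nat.card_congr (P.equiv T).toEquiv]
  exact card_le_of_le hT

theorem exists_minimalConfig_aux {Cond : ∀ (G : Type u) [Group G], Subgroup G → Prop}
    (hC : LocalCondition p Cond) (n : ℕ)
    (hcore : ∀ (G : Type u) [Group G] [Finite G] (P : Sylow p G), MinimalConfig p G P →
      Cond G (P : Subgroup G) → False) :
    ∀ (G : Type u) [Group G] [Finite G] (P : Sylow p G), Nat.card G < n →
      Cond G (P : Subgroup G) → HasNormalPComplement p G := by
  induction n with
  | zero => intro G _ _ P h; omega
  | succ n ih =>
    intro G _ _ P hn hcond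
    by_contra hno
    -- (i) `O_{p'}(G) = 1`
    have hO : ∀ N : Subgroup G, N.Normal → Nat.Coprime (Nat.card N) p → N = ⊥ := by
      intro N hN hNc
      by_contra hne
      refine hno (hasNormalPComplement_of_quotient_coprime N hNc ?_)
      refine ih (G ⧸ N) (P.mapSurjective (QuotientGroup.mk'_surjective N)) ?_ ?_
      · have h1 := N.card_mul_index
        have h2 : 1 < Nat.card N := (one_lt_card_iff_ne_bot N).mpr hne
        have h3 : 0 < N.index := Nat.pos_of_ne_zero index_ne_zero_of_finite
        rw [← index_eq_card]
        have : N.index < Nat.card G := by rw [← h1]; exact lt_mul_left h3 h2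
        omega
      · rw [Sylow.coe_mapSurjective]
        exact hC.quot G P N hNc hcond
    -- (ii) a bad local subgroup with maximal Sylow order and maximal order
    let key : Subgroup G → ℕ := fun H =>
      pPart p (normalizer (H : Set G)) * (Nat.card G + 1) + Nat.card H
    have hbad : {H : Subgroup G | IsPGroup p H ∧ H ≠ ⊥ ∧
        ¬ HasNormalPComplement p (normalizer (H : Set G))}.Nonempty := by
      by_contra hemp
      refine hno ((Cfsg.Agent.S0072.result p).mpr fun Q hQ hQ1 => ?_)
      by_contra hQn
      exact hemp ⟨Q, hQ, hQ1, hQn⟩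
    obtain ⟨H₁, ⟨hH₁p, hH₁ne, hH₁no⟩, hH₁max⟩ := Set.exists_max_image _ key (Set.toFinite _) hbad
    have hgood : ∀ Q : Subgroup G, IsPGroup p Q → Q ≠ ⊥ → key H₁ < key Q →
        HasNormalPComplement p (normalizer (Q : Set G)) := by
      intro Q hQ hQ1 hlt
      by_contra hQn
      exact absurd (hH₁max Q ⟨hQ, hQ1, hQn⟩) (not_le.mpr hlt)
    -- move a Sylow subgroup of the normalizer of `H₁` into `P`
    obtain ⟨S₁⟩ : Nonempty (Sylow p (normalizer (H₁ : Set G))) := inferInstance
    obtain ⟨T₁, hT₁⟩ := (S₁.2.map (normalizer (H₁ : Set G)).subtype).exists_le_sylow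
    obtain ⟨g, hg⟩ := MulAction.exists_smul_eq G T₁ P
    let c := (MulAut.conj g).toMonoidHom
    have hcinj : Function.Injective c := (MulAut.conj g).injective
    let H : Subgroup G := H₁.map c
    let N : Subgroup G := normalizer (H : Set G)
    have hNeq : N = (normalizer (H₁ : Set G)).map c := (map_equiv_normalizer_eq H₁ (MulAut.conj g)).symm
    have hcardN : Nat.card N = Nat.card (normalizer (H₁ : Set G)) := by
      rw [hNeq, card_map_of_injective hcinj]
    have hHp : IsPGroup p H := hH₁p.map c
    have hkeyH : key H = key H₁ := by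
      simp only [key, pPart]
      change p ^ (Nat.card N).factorization p * _ + _ = _
      rw [hcardN, card_map_of_injective hcinj]
    have hNno : ¬ HasNormalPComplement p N := by
      intro h
      apply hH₁no
      have e := (normalizer (H₁ : Set G)).equivMapOfInjective c hcinj
      refine (hasNormalPComplement_congr e).mpr ?_
      rwa [← hNeq]
    let R : Subgroup G := (P : Subgroup G) ⊓ N
    have hRp : IsPGroup p R := P.2.to_le inf_le_left
    have hRcard : Nat.card R = pPart p N := by
      refine le_antisymm (card_le_pPart hRp inf_le_right) ?_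
      rw [pPart, hcardN, ← S₁.card_eq_multiplicity,
        ← card_map_of_injective (normalizer (H₁ : Set G)).subtype_injective,
        ← card_map_of_injective hcinj]
      refine card_le_of_le (le_inf ?_ (hNeq ▸ map_mono (map_subtype_le _)))
      rw [← hg, Sylow.coe_subgroup_smul]
      exact map_mono hT₁
    have hHR : H ≤ R := by
      -- `H` is a normal `p`-subgroup of `N`, so lies in each of its Sylow subgroups
      let RS : Sylow p N := (hRp.comap_subtype (K := N)).toSylow (by
        intro hd
        have h1 := (R.subgroupOf N).card_mul_index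
        rw [Nat.card_congr (subgroupOfEquivOfLe (inf_le_right : R ≤ N)).toEquiv, hRcard, pPart] at h1
        refine Nat.pow_succ_factorization_not_dvd (Nat.card_pos (α := N)).ne' hp.out ?_
        rw [pow_succ]
        nth_rw 2 [← h1]
        exact mul_dvd_mul_left _ hd)
      have : (H.subgroupOf N).Normal := normal_in_normalizer
      have h2 : H.subgroupOf N ≤ (RS : Subgroup N) :=
        IsPGroup.le_sylow_of_normal (N := H.subgroupOf N) hHp.comap_subtype RS
      intro x hx
      exact mem_subgroupOf.mp (h2 (show (⟨x, le_normalizer hx⟩ : N) ∈ H.subgroupOf N from hx))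
    have hHne : H ≠ ⊥ := by
      rw [Ne, map_eq_bot_iff_of_injective _ hcinj]
      exact hH₁ne
    have hNtop : N = ⊤ := by
      by_contra hNne
      refine hNno ?_
      let RS : Sylow p N := (hRp.comap_subtype (K := N)).toSylow (by
        intro hd
        have h1 := (R.subgroupOf N).card_mul_index
        rw [Nat.card_congr (subgroupOfEquivOfLe (inf_le_right : R ≤ N)).toEquiv, hRcard, pPart] at h1
        refine Nat.pow_succ_factorization_not_dvd (Nat.card_pos (α := N)).ne' hp.out ?_
        rw [pow_succ]
        nth_rw 2 [← h1]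
        exact mul_dvd_mul_left _ hd)
      refine ih N RS ?_ (hC.mono G N R hRp inf_le_right ?_)
      · have : Nat.card N < Nat.card G := card_lt_of_ne_top_aux hNne
        omega
      by_cases hRP : R = (P : Subgroup G)
      · rw [hRP]; exact hcond
      have hRne : R ≠ ⊥ := fun h => hHne (le_bot_iff.mp (h ▸ hHR))
      refine hC.of_local G R hRp hRne fun Q hQR hQne hQN => hgood Q (hRp.to_le hQR) hQne ?_
      have hlt := lt_inf_normalizer P.2 (lt_of_le_of_ne inf_le_left hRP : R < (P : Subgroup G))
      have h1 : pPart p N < pPart p (normalizer (Q : Set G)) := by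
        rw [← hRcard]
        exact lt_of_lt_of_le (card_lt_card_of_lt hlt)
          (card_le_pPart (P.2.to_le inf_le_left) (inf_le_right.trans hQN))
      rw [← hkeyH]
      simp only [key]
      have h2 : Nat.card H ≤ Nat.card G := card_le_card_group H
      have h3 : (pPart p N + 1) * (Nat.card G + 1) ≤
          pPart p (normalizer (Q : Set G)) * (Nat.card G + 1) := Nat.mul_le_mul_right _ h1
      change pPart p N * _ + _ < _
      rw [add_mul, one_mul] at h3
      omega
    have hHn : H.Normal := normalizer_eq_top_iff.mp hNtop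
    have hHO : H ≤ pCore p G := CfsgLib.Base.le_pCore hHp
    have hPN : Nat.card (P : Subgroup G) = pPart p N :=
      le_antisymm (card_le_pPart P.2 (hNtop ▸ le_top)) (pPart_le_card_sylow P N)
    -- `p`-subgroups properly containing `O_p` normalized by `P` have good normalizers
    have hgood' : ∀ L : Subgroup G, IsPGroup p L → pCore p G < L →
        (P : Subgroup G) ≤ normalizer (L : Set G) →
        HasNormalPComplement p (normalizer (L : Set G)) := by
      intro L hL hlt hPL
      refine hgood L hL (fun h => not_lt_bot (h ▸ hlt)) ?_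
      rw [← hkeyH]
      simp only [key]
      have h1 : pPart p N ≤ pPart p (normalizer (L : Set G)) := hPN ▸ card_le_pPart P.2 hPL
      have h2 : Nat.card H < Nat.card L :=
        lt_of_le_of_lt (card_le_of_le hHO) (card_lt_card_of_lt hlt)
      exact Nat.add_lt_add_of_le_of_lt (Nat.mul_le_mul_right _ h1) h2
    -- `O_p(G) < P`
    have hlt : pCore p G < (P : Subgroup G) := by
      refine lt_of_le_of_ne (CfsgLib.Base.pCore_le_sylow P) fun he => hno (hC.of_normal G P ?_ hcond)
      rw [← he]
      infer_instance
    have hOne : pCore p G ≠ ⊥ := fun h => hHne (le_bot_iff.mp (h ▸ hHO))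
    -- (iii) the quotient by `O_p` has a normal `p`-complement
    let π := QuotientGroup.mk' (pCore p G)
    have hπ : Function.Surjective π := QuotientGroup.mk'_surjective _
    have hquot : HasNormalPComplement p (G ⧸ pCore p G) := by
      refine ih (G ⧸ pCore p G) (P.mapSurjective hπ) ?_ ?_
      · have h1 := (pCore p G).card_mul_index
        have h2 : 1 < Nat.card (pCore p G) := (one_lt_card_iff_ne_bot _).mpr hOne
        have h3 : 0 < (pCore p G).index := Nat.pos_of_ne_zero index_ne_zero_of_finite
        rw [← index_eq_card]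
        have : (pCore p G).index < Nat.card G := by rw [← h1]; exact lt_mul_left h3 h2
        omega
      rw [Sylow.coe_mapSurjective]
      refine hC.of_local _ _ (P.2.map π) ?_ fun Q hQP hQne hQN => ?_
      · rw [Ne, Subgroup.map_eq_bot_iff, QuotientGroup.ker_mk']
        exact not_le_of_gt hlt
      have hcomap : Q.comap π ≤ (P : Subgroup G) := by
        refine (comap_mono hQP).trans ?_
        rw [comap_map_eq, QuotientGroup.ker_mk', sup_eq_left.mpr hlt.le]
      have hL := hgood' (Q.comap π) (P.2.to_le hcomap) ?_ ?_
      · rw [← map_comap_eq_self_of_surjective hπ (normalizer (Q : Set (G ⧸ pCore p G))),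
          comap_normalizer_eq_of_surjective Q hπ]
        exact hasNormalPComplement_of_surjective (π.subgroupMap _) (π.subgroupMap_surjective _) hL
      · refine lt_of_le_of_ne (QuotientGroup.le_comap_mk' _ _) fun he => hQne ?_
        rw [← map_comap_eq_self_of_surjective hπ Q, ← he, QuotientGroup.map_mk'_self]
      · rw [← comap_normalizer_eq_of_surjective Q hπ]
        intro x hx
        exact hQN (le_normalizer (mem_map_of_mem π hx))
    let Kb : Subgroup (G ⧸ pCore p G) := pResidual p (G ⧸ pCore p G)
    let Pb : Sylow p (G ⧸ pCore p G) := P.mapSurjective hπ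
    have hKbn : Kb.Normal := pResidual_normal
    have hKbP : Kb.IsComplement' (Pb : Subgroup (G ⧸ pCore p G)) := isComplement'_pResidual hquot Pb
    have hKbc : ¬ p ∣ Nat.card Kb := hasNormalPComplement_iff_pResidual.mp hquot
    let K : Subgroup G := Kb.comap π
    have hKn : K.Normal := hKbn.comap π
    have hHK : pCore p G ≤ K := QuotientGroup.le_comap_mk' _ Kb
    have hPK : (P : Subgroup G) ⊓ K = pCore p G := by
      refine le_antisymm (fun x hx => ?_) (le_inf hlt.le hHK)
      have : π x ∈ (Pb : Subgroup (G ⧸ pCore p G)) := mem_map_of_mem π hx.1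
      exact (QuotientGroup.eq_one_iff x).mp (disjoint_def.mp hKbP.disjoint hx.2 this)
    have hPKtop : (P : Subgroup G) ⊔ K = ⊤ := by
      rw [← comap_top π, ← hKbP.sup_eq_top]
      change _ = (Kb ⊔ (P : Subgroup G).map π).comap π
      rw [← map_comap_eq_self_of_surjective hπ Kb, ← Subgroup.map_sup, comap_map_eq,
        QuotientGroup.ker_mk', sup_assoc, sup_eq_left.mpr hlt.le, sup_comm]
    -- `C(O_p) ≤ O_p`
    have hcent : centralizer (pCore p G : Set G) ≤ pCore p G := by
      let C : Subgroup G := centralizer (pCore p G : Set G)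
      have hCn : C.Normal := inferInstance
      let D : Subgroup G := C ⊓ K
      have hDn : D.Normal := normal_inf_normal C K
      let S : Sylow p D := (P.2.comap_subtype (K := D)).toSylow (not_dvd_index_subgroupOf_of_normal P D)
      have hcen : normalizer ((S : Subgroup D) : Set D) ≤ centralizer ((S : Subgroup D) : Set D) := by
        intro d _
        rw [mem_centralizer_iff]
        intro s hs
        have hsH : (s : G) ∈ pCore p G := hPK ▸ ⟨mem_subgroupOf.mp hs, s.2.2⟩
        exact Subtype.ext (mem_centralizer_iff.mp d.2.1 _ hsH)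
      have hcomp := hasNormalPComplement_of_normalizer_le_centralizer S hcen
      have hch := pResidual_characteristic (G := D) (p := p)
      have hbot := hO ((pResidual p D).map D.subtype) inferInstance (by
        rw [card_map_of_injective D.subtype_injective, Nat.coprime_comm, hp.out.coprime_iff_not_dvd]
        exact hasNormalPComplement_iff_pResidual.mp hcomp)
      rw [map_eq_bot_iff_of_injective _ D.subtype_injective] at hbot
      have hDp : IsPGroup p D := by
        obtain ⟨k, hk⟩ := exists_index_pResidual (G := D) (p := p)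
        rw [hbot, index_bot] at hk
        exact IsPGroup.of_card hk
      have hDle : D ≤ pCore p G := CfsgLib.Base.le_pCore hDp
      -- the image of `C` meets `Kb` trivially, so is a `p`-group
      have hCp : IsPGroup p C := by
        refine fun x => ?_
        obtain ⟨a, -, b, -, hab, ⟨j, hj⟩, hb⟩ := exists_pPart_mul (p := p) x
        have hbK : (b : G) ∈ K := by
          refine mem_comap.mpr (mem_pResidual_of_coprime ?_)
          refine Nat.Coprime.coprime_dvd_left (orderOf_map_dvd π (b : G)) ?_
          rwa [← Subgroup.coe_subtype, orderOf_injective C.subtype C.subtype_injective]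
        have hbO : (b : G) ∈ pCore p G := hDle ⟨b.2, hbK⟩
        have hb1 : (b : G) = 1 := congrArg Subtype.val (eq_one_of_coprime_orderOf
          (CfsgLib.Base.isPGroup_pCore p G) (x := (⟨b, hbO⟩ : pCore p G)) (by
            rwa [orderOf_mk, ← Subgroup.coe_subtype, orderOf_injective C.subtype C.subtype_injective]))
        have hb1' : b = 1 := Subtype.ext hb1
        rw [hb1', mul_one] at hab
        exact ⟨j, by rw [← hab]; exact orderOf_dvd_iff_pow_eq_one.mp hj⟩
      exact CfsgLib.Base.le_pCore hCp
    -- `P` is maximal
    have hmax : ∀ U : Subgroup G, (P : Subgroup G) ≤ U → U ≠ ⊤ → U = (P : Subgroup G) := by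
      intro U hPU hU
      let PU : Sylow p U := P.subtype hPU
      have hUc := ih U PU (by have := card_lt_of_ne_top_aux hU; omega)
        (hC.mono G U P P.2 hPU hcond)
      let O : Subgroup G := (pResidual p U).map U.subtype
      have hdis : O ⊓ pCore p G = ⊥ := by
        refine le_bot_iff.mp fun x hx => ?_
        obtain ⟨y, hy, rfl⟩ := hx.1
        have h1 := disjoint_def.mp (isComplement'_pResidual hUc PU).disjoint hy
          (mem_subgroupOf.mpr (hlt.le hx.2))
        rw [h1, map_one]
        exact mem_bot.mpr rfl
      have hOc : O ≤ centralizer (pCore p G : Set G) := by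
        rintro _ ⟨y, hy, rfl⟩
        rw [mem_centralizer_iff]
        intro h hh
        have h1 : (y : G) * h * (y : G)⁻¹ * h⁻¹ ∈ O ⊓ pCore p G := by
          refine ⟨?_, (pCore p G).mul_mem ((inferInstance : (pCore p G).Normal).conj_mem h hh _) ((pCore p G).inv_mem hh)⟩
          have hn := pResidual_normal (G := U) (p := p)
          refine ⟨y * (⟨h, hPU (hlt.le hh)⟩ * y⁻¹ * ⟨h, hPU (hlt.le hh)⟩⁻¹), mul_mem hy
            (hn.conj_mem _ (inv_mem hy) _), ?_⟩
          simp [mul_assoc]
        rw [hdis, mem_bot, mul_inv_eq_one, mul_inv_eq_iff_eq_mul] at h1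
        exact h1.symm
      have hO1 : O = ⊥ := le_bot_iff.mp (hdis ▸ le_inf le_rfl (hOc.trans hcent))
      rw [map_eq_bot_iff_of_injective _ U.subtype_injective] at hO1
      have hUp : IsPGroup p U := by
        obtain ⟨k, hk⟩ := exists_index_pResidual (G := U) (p := p)
        rw [hO1, index_bot] at hk
        exact IsPGroup.of_card hk
      exact P.is_maximal' hUp hPU
    -- a `P`-invariant Sylow subgroup of `Kb` is everything
    have hKbne : Nat.card Kb ≠ 1 := by
      intro h1
      have hG : IsPGroup p G := by
        have : IsPGroup p K := by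
          have hKO : K ≤ pCore p G := by
            intro x hx
            refine (QuotientGroup.eq_one_iff x).mp ?_
            exact mem_bot.mp (eq_bot_of_card_eq Kb h1 ▸ hx)
          exact (CfsgLib.Base.isPGroup_pCore p G).to_le hKO
        have h2 := IsPGroup.to_sup_of_normal_right (H := (P : Subgroup G)) (K := K) P.2 this
        rw [hPKtop] at h2
        exact h2.of_equiv topEquiv
      exact hno (hasNormalPComplement_of_isPGroup hG)
    obtain ⟨q, hq, hqd⟩ := Nat.exists_prime_and_dvd hKbne
    have : Fact q.Prime := ⟨hq⟩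
    have hsplit : ∀ Z : Subgroup (G ⧸ pCore p G), Z ≤ Kb → Z ≠ ⊥ →
        (Pb : Subgroup (G ⧸ pCore p G)) ≤ normalizer (Z : Set (G ⧸ pCore p G)) → Z = Kb := by
      intro Z hZK hZne hZP
      have hU : (((Pb : Subgroup (G ⧸ pCore p G)) ⊔ Z).comap π) = ⊤ := by
        by_contra hU
        have hPle : (P : Subgroup G) ≤ ((Pb : Subgroup (G ⧸ pCore p G)) ⊔ Z).comap π :=
          fun x hx => mem_sup_left (mem_map_of_mem π hx)
        have he := hmax _ hPle hU
        apply hZne
        refine le_bot_iff.mp fun z hz => ?_
        obtain ⟨x, rfl⟩ := hπ z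
        have hxP : x ∈ (P : Subgroup G) := he ▸ (mem_sup_right hz : π x ∈ _ ⊔ Z)
        exact mem_bot.mpr (disjoint_def.mp hKbP.disjoint (hZK hz) (mem_map_of_mem π hxP))
      rw [← comap_top π] at hU
      have htop := comap_injective hπ hU
      refine eq_of_le_of_card_ge hZK ?_
      have h1 := hKbP.card_mul_card
      have h2 : Nat.card (⊤ : Subgroup (G ⧸ pCore p G)) ≤
          Nat.card (Pb : Subgroup (G ⧸ pCore p G)) * Nat.card Z := by
        rw [← htop, ← Nat.card_prod]
        refine Nat.card_le_card_of_surjective (fun x => ⟨(x.1 : G ⧸ pCore p G) * x.2,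
          mul_mem (mem_sup_left x.1.2) (mem_sup_right x.2.2)⟩) ?_
        intro y
        have hy : (y : G ⧸ pCore p G) ∈ ((((Pb : Subgroup (G ⧸ pCore p G)) ⊔ Z : Subgroup _)) : Set _) := y.2
        rw [coe_mul_of_left_le_normalizer_right _ _ hZP] at hy
        obtain ⟨a, ha, b, hb, hab⟩ := hy
        exact ⟨⟨⟨a, ha⟩, ⟨b, hb⟩⟩, Subtype.ext hab⟩
      rw [Subgroup.card_top, ← h1, mul_comm] at h2
      exact Nat.le_of_mul_le_mul_left h2 Nat.card_pos
    have hKbq : IsPGroup q Kb := by
      obtain ⟨Q⟩ : Nonempty (Sylow q Kb) := inferInstance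
      let QN : Subgroup (G ⧸ pCore p G) :=
        normalizer (((Q : Subgroup Kb).map Kb.subtype : Subgroup (G ⧸ pCore p G)) : Set (G ⧸ pCore p G))
      have hfr : QN ⊔ Kb = ⊤ := Sylow.normalizer_sup_eq_top Q
      -- so `QN` contains a Sylow `p`-subgroup of the quotient
      obtain ⟨S⟩ : Nonempty (Sylow p QN) := inferInstance
      have hindex : ¬ p ∣ ((S : Subgroup QN).map QN.subtype).index := by
        rw [← relIndex_mul_index (map_subtype_le _ : (S : Subgroup QN).map QN.subtype ≤ QN),
          hp.out.dvd_mul]
        rintro (h | h)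
        · rw [relIndex, subgroupOf, comap_map_eq_self_of_injective QN.subtype_injective] at h
          exact S.not_dvd_index h
        · refine hKbc (h.trans ?_)
          have e := CfsgLib.Base.card_sup_mul_card_inf QN Kb
          rw [hfr, Subgroup.card_top, ← QN.card_mul_index, mul_assoc] at e
          exact ⟨_, (Nat.eq_of_mul_eq_mul_left Nat.card_pos e).symm⟩
      let SG : Sylow p (G ⧸ pCore p G) := (S.2.map QN.subtype).toSylow hindex
      obtain ⟨s, hs⟩ := MulAction.exists_smul_eq (G ⧸ pCore p G) SG Pb
      let cs := (MulAut.conj s).toMonoidHom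
      let Z : Subgroup (G ⧸ pCore p G) := ((Q : Subgroup Kb).map Kb.subtype).map cs
      have hZK : Z ≤ Kb := by
        rintro _ ⟨y, ⟨x, -, rfl⟩, rfl⟩
        exact hKbn.conj_mem _ x.2 s
      have hQne : (Q : Subgroup Kb) ≠ ⊥ := Q.ne_bot_of_dvd_card hqd
      have hZne : Z ≠ ⊥ := by
        rw [Ne, map_eq_bot_iff_of_injective _ (MulAut.conj s).injective,
          map_eq_bot_iff_of_injective _ Kb.subtype_injective]
        exact hQne
      have hZP : (Pb : Subgroup (G ⧸ pCore p G)) ≤ normalizer (Z : Set (G ⧸ pCore p G)) := by
        rw [← hs, Sylow.coe_subgroup_smul]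
        exact (map_mono (map_subtype_le _)).trans (le_normalizer_map cs)
      have hZeq := hsplit Z hZK hZne hZP
      rw [← hZeq]
      exact (Q.2.map _).map _
    have hKbab : ⁅Kb, Kb⁆ = ⊥ := by
      let Z : Subgroup (G ⧸ pCore p G) := (center Kb).map Kb.subtype
      have hZn : Z.Normal := inferInstance
      have hnt : Nontrivial Kb := by
        rw [← Finite.one_lt_card_iff_nontrivial]
        exact lt_of_le_of_ne Nat.card_pos (Ne.symm hKbne)
      have hZne : Z ≠ ⊥ := by
        rw [Ne, map_eq_bot_iff_of_injective _ Kb.subtype_injective]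
        exact (nontrivial_iff_ne_bot _).mp hKbq.center_nontrivial
      have hZeq := hsplit Z (map_subtype_le _) hZne (le_normalizer_of_normal.trans' le_top)
      rw [commutator_eq_bot_iff_le_centralizer]
      intro x hx
      rw [mem_centralizer_iff]
      intro y hy
      obtain ⟨z, hz, rfl⟩ := hZeq.ge hx
      exact congrArg Subtype.val (mem_center_iff.mp hz ⟨y, hy⟩)
    refine hcore G P ⟨hno, hcent, hlt, hmax, K, hKn, hHK, hPKtop, hPK, ?_, Nat.card Kb,
      hp.out.coprime_iff_not_dvd.mpr hKbc, ?_⟩ hcond
    · rw [commutator_le]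
      intro x hx y hy
      refine (QuotientGroup.eq_one_iff _).mp ?_
      change π ⁅x, y⁆ = 1
      rw [map_commutatorElement, ← mem_bot, ← hKbab]
      exact commutator_mem_commutator hx hy
    · intro k hk
      refine (QuotientGroup.eq_one_iff _).mp ?_
      change π (k ^ Nat.card Kb) = 1
      rw [map_pow]
      exact congrArg Subtype.val (pow_card_eq_one' (x := (⟨π k, hk⟩ : Kb)))
where
  card_lt_of_ne_top_aux {G : Type u} [Group G] [Finite G] {N : Subgroup G} (h : N ≠ ⊤) :
      Nat.card N < Nat.card G := by
    rcases (card_le_card_group N).lt_or_eq with h1 | h1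
    · exact h1
    · exact absurd (eq_top_of_card_eq N h1) h

/-- **The reduction**: a normal `p`-complement theorem only has to be checked on the minimal
configuration. -/
theorem hasNormalPComplement_of_localCondition
    {Cond : ∀ (G : Type u) [Group G], Subgroup G → Prop} (hC : LocalCondition p Cond)
    (hcore : ∀ (G : Type u) [Group G] [Finite G] (P : Sylow p G), MinimalConfig p G P →
      Cond G (P : Subgroup G) → False)
    {G : Type u} [Group G] [Finite G] (P : Sylow p G) (h : Cond G (P : Subgroup G)) :
    HasNormalPComplement p G :=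
  exists_minimalConfig_aux hC _ hcore G P (Nat.lt_succ_self _) h

end CfsgLib.Transfer
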