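import Cfsg.Agent.Lib.Transfer.HallWielandt

/-!
Yoshida's transfer theorem: failure of control of transfer by the normalizer of a weakly closed
subgroup, and the wreath product `ℤ/p ≀ ℤ/p` as an image of a Sylow subgroup.
-/

set_option autoImplicit false
set_option linter.style.haveILetI false

namespace CfsgLib.Transfer

open Subgroup Cfsg
open scoped Pointwise commutatorElement

variable {p : ℕ} [hp : Fact p.Prime] {G : Type*} [Group G] [Finite G]

/-- If no witness exists, the normalizer of a weakly closed subgroup controls transfer. -/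
theorem inf_commutator_eq_of_noWitness (P : Sylow p G) (Q : Subgroup G)
    (hQ : IsWeaklyClosed Q (P : Subgroup G))
    (hnw : ∀ L : Subgroup G, Q ≤ L → L ≤ (P : Subgroup G) → NoWitness p (Q.subgroupOf L)) :
    (P : Subgroup G) ⊓ commutator G =
      (P : Subgroup G) ⊓ ⁅normalizer (Q : Set G), normalizer (Q : Set G)⁆ := by
  classical
  set N := normalizer (Q : Set G) with hN
  have hPN : (P : Subgroup G) ≤ N := fun s hs => mem_normalizer_iff_map_conj_eq.2 (hQ.2 s (by
    rintro _ ⟨y, hy, rfl⟩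
    exact mul_mem (mul_mem hs (hQ.1 hy)) (inv_mem hs)))
  have heq := pResidualOf_normalizer_eq_of_noWitness P Q hQ hnw
  rw [← hN] at heq
  refine le_antisymm ?_ (inf_le_inf_left _ (commutator_def G ▸ commutator_mono le_top le_top))
  -- `G = N ⬝ O^p(G)`
  set R := pResidual p G with hR
  haveI hRn : R.Normal := pResidual_normal
  have hq : IsPGroup p (G ⧸ R) := isPGroup_quotient_pResidual
  have htop : N ⊔ R = ⊤ := by
    have h1 : (P.mapSurjective (QuotientGroup.mk'_surjective R) : Subgroup (G ⧸ R)) = ⊤ :=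
      ((P.mapSurjective (QuotientGroup.mk'_surjective R)).3 (hq.to_subgroup ⊤) le_top).symm
    rw [Sylow.coe_mapSurjective] at h1
    have h2 := congrArg (Subgroup.comap (QuotientGroup.mk' R)) h1
    rw [comap_map_eq, QuotientGroup.ker_mk', comap_top] at h2
    exact top_unique (h2.ge.trans (sup_le_sup_right hPN R))
  set N' := ⁅N, N⁆ with hN'
  have hN'N : N' ≤ N := commutator_le_self N
  -- everything in `G'` is `N'` times something in `R`
  have hG' : commutator G ≤ N' ⊔ R := by
    have h3 : (commutator G).map (QuotientGroup.mk' R) ≤ N'.map (QuotientGroup.mk' R) := by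
      rw [hN', map_commutator, commutator_def, map_commutator]
      have h4 : N.map (QuotientGroup.mk' R) = (⊤ : Subgroup G).map (QuotientGroup.mk' R) := by
        rw [← htop, Subgroup.map_sup, QuotientGroup.map_mk'_self, sup_bot_eq]
      rw [h4]
    intro g hg
    obtain ⟨n, hn, hne⟩ := h3 (mem_map_of_mem _ hg)
    rw [QuotientGroup.mk'_apply, QuotientGroup.mk'_apply, QuotientGroup.eq] at hne
    have := mul_mem (mem_sup_left (T := R) hn) (mem_sup_right (S := N') hne)
    rwa [mul_inv_cancel_left] at this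
  rintro s ⟨hsP, hsG⟩
  refine ⟨hsP, ?_⟩
  obtain ⟨n, hn, r, hr, hnr⟩ := Subgroup.mem_sup_of_normal_right.1 (hG' hsG)
  have hrN : r ∈ N := by
    have : r = n⁻¹ * s := by rw [← hnr, inv_mul_cancel_left]
    rw [this]
    exact mul_mem (inv_mem (hN'N hn)) (hPN hsP)
  -- the image of `s` in `N / N'` is a `p`-element equal to that of `r`
  set π := Abelianization.of (G := N) with hπ
  have hker : ∀ x : N, π x = 1 ↔ (x : G) ∈ N' := by
    intro x
    rw [hπ, ← MonoidHom.mem_ker, Abelianization.ker_of, hN', ← map_subtype_commutator]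
    exact (mem_map_iff_mem N.subtype_injective).symm
  have hs : π ⟨s, hPN hsP⟩ = π ⟨r, hrN⟩ := by
    rw [show (⟨s, hPN hsP⟩ : N) = ⟨n, hN'N hn⟩ * ⟨r, hrN⟩ from Subtype.ext hnr.symm, map_mul,
      (hker ⟨n, hN'N hn⟩).2 hn, one_mul]
  have hrcop : Nat.Coprime (orderOf (π ⟨r, hrN⟩)) p := by
    have hmem : r ∈ pResidualOf p N := heq.ge ⟨hr, hrN⟩
    obtain ⟨y, hy, hyr⟩ := hmem
    have hy' : y = ⟨r, hrN⟩ := Subtype.ext hyr
    rw [hy'] at hy
    let Cop : Subgroup (Abelianization N) :=
      { carrier := {a | Nat.Coprime (orderOf a) p}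
        one_mem' := by simp
        mul_mem' := fun {a b} ha hb => (Nat.Coprime.mul_left ha hb).coprime_dvd_left
          ((Commute.all a b).orderOf_mul_dvd_mul_orderOf)
        inv_mem' := fun {a} ha => by simpa using ha }
    exact ((closure_le (Cop.comap π)).2 fun x hx =>
      hx.coprime_dvd_left (orderOf_map_dvd π x)) hy
  refine (hker ⟨s, hPN hsP⟩).1 ?_
  rw [← orderOf_eq_one_iff]
  refine Nat.eq_one_of_dvd_coprimes ((hs ▸ hrcop : Nat.Coprime (orderOf (π ⟨s, hPN hsP⟩)) p).pow_right
    (P.2 ⟨s, hsP⟩).choose) dvd_rfl ?_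
  refine (orderOf_map_dvd π _).trans (orderOf_dvd_of_pow_eq_one (Subtype.ext ?_))
  simpa using congrArg Subtype.val (P.2 ⟨s, hsP⟩).choose_spec

/-- The commutator `[x, z; n]` of elements of `Q`-invariant data. -/
theorem engel_iterate_coe {L : Subgroup G} (z x : L) (n : ℕ) :
    (((engel z)^[n] x : L) : G) = (engel (z : G))^[n] (x : G) :=
  (Function.Semiconj.iterate_right (f := (Subtype.val : L → G)) (fun _ => rfl) n).eq x

/-- Yoshida: if the normalizer of `W` does not control transfer there is a witness. -/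
theorem exists_witness (P : Sylow p G) (W : Subgroup G) (hW : IsWeaklyClosed W (P : Subgroup G))
    (h : (P : Subgroup G) ⊓ commutator G ≠
      (P : Subgroup G) ⊓ ⁅normalizer (W : Set G), normalizer (W : Set G)⁆) :
    ∃ (L : Subgroup G), W ≤ L ∧ L ≤ (P : Subgroup G) ∧ ∃ (M : Subgroup L) (z x : L)
      (ψ : M →* Multiplicative (ZMod p)) (hm : (engel z)^[p - 1] x ∈ M),
      IsCoatom M ∧ (z : G) ∈ W ∧ z ∉ M ∧ x ∈ M ∧ ψ ⟨_, hm⟩ ≠ 1 := by
  by_contra hcon
  refine h (inf_commutator_eq_of_noWitness P W hW fun L hWL hLP M z ψ hM hz hzM x hx hm => ?_)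
  by_contra hne
  exact hcon ⟨L, hWL, hLP, M, z, x, ψ, hm, hM, hz, hzM, hx, hne⟩

/-- The form of Yoshida's theorem with a maximal subgroup of `W`. -/
theorem exists_commutator_witness (P : Sylow p G) (W : Subgroup G)
    (hW : IsWeaklyClosed W (P : Subgroup G))
    (h : (P : Subgroup G) ⊓ commutator G ≠
      (P : Subgroup G) ⊓ ⁅normalizer (W : Set G), normalizer (W : Set G)⁆) :
    ∃ x ∈ (P : Subgroup G), ∃ z ∈ W, ∃ W₀ : Subgroup W, IsCoatom W₀ ∧
      (engel z)^[p - 1] x ∈ W₀.map W.subtype ∧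
      (engel z)^[p - 1] x ∉ ((frattini W₀).map W₀.subtype).map W.subtype := by
  classical
  obtain ⟨L, hWL, hLP, M, z, x, ψ, hm, hM, hz, hzM, hx, hne⟩ := exists_witness P W hW h
  have hLp : IsPGroup p L := P.2.to_le hLP
  haveI hMn : M.Normal := CfsgLib.PGroups.normal_of_isCoatom hLp hM
  have hMi := CfsgLib.PGroups.index_eq_of_isCoatom hLp hM
  set W₀ := M.comap (Subgroup.inclusion hWL) with hW₀
  have hW₀top : W₀ ≠ ⊤ := fun e => hzM (by
    have h1 : (⟨z, hz⟩ : W) ∈ W₀ := e ▸ mem_top _
    exact h1)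
  haveI : W₀.Normal := hMn.comap _
  have hW₀i : W₀.index = p := by
    have hd : W₀.index ∣ p := by
      rw [hW₀, Subgroup.index_comap, ← hMi]
      exact relIndex_dvd_index_of_normal _ _
    exact ((Nat.dvd_prime hp.out).1 hd).resolve_left fun e => hW₀top (Subgroup.index_eq_one.1 e)
  have hW₀co : IsCoatom W₀ := CfsgLib.PGroups.isCoatom_of_index_eq_prime hW₀i
  have hwW : (((engel z)^[p - 1] x : L) : G) ∈ W := by
    have hLW : L ≤ normalizer (W : Set G) := fun s hs => mem_normalizer_iff_map_conj_eq.2 (hW.2 s (by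
      rintro _ ⟨y, hy, rfl⟩
      exact mul_mem (mul_mem (hLP hs) (hW.1 hy)) (inv_mem (hLP hs))))
    obtain ⟨n, hn⟩ : ∃ n, p - 1 = n + 1 := ⟨p - 2, by have := hp.out.two_le; omega⟩
    rw [hn, Function.iterate_succ_apply']
    set u := (engel z)^[n] x
    show (u : G)⁻¹ * (z : G)⁻¹ * (u : G) * (z : G) ∈ W
    refine mul_mem ?_ hz
    have := (mem_normalizer_iff.1 (hLW (inv_mem u.2)) _).1 (inv_mem hz)
    simpa [mul_assoc] using this
  refine ⟨x, hLP x.2, z, hz, W₀, hW₀co, ?_, ?_⟩
  · rw [← engel_iterate_coe]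
    exact ⟨⟨_, hwW⟩, hm, rfl⟩
  · rw [← engel_iterate_coe]
    rintro ⟨_, ⟨y, hy, rfl⟩, hy'⟩
    apply hne
    set inc : W₀ →* M := ((Subgroup.inclusion hWL).comp W₀.subtype).codRestrict M (fun y => y.2)
      with hinc
    have e : inc y = ⟨_, hm⟩ := Subtype.ext (Subtype.ext hy')
    rw [← e]
    show (ψ.comp inc) y = 1
    rcases eq_or_ne (ψ.comp inc).range ⊥ with hr | hr
    · rw [MonoidHom.range_eq_bot_iff] at hr
      rw [hr, MonoidHom.one_apply]
    · haveI : Fact (Nat.card (Multiplicative (ZMod p))).Prime := ⟨by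
        rw [Nat.card_congr Multiplicative.toAdd, Nat.card_zmod]; exact hp.out⟩
      have hsurj : Function.Surjective (ψ.comp inc) := MonoidHom.range_eq_top.1
        ((eq_bot_or_eq_top_of_prime_card (ψ.comp inc).range).resolve_left hr)
      have hco : IsCoatom (ψ.comp inc).ker := CfsgLib.PGroups.isCoatom_of_index_eq_prime (p := p) (by
        rw [Subgroup.index_ker, MonoidHom.range_eq_top.2 hsurj, Subgroup.card_top,
          Nat.card_congr Multiplicative.toAdd, Nat.card_zmod])
      exact MonoidHom.mem_ker.1 ((CfsgLib.PGroups.mem_frattini_iff.1 hy) _ hco)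

/-- A witness in a `p`-group gives `ℤ/p ≀ ℤ/p` as an image. -/
theorem exists_surjective_sylow_perm {K : Type*} [Group K] [Finite K] (hK : IsPGroup p K)
    {M : Subgroup K} (hM : IsCoatom M) (ψ : M →* Multiplicative (ZMod p)) {z x : K} (hzM : z ∉ M)
    (hx : x ∈ M) (hm : (engel z)^[p - 1] x ∈ M) (hne : ψ ⟨_, hm⟩ ≠ 1) :
    ∃ (P : Sylow p (Equiv.Perm (Fin (p ^ 2))))
      (f : K →* ↥(P : Subgroup (Equiv.Perm (Fin (p ^ 2))))), Function.Surjective f := by
  classical
  haveI hMn : M.Normal := CfsgLib.PGroups.normal_of_isCoatom hK hM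
  have hMi := CfsgLib.PGroups.index_eq_of_isCoatom hK hM
  set B := ψ.ker.map M.subtype with hB
  have hψsurj : Function.Surjective ψ := by
    haveI : Fact (Nat.card (Multiplicative (ZMod p))).Prime := ⟨by
      rw [Nat.card_congr Multiplicative.toAdd, Nat.card_zmod]; exact hp.out⟩
    refine MonoidHom.range_eq_top.1 ((eq_bot_or_eq_top_of_prime_card ψ.range).resolve_left fun h => ?_)
    exact hne (MonoidHom.mem_ker.1 ((MonoidHom.range_eq_bot_iff.1 h) ▸ rfl))
  have hBi : B.index = p ^ 2 := by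
    rw [hB, Subgroup.index_map_subtype, hMi, Subgroup.index_ker, MonoidHom.range_eq_top.2 hψsurj,
      Subgroup.card_top, Nat.card_congr Multiplicative.toAdd, Nat.card_zmod, pow_two]
  let e : K ⧸ B ≃ Fin (p ^ 2) := Nat.equivFinOfCardPos (by
    rw [← Subgroup.index_eq_card, hBi]; exact (pow_pos hp.out.pos 2).ne') |>.trans
      (finCongr (by rw [← Subgroup.index_eq_card, hBi]))
  let f : K →* Equiv.Perm (Fin (p ^ 2)) :=
    e.permCongrHom.toMonoidHom.comp (MulAction.toPermHom K (K ⧸ B))
  have hkerf : ∀ m, f m = 1 → ∀ g : K, m * g * g⁻¹ = m ∧ g⁻¹ * m * g ∈ B := by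
    intro m hm g
    refine ⟨by group, ?_⟩
    have h1 : MulAction.toPermHom K (K ⧸ B) m = 1 := e.permCongrHom.injective (by
      rw [map_one]; exact hm)
    have h2 := Equiv.Perm.congr_fun h1 (g : K ⧸ B)
    rw [MulAction.toPermHom_apply, MulAction.toPerm_apply, MulAction.Quotient.smul_coe, smul_eq_mul,
      Equiv.Perm.one_apply, QuotientGroup.eq] at h2
    have := B.inv_mem h2
    simpa [mul_assoc] using this
  -- the map `M → (ℤ/p)^p`
  have hzp : z ^ p ∈ M := by
    rw [← QuotientGroup.eq_one_iff, QuotientGroup.mk_pow, ← hMi, Subgroup.index_eq_card]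
    exact pow_card_eq_one'
  let F : M → ℕ → ZMod p := fun u i => (ψ ⟨_, mem_conj_pow z i u.2⟩).toAdd
  have hFd : ∀ u : M, fwdDiff 1 (F u) = F ⟨_, engel_mem z u.2⟩ := by
    intro u
    funext i
    have e : (⟨_, mem_conj_pow z i (engel_mem z u.2)⟩ : M) =
        ⟨_, mem_conj_pow z i u.2⟩⁻¹ * ⟨_, mem_conj_pow z (i + 1) u.2⟩ := Subtype.ext (by
      show (z ^ i)⁻¹ * ((u : K)⁻¹ * z⁻¹ * u * z) * z ^ i =
        ((z ^ i)⁻¹ * u * z ^ i)⁻¹ * ((z ^ (i + 1))⁻¹ * u * z ^ (i + 1))
      rw [show z ^ (i + 1) = z * z ^ i from pow_succ' z i]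
      group)
    simp only [fwdDiff, F]
    rw [e, map_mul, map_inv, toAdd_mul, toAdd_inv]
    abel
  have hper : ∀ (u : M) i, F u (i + p) = F u i := by
    intro u i
    have e : (⟨_, mem_conj_pow z (i + p) u.2⟩ : M) =
        ⟨z ^ p, hzp⟩⁻¹ * ⟨_, mem_conj_pow z i u.2⟩ * ⟨z ^ p, hzp⟩ := Subtype.ext (by
      show (z ^ (i + p))⁻¹ * (u : K) * z ^ (i + p) = (z ^ p)⁻¹ * ((z ^ i)⁻¹ * u * z ^ i) * z ^ p
      rw [pow_add]; group)
    simp only [F]
    simp only [e, map_mul, map_inv, toAdd_mul, toAdd_inv]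
    abel
  let Ψ : M →* Multiplicative (Fin p → ZMod p) :=
    { toFun := fun u => Multiplicative.ofAdd fun i => F u i
      map_one' := by
        refine congrArg Multiplicative.ofAdd (funext fun i => ?_)
        simp only [F]
        rw [show (⟨_, mem_conj_pow z i (1 : M).2⟩ : M) = 1 from Subtype.ext (by simp), map_one,
          toAdd_one]
        rfl
      map_mul' := fun u v => by
        refine congrArg Multiplicative.ofAdd (funext fun i => ?_)
        simp only [F]
        rw [show (⟨_, mem_conj_pow z i (u * v : M).2⟩ : M) =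
          ⟨_, mem_conj_pow z i u.2⟩ * ⟨_, mem_conj_pow z i v.2⟩ from Subtype.ext (by
            show (z ^ (i : ℕ))⁻¹ * ((u : K) * v) * z ^ (i : ℕ) =
              (z ^ (i : ℕ))⁻¹ * u * z ^ (i : ℕ) * ((z ^ (i : ℕ))⁻¹ * v * z ^ (i : ℕ))
            group), map_mul, toAdd_mul]
        rfl }
  -- the vectors `Ψ [x, z; j]` are a basis
  let w : ℕ → M := fun j => ⟨_, engel_iterate_mem z j hx⟩
  have hw : ∀ j k, (fwdDiff 1)^[k] (F (w j)) = F (w (j + k)) := by
    intro j k
    induction k with
    | zero => rfl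
    | succ k ih =>
      rw [Function.iterate_succ_apply', ih, hFd]
      exact congrArg F (Subtype.ext (Function.iterate_succ_apply' (engel z) (j + k) x).symm)
  have htopne : F (w (p - 1)) 0 ≠ 0 := by
    intro h
    refine hne (Multiplicative.toAdd.injective ?_)
    rw [toAdd_one, ← h]
    exact congrArg (fun u : M => (ψ u).toAdd) (Subtype.ext (by simp [w]))
  have hzero : ∀ n, p - 1 < n → ∀ i, F (w n) i = 0 := by
    intro n hn i
    obtain ⟨k, rfl⟩ : ∃ k, n = k + p := ⟨n - p, by omega⟩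
    rw [← hw k p, fwdDiff_iter_eq_sum_shift, Finset.sum_range_succ, ← Finset.sum_subset
      (s₁ := {0}) (s₂ := Finset.range p) (by simp [hp.out.pos]) (fun j hj hj0 => by
        rw [Finset.mem_range] at hj
        rw [Finset.mem_singleton] at hj0
        have : ((p.choose j : ℕ) : ZMod p) = 0 :=
          (ZMod.natCast_eq_zero_iff _ p).2 (hp.out.dvd_choose_self hj0 hj)
        simp [zsmul_eq_mul, this]), Finset.sum_singleton]
    simp only [Nat.choose_zero_right, Nat.choose_self, Nat.sub_zero, Nat.sub_self, pow_zero,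
      Nat.cast_one, mul_one, one_smul, zero_smul, one_mul, add_zero, smul_eq_mul, mul_one]
    rw [hper, zsmul_eq_mul, Int.cast_pow, Int.cast_neg, Int.cast_one]
    have h1 : p - 1 + 1 = p := by have := hp.out.pos; omega
    have h2 : (-1 : ZMod p) ^ (p - 1) = 1 := by
      rw [← zmod_choose_pred (p - 1) le_rfl, Nat.choose_self, Nat.cast_one]
    have h3 : (-1 : ZMod p) ^ p = -1 := by
      calc (-1 : ZMod p) ^ p = (-1) ^ (p - 1 + 1) := by rw [h1]
        _ = -1 := by rw [pow_succ, h2, one_mul]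
    rw [h3]
    ring
  have hind : LinearIndependent (ZMod p) fun (j : Fin p) (i : Fin p) => F (w j) i := by
    rw [Fintype.linearIndependent_iff]
    intro c hc
    by_contra hcon
    push Not at hcon
    obtain ⟨j₀, hj₀, hmin⟩ := Finset.exists_min_image
      (Finset.univ.filter fun j => c j ≠ 0) id (by simpa [Finset.Nonempty] using hcon)
    rw [Finset.mem_filter] at hj₀
    have hfull : ∀ i : ℕ, ∑ j, c j * F (w j) i = 0 := by
      intro i
      induction i using Nat.strong_induction_on with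
      | _ i ih =>
        by_cases hi : i < p
        · simpa using congrFun hc ⟨i, hi⟩
        · obtain ⟨i', rfl⟩ : ∃ i', i = i' + p := ⟨i - p, by omega⟩
          simp only [hper]
          exact ih i' (by have := hp.out.pos; omega)
    have hk : ∀ k i, ∑ j, c j * F (w (j + k)) i = 0 := by
      intro k
      induction k with
      | zero => exact hfull
      | succ k ih =>
        intro i
        have e : ∀ j : ℕ, F (w (j + (k + 1))) i = F (w (j + k)) (i + 1) - F (w (j + k)) i := by
          intro j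
          rw [show j + (k + 1) = j + k + 1 by omega, ← hw (j + k) 1]
          rfl
        simp only [e, mul_sub, Finset.sum_sub_distrib, ih, sub_zero]
    have h := hk (p - 1 - j₀) 0
    rw [Finset.sum_eq_single j₀ (fun j _ hj => ?_) (fun h => absurd (Finset.mem_univ _) h)] at h
    · rw [show (j₀ : ℕ) + (p - 1 - j₀) = p - 1 by have := j₀.2; omega] at h
      exact (mul_ne_zero hj₀.2 htopne) h
    · by_cases hcj : c j = 0
      · rw [hcj, zero_mul]
      · have h1 := hmin j (Finset.mem_filter.2 ⟨Finset.mem_univ _, hcj⟩)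
        have h2 : (j₀ : ℕ) < j := lt_of_le_of_ne h1 fun e => hj (Fin.ext e.symm)
        rw [hzero _ (by omega), mul_zero]
  have hΨ : Function.Surjective Ψ := by
    intro y
    have hspan : Multiplicative.toAdd y ∈ Submodule.span (ZMod p)
        (Set.range fun (j : Fin p) (i : Fin p) => F (w j) i) := by
      rw [hind.span_eq_top_of_card_eq_finrank (by simp)]
      exact Submodule.mem_top
    suffices ∀ v ∈ Submodule.span (ZMod p) (Set.range fun (j : Fin p) (i : Fin p) => F (w j) i),
        ∃ u, (Ψ u).toAdd = v by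
      obtain ⟨u, hu⟩ := this _ hspan
      exact ⟨u, Multiplicative.toAdd.injective hu⟩
    intro v hv
    induction hv using Submodule.span_induction with
    | mem v hv => obtain ⟨j, rfl⟩ := hv; exact ⟨w j, rfl⟩
    | zero => exact ⟨1, by rw [map_one, toAdd_one]⟩
    | add a b _ _ ha hb =>
      obtain ⟨u, rfl⟩ := ha
      obtain ⟨u', rfl⟩ := hb
      exact ⟨u * u', by rw [map_mul, toAdd_mul]⟩
    | smul c a _ ha =>
      obtain ⟨u, rfl⟩ := ha
      exact ⟨u ^ c.val, by rw [map_pow, toAdd_pow, ← Nat.cast_smul_eq_nsmul (ZMod p),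
        ZMod.natCast_zmod_val]⟩
  -- the image has order at least `p ^ (p + 1)`
  have hkerle : (f.comp M.subtype).ker ≤ Ψ.ker := by
    intro m hm
    refine MonoidHom.mem_ker.2 (Multiplicative.toAdd.injective (funext fun i => ?_))
    obtain ⟨b, hb, hbe⟩ := (hkerf m (MonoidHom.mem_ker.1 hm) (z ^ (i : ℕ))).2
    show F m i = 0
    simp only [F]
    rw [show (⟨_, mem_conj_pow z i m.2⟩ : M) = b from Subtype.ext hbe.symm, MonoidHom.mem_ker.1 hb,
      toAdd_one]
  have hcardM : p ^ p ≤ Nat.card (M.map f) := by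
    have h1 : Nat.card (M.map f) = (f.comp M.subtype).ker.index := by
      rw [Subgroup.index_ker, MonoidHom.range_comp, Subgroup.range_subtype]
    have h2 : Ψ.ker.index = p ^ p := by
      rw [Subgroup.index_ker, MonoidHom.range_eq_top.2 hΨ, Subgroup.card_top,
        Nat.card_congr Multiplicative.toAdd, Nat.card_fun, Nat.card_zmod, Nat.card_fin]
    rw [h1, ← h2]
    exact Nat.le_of_dvd (Nat.pos_of_ne_zero Subgroup.index_ne_zero_of_finite)
      (Subgroup.index_dvd_of_le hkerle)
  have hlt : M.map f < f.range := by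
    refine lt_of_le_of_ne (Subgroup.map_le_range f M) fun he => ?_
    obtain ⟨m, hmM, hm⟩ := he.ge ⟨z, rfl⟩
    have h1 : f (m⁻¹ * z) = 1 := by rw [map_mul, map_inv, hm, inv_mul_cancel]
    obtain ⟨b, -, hb⟩ := (hkerf _ h1 1).2
    refine hzM ?_
    have h2 : m⁻¹ * z ∈ M := by
      have : (b : K) = m⁻¹ * z := by simpa using hb
      rw [← this]
      exact b.2
    simpa using mul_mem hmM h2
  have hrp : IsPGroup p f.range := by
    rw [MonoidHom.range_eq_map]
    exact (hK.to_subgroup ⊤).map f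
  obtain ⟨P, hP⟩ := hrp.exists_le_sylow
  have hcardP : Nat.card (P : Subgroup (Equiv.Perm (Fin (p ^ 2)))) = p ^ (p + 1) := by
    rw [Sylow.card_eq_multiplicity, Nat.card_perm, Nat.card_fin]
    congr 1
    rw [Nat.factorization_factorial hp.out (b := 3) ?_]
    · rw [show Finset.Ico 1 3 = {1, 2} by decide, Finset.sum_pair (by norm_num), pow_one,
        Nat.div_self (pow_pos hp.out.pos 2), pow_two, Nat.mul_div_cancel _ hp.out.pos]
    · calc Nat.log p (p ^ 2) = 2 := Nat.log_pow hp.out.one_lt 2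
        _ < 3 := by norm_num
  have hle : Nat.card (P : Subgroup (Equiv.Perm (Fin (p ^ 2)))) ≤ Nat.card f.range := by
    obtain ⟨n, hn⟩ := IsPGroup.iff_card.1 hrp
    have h1 : Nat.card (M.map f) < Nat.card f.range := by
      refine lt_of_le_of_ne (Subgroup.card_le_of_le hlt.le) fun e => hlt.ne
        (Subgroup.eq_of_le_of_card_ge hlt.le e.ge)
    rw [hcardP, hn]
    refine Nat.pow_le_pow_right hp.out.pos ?_
    by_contra hnp
    have : p ^ n ≤ p ^ p := Nat.pow_le_pow_right hp.out.pos (by omega)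
    omega
  have heq := Subgroup.eq_of_le_of_card_ge hP hle
  exact ⟨P, f.codRestrict _ fun k => hP ⟨k, rfl⟩, fun ⟨y, hy⟩ => by
    obtain ⟨k, rfl⟩ := heq.ge hy
    exact ⟨k, rfl⟩⟩

/-- Yoshida: `ℤ/p ≀ ℤ/p` is an image of a Sylow subgroup when its normalizer fails to control
transfer. -/
theorem exists_wreath_image (P : Sylow p G)
    (h : (P : Subgroup G) ⊓ commutator G ≠ (P : Subgroup G) ⊓
      ⁅normalizer ((P : Subgroup G) : Set G), normalizer ((P : Subgroup G) : Set G)⁆) :
    ∃ (R : Sylow p (Equiv.Perm (Fin (p ^ 2))))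
      (f : ↥(P : Subgroup G) →* ↥(R : Subgroup (Equiv.Perm (Fin (p ^ 2))))), Function.Surjective f := by
  have hW : IsWeaklyClosed (P : Subgroup G) (P : Subgroup G) := ⟨le_rfl, fun g hg =>
    Subgroup.eq_of_le_of_card_ge hg
      (Nat.card_congr (equivMapOfInjective _ _ (MulAut.conj g).injective).toEquiv).le⟩
  obtain ⟨L, hWL, hLP, M, z, x, ψ, hm, hM, -, hzM, hx, hne⟩ := exists_witness P _ hW h
  obtain rfl : L = (P : Subgroup G) := le_antisymm hLP hWL
  exact exists_surjective_sylow_perm P.2 hM ψ hzM hx hm hne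

end CfsgLib.Transfer
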