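import Cfsg.Agent.Lib.PLocal.ZJ
import Cfsg.Agent.Lib.Transfer.MinimalConfig
import Cfsg.Agent.Lib.Transfer.ThompsonComplement
import Cfsg.Agent.Lib.Transfer.StronglyClosed

/-!
# Glauberman's ZJ-theorem for the elementary abelian Thompson subgroup
-/

set_option autoImplicit false
set_option linter.style.haveILetI false

open Subgroup Cfsg CfsgLib.PLocal
open scoped commutatorElement

universe u

namespace CfsgLib.Transfer

variable {G : Type u} [Group G] {p : ℕ}

/-- `⁅B, B⁆` is central in `B`. -/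
def ClassTwo (B : Subgroup G) : Prop :=
  ∀ u ∈ B, ∀ v ∈ B, ∀ w ∈ B, Commute ⁅u, v⁆ w

theorem ClassTwo.commutator_pow {B : Subgroup G} (h : ClassTwo B) {u v : G} (hu : u ∈ B)
    (hv : v ∈ B) (n : ℕ) : ⁅v ^ n, u⁆ = ⁅v, u⁆ ^ n := by
  induction n with
  | zero => simp [commutatorElement_one_left]
  | succ n ih =>
    have e : ⁅v ^ (n + 1), u⁆ = v * ⁅v ^ n, u⁆ * v⁻¹ * ⁅v, u⁆ := by
      rw [pow_succ']; group
    rw [e, ih, ← ((h v hv u hu v hv).pow_left n).eq, mul_inv_cancel_right, pow_succ]

theorem ClassTwo.mul_pow_odd {B : Subgroup G} (h : ClassTwo B) {u v : G} (hu : u ∈ B) (hv : v ∈ B)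
    {n : ℕ} (hn : Odd n) (hc : ⁅v, u⁆ ^ n = 1) : (u * v) ^ n = u ^ n * v ^ n := by
  rw [mul_pow_of_class_two (h v hv u hu u hu) (h v hv u hu v hv) n]
  obtain ⟨k, hk⟩ := odd_dvd_choose_two hn
  rw [hk, pow_mul, hc, one_pow, mul_one]

theorem ClassTwo.pow_eq_one {B : Subgroup G} (h : ClassTwo B) (hp : Odd p) :
    ∀ x ∈ omegaOne p B, x ^ p = 1 := by
  suffices hall : ∀ x ∈ omegaOne p B, x ∈ B ∧ x ^ p = 1 from fun x hx => (hall x hx).2
  intro x hx
  induction hx using closure_induction with
  | mem x hx => exact hx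
  | one => exact ⟨B.one_mem, one_pow p⟩
  | mul u v _ _ ihu ihv =>
    refine ⟨B.mul_mem ihu.1 ihv.1, ?_⟩
    rw [h.mul_pow_odd ihu.1 ihv.1 hp
      (by rw [← h.commutator_pow ihu.1 ihv.1, ihv.2, commutatorElement_one_left]), ihu.2, ihv.2,
      one_mul]
  | inv u _ ih => exact ⟨B.inv_mem ih.1, by rw [inv_pow, ih.2, inv_one]⟩

/-- A `p'`-element fixing `Ω₁(B)`, `B` a `p`-group of class at most two, fixes `B`. -/
theorem ClassTwo.mem_centralizer_of_omegaOne [hp : Fact p.Prime] [Finite G] (hp2 : p ≠ 2)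
    {B : Subgroup G} [B.Normal] (h : ClassTwo B) (hB : IsPGroup p B) {d : G}
    (hd : Nat.Coprime (orderOf d) p) (hfix : d ∈ centralizer (omegaOne p B : Set G)) :
    d ∈ centralizer (B : Set G) := by
  suffices key : ∀ (k : ℕ) (v : G), v ∈ B → v ^ p ^ k = 1 → d * v * d⁻¹ = v by
    rw [mem_centralizer_iff]
    intro v hv
    obtain ⟨k, hk⟩ := hB ⟨v, hv⟩
    exact (mul_inv_eq_iff_eq_mul.mp (key k v hv (congrArg Subtype.val hk))).symm
  intro k
  induction k with
  | zero =>
    intro v _ hv
    rw [pow_zero, pow_one] at hv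
    simp [hv]
  | succ k ih =>
    intro v hv hvk
    have h1 : d * v ^ p * d⁻¹ = v ^ p := ih _ (pow_mem hv p) (by rwa [← pow_mul, ← pow_succ'])
    have hdv : d * v * d⁻¹ ∈ B := (inferInstance : B.Normal).conj_mem v hv d
    have hw : ⁅d, v⁆ ∈ B := mul_mem hdv (inv_mem hv)
    have hc : ⁅v, ⁅d, v⁆⁆ ^ p = 1 := by
      rw [← h.commutator_pow hw hv]
      have e : ⁅v ^ p, ⁅d, v⁆⁆ = (v ^ p * (d * v * d⁻¹) * (v ^ p)⁻¹) * (d * v * d⁻¹)⁻¹ := by
        have hcv : v⁻¹ * (v ^ p)⁻¹ = (v ^ p)⁻¹ * v⁻¹ :=
          ((Commute.refl v).pow_right p).inv_inv.eq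
        calc ⁅v ^ p, ⁅d, v⁆⁆ = v ^ p * (d * v * d⁻¹) * (v⁻¹ * (v ^ p)⁻¹) * v * (d * v * d⁻¹)⁻¹ := by
              simp only [commutatorElement_def]; group
          _ = _ := by rw [hcv]; group
      rw [e]
      nth_rw 1 2 [← h1]
      group
    have h2 : (⁅d, v⁆ * v) ^ p = ⁅d, v⁆ ^ p * v ^ p :=
      h.mul_pow_odd hw hv ((Fact.out : p.Prime).odd_of_ne_two hp2) hc
    have hwp : ⁅d, v⁆ ^ p = 1 := by
      rw [show ⁅d, v⁆ * v = d * v * d⁻¹ by group, conj_pow, h1] at h2
      exact mul_eq_right.mp h2.symm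
    have hwfix : d * ⁅d, v⁆ * d⁻¹ = ⁅d, v⁆ :=
      mul_inv_eq_iff_eq_mul.mpr (mem_centralizer_iff.mp hfix _ (mem_omegaOne hw hwp)).symm
    have h3 : ⁅d, v⁆ = 1 := eq_one_of_conj_eq_mul hd ⟨1, by rwa [pow_one]⟩ hwfix
      (show d * v * d⁻¹ = ⁅d, v⁆ * v by rw [commutatorElement_def]; group)
    rw [commutatorElement_def, mul_inv_eq_one] at h3
    exact h3

theorem centerThompsonOf_le_normalizer (R : Subgroup G) :
    normalizer (R : Set G) ≤ normalizer (centerThompsonOf p R : Set G) :=
  (normalizer_le_normalizer_thompsonSubgroupOf R).trans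
    (normalizer_le_normalizer_inf_centralizer _)

theorem centerThompsonOf_le (R : Subgroup G) : centerThompsonOf p R ≤ R :=
  inf_le_left.trans (thompsonSubgroupOf_le p R)

/-- The core step: `Z(J(S)) ⊓ B` is normal for every normal `p`-subgroup `B`. -/
theorem centerThompsonOf_inf_normal [Finite G] [Fact p.Prime] (hp : p ≠ 2)
    (hst : QuadStable p G) (S : Sylow p G) {D₀ : Subgroup G}
    (hD₀ : IsStronglyClosed D₀ (S : Subgroup G)) :
    ∀ n : ℕ, ∀ (B : Subgroup G) [B.Normal], Nat.card B = n → IsPGroup p B →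
      (centerThompsonOf p D₀ ⊓ B).Normal := by
  intro n
  induction n using Nat.strong_induction_on with
  | _ n ih =>
  intro B _ hn hB
  set Z := centerThompsonOf p D₀ with hZdef
  set T := Z ⊓ B with hTdef
  have hBS : B ≤ (S : Subgroup G) := hB.le_sylow_of_normal S
  have hSZ : (S : Subgroup G) ≤ normalizer (Z : Set G) :=
    (stronglyClosed_le_normalizer hD₀).trans (centerThompsonOf_le_normalizer _)
  by_cases hB0 : B = ⊥
  · rw [hTdef, hB0, inf_bot_eq]; infer_instance
  by_cases hcl : normalClosure (T : Set G) < B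
  swap
  · have hcl' : normalClosure (T : Set G) = B :=
      eq_of_le_of_not_lt (normalClosure_le_normal inf_le_right) hcl
    have hlt : ⁅B, B⁆ < B := by
      haveI : Nontrivial B := (nontrivial_iff_ne_bot B).2 hB0
      haveI : Group.IsNilpotent B := hB.isNilpotent
      refine lt_of_le_of_ne (commutator_le_self B) fun hEq => ?_
      have h2 : ⁅(⊤ : Subgroup B), (⊤ : Subgroup B)⁆ = (⊤ : Subgroup B) := by
        refine map_injective B.subtype_injective ?_
        rw [map_commutator, ← MonoidHom.range_eq_map, range_subtype, hEq]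
      exact (Group.IsSolvable.commutator_lt_top_of_nontrivial (G := B)).ne h2
    have hW : (Z ⊓ ⁅B, B⁆).Normal :=
      ih _ (hn ▸ card_lt_of_lt hlt) _ rfl (hB.to_le (commutator_le_self B))
    have hB'Z : ⁅B, B⁆ ≤ Z := by
      set W := Z ⊓ ⁅B, B⁆
      haveI : W.Normal := hW
      have hK : T ≤ (centralizer ((B.map (QuotientGroup.mk' W) : Subgroup (G ⧸ W)) : Set (G ⧸ W))).comap
          (QuotientGroup.mk' W) := by
        intro t ht
        refine mem_centralizer_iff.2 ?_
        rintro _ ⟨b, hb, rfl⟩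
        rw [← commutatorElement_eq_one_iff_mul_comm, ← map_commutatorElement,
          QuotientGroup.mk'_apply, QuotientGroup.eq_one_iff]
        refine mem_inf.2 ⟨?_, commutator_mem_commutator hb (mem_inf.1 ht).2⟩
        have e1 : ⁅b, t⁆ = (b * t * b⁻¹) * t⁻¹ := by group
        rw [e1]
        exact mul_mem ((mem_normalizer_iff.1 (hSZ (hBS hb)) t).1 (mem_inf.1 ht).1)
          (inv_mem (mem_inf.1 ht).1)
      haveI : (B.map (QuotientGroup.mk' W)).Normal :=
        Normal.map ‹B.Normal› _ (QuotientGroup.mk'_surjective _)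
      have hK' := normalClosure_le_normal (N := (centralizer ((B.map (QuotientGroup.mk' W)
        : Subgroup (G ⧸ W)) : Set (G ⧸ W))).comap (QuotientGroup.mk' W)) hK
      rw [hcl'] at hK'
      refine le_trans (?_ : ⁅B, B⁆ ≤ W) inf_le_left
      rw [← CfsgLib.Base.map_mk'_eq_bot_iff, map_commutator, commutator_eq_bot_iff_le_centralizer]
      exact map_le_iff_le_comap.2 hK'
    have hZc : ∀ x ∈ Z, ∀ y ∈ Z, x * y = y * x := fun x hx y hy =>
      mem_centralizer_iff.mp hy.2 x hx.1
    have hclass : ClassTwo B := by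
      have h1 : B ≤ centralizer ((⁅B, B⁆ : Subgroup G) : Set G) := by
        calc B = normalClosure (T : Set G) := hcl'.symm
          _ ≤ _ := normalClosure_le_normal fun t ht => mem_centralizer_iff.mpr fun y hy =>
            hZc y (hB'Z hy) t (mem_inf.1 ht).1
      exact fun u hu v hv w hw => mem_centralizer_iff.mp (h1 hw) _ (commutator_mem_commutator hu hv)
    have hpodd : Odd p := (Fact.out : p.Prime).odd_of_ne_two hp
    set B₁ := omegaOne p B with hB₁def
    haveI hB₁n : B₁.Normal := omegaOne_normal ‹B.Normal›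
    have hB₁B : B₁ ≤ B := omegaOne_le p B
    have hB₁ : IsPGroup p B₁ := hB.to_le hB₁B
    have hB₁S : B₁ ≤ (S : Subgroup G) := hB₁B.trans hBS
    have hTD : T ≤ D₀ := inf_le_left.trans (centerThompsonOf_le D₀)
    have hBD : B ≤ D₀ := by
      have h1 : Group.conjugatesOfSet (T : Set G) ⊆ (D₀ : Set G) := by
        intro y hy
        obtain ⟨t, ht, hty⟩ := Group.mem_conjugatesOfSet_iff.mp hy
        obtain ⟨c, rfl⟩ := isConj_iff.mp hty
        exact hD₀.2 t (hTD ht) c (hBS ((‹B.Normal›).conj_mem t (mem_inf.1 ht).2 c))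
      exact hcl' ▸ (closure_le D₀).mpr h1
    set N := normalizer (T : Set G) with hNdef
    set L := N.normalCore with hLdef
    haveI : L.Normal := normalCore_normal N
    have hSN : (S : Subgroup G) ≤ N := by
      refine le_trans ?_ (normalizer_inf_le _ _)
      exact le_inf hSZ (by rw [normalizer_eq_top]; exact le_top)
    have hCN : centralizer (B : Set G) ≤ N := by
      intro c hc
      refine mem_normalizer_iff.2 fun t => ?_
      constructor
      · intro ht
        rwa [← mem_centralizer_iff.1 hc t (mem_inf.1 ht).2, mul_inv_cancel_right]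
      · intro ht
        have h1 := mem_centralizer_iff.1 hc _ (mem_inf.1 ht).2
        have h2 : c * t * c⁻¹ = t := by
          calc c * t * c⁻¹ = c⁻¹ * (c * (c * t * c⁻¹)) := by group
            _ = c⁻¹ * ((c * t * c⁻¹) * c) := by rw [← h1]
            _ = _ := by group
        rwa [h2] at ht
    set SL := D₀ ⊓ L with hSL
    by_cases hall : ∀ A ∈ maxEAOf p D₀, A ≤ L
    · have hJ : thompsonSubgroupOf p D₀ ≤ SL := by
        rw [thompsonSubgroupOf_eq_sSup]
        exact sSup_le fun A hA => le_inf hA.1 (hall A hA)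
      have hZeq : Z = centerThompsonOf p SL := by
        rw [hZdef, centerThompsonOf, centerThompsonOf,
          thompsonSubgroupOf_eq_of_le hJ inf_le_left]
      refine normalizer_eq_top_iff.1 (top_le_iff.1 fun g _ => ?_)
      obtain ⟨l, hl, m, hm, rfl⟩ := exists_mul_normalizer S L g
      replace hm := stronglyClosed_normalizer_inf hD₀ inf_le_left hm
      rw [← inf_assoc, inf_eq_left.mpr hD₀.1] at hm
      refine mul_mem (N.normalCore_le hl) (normalizer_inf_le _ _ (mem_inf.2 ⟨?_, ?_⟩))
      · exact hZeq ▸ centerThompsonOf_le_normalizer SL hm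
      · rw [normalizer_eq_top]; exact mem_top m
    exfalso
    push Not at hall
    obtain ⟨U, hU, hUL⟩ := hall
    obtain ⟨A, ⟨hA, hAL⟩, hmax⟩ := Set.exists_max_image
      {A : Subgroup G | A ∈ maxEAOf p D₀ ∧ ¬ A ≤ L}
      (fun A => Nat.card ↥(A ⊓ B₁)) (Set.toFinite _) ⟨U, hU, hUL⟩
    by_cases hBN : B₁ ≤ normalizer (A : Set G)
    · -- quadratic action
      refine hAL ((quadratic_le hst hB₁ (S.2.to_le (hA.1.trans hD₀.1)) hA.2.1.1 hBN).trans ?_)
      set C₁ := centralizer (B₁ : Set G) with hC₁def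
      set D := (pCore p (G ⧸ C₁)).comap (QuotientGroup.mk' C₁) with hDdef
      haveI : D.Normal := (pCore_normal p (G ⧸ C₁)).comap _
      set C := centralizer (B : Set G) with hCdef
      have hCD : C ≤ D :=
        (Subgroup.centralizer_le hB₁B).trans (QuotientGroup.le_comap_mk' C₁ _)
      have hDC : IsPGroup p (D.map (QuotientGroup.mk' C)) := by
        rintro ⟨_, x, hx, rfl⟩
        obtain ⟨c, -, d, hd', hcd, ⟨j, hj⟩, hdp⟩ := exists_pPart_mul (p := p) x
        have hdC₁ : d ∈ C₁ := by
          refine (QuotientGroup.eq_one_iff d).mp ?_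
          have hdD : (QuotientGroup.mk' C₁) d ∈ pCore p (G ⧸ C₁) := zpowers_le.mpr hx hd'
          have := eq_one_of_coprime_orderOf (CfsgLib.Base.isPGroup_pCore p (G ⧸ C₁))
            (x := (⟨_, hdD⟩ : pCore p (G ⧸ C₁)))
            (by rw [orderOf_mk]; exact Nat.Coprime.coprime_dvd_left (orderOf_map_dvd _ d) hdp)
          exact congrArg Subtype.val this
        have hdC : (QuotientGroup.mk' C) d = 1 :=
          (QuotientGroup.eq_one_iff d).mpr (hclass.mem_centralizer_of_omegaOne hp hB hdp hdC₁)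
        refine ⟨j, Subtype.ext ?_⟩
        rw [SubmonoidClass.coe_pow, OneMemClass.coe_one]
        change (QuotientGroup.mk' C x) ^ p ^ j = 1
        rw [← hcd, map_mul, hdC, mul_one, ← map_pow, orderOf_dvd_iff_pow_eq_one.mp hj, map_one]
      obtain ⟨k, hk⟩ := IsPGroup.iff_card.mp hDC
      rw [card_map_mk'_eq_relIndex] at hk
      refine normal_le_normalCore.2 ?_
      rw [← eq_sup_sylow_inf S hCD hk]
      exact sup_le hCN (inf_le_left.trans hSN)
    -- replacement inside `S`
    set AS := A.subgroupOf (S : Subgroup G) with hASdef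
    set BS := B₁.subgroupOf (S : Subgroup G) with hBSdef
    have hAmap : AS.map (S : Subgroup G).subtype = A := map_subgroupOf_eq_of_le (hA.1.trans hD₀.1)
    have hBmap : BS.map (S : Subgroup G).subtype = B₁ := map_subgroupOf_eq_of_le hB₁S
    have hAS : IsElementaryAbelian p AS :=
      (isElementaryAbelian_map_iff (S : Subgroup G).subtype_injective).1 (hAmap.symm ▸ hA.2.1)
    haveI : BS.Normal := inferInstance
    have hB'A : ⁅BS, BS⁆ ≤ AS := by
      rw [← map_le_map_iff_of_injective (f := (S : Subgroup G).subtype) (S : Subgroup G).subtype_injective,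
        map_commutator, hBmap, hAmap, Subgroup.commutator_le]
      intro u hu v hv
      have hz : ⁅u, v⁆ ∈ Z := hB'Z (commutator_mem_commutator (hB₁B hu) (hB₁B hv))
      refine mem_of_max_of_commute hA (hBD (commutator_le_self B
        (commutator_mem_commutator (hB₁B hu) (hB₁B hv)))) ?_ fun a ha =>
          mem_centralizer_iff.mp hz.2 a (le_thompsonSubgroupOf hA ha)
      rw [← hclass.commutator_pow (hB₁B hv) (hB₁B hu), hclass.pow_eq_one hpodd u hu,
        commutatorElement_one_left]
    have hnot : ¬ BS ≤ normalizer (AS : Set (S : Subgroup G)) := by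
      intro h
      refine hBN ?_
      rw [← hBmap, ← hAmap]
      exact (map_mono h).trans (le_normalizer_map _)
    obtain ⟨b, hb, hbN, hbA⟩ := exists_mem_normalizer_normalizer S.2 BS AS hnot
    have F := replaceFacts S.2 (fun h => absurd h hp) hAS.1 hB'A hb hbN hbA
    set R := (replaced AS b).map (S : Subgroup G).subtype with hRdef
    have hR : R ∈ maxEAOf p D₀ := by
      have hDn : (D₀.subgroupOf (S : Subgroup G)).Normal :=
        normal_subgroupOf_of_le_normalizer (stronglyClosed_le_normalizer hD₀)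
      have hRD := map_mono (f := (S : Subgroup G).subtype)
        (F.le_normal _ hDn (comap_mono hA.1))
      rw [map_subgroupOf_eq_of_le hD₀.1] at hRD
      refine ⟨hRD, (isElementaryAbelian_map_iff (S : Subgroup G).subtype_injective).2
        ⟨F.comm, F.exponent p (Or.inl hpodd) hAS.2⟩, fun C hC hCe => ?_⟩
      rw [hRdef, card_map_subtype', F.card_eq, ← card_map_subtype', hAmap]
      exact hA.2.2 C hC hCe
    have hlt1 : A ⊓ B₁ < R ⊓ B₁ := by
      rw [← hBmap, ← hAmap, hRdef, ← map_inf _ _ _ (S : Subgroup G).subtype_injective,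
        ← map_inf _ _ _ (S : Subgroup G).subtype_injective]
      exact (map_lt_map_iff_of_injective (S : Subgroup G).subtype_injective).2 F.inf_lt
    have hRL : R ≤ L := by
      by_contra hRL
      exact absurd (hmax R ⟨hR, hRL⟩) (Nat.not_le.2 (card_lt_of_lt hlt1))
    have hRSL : R ∈ maxEAOf p SL := by
      rw [maxEAOf_mono inf_le_left hR (le_inf hR.1 hRL)]
      exact ⟨hR, le_inf hR.1 hRL⟩
    have hJL : thompsonSubgroupOf p SL ≤ thompsonSubgroupOf p D₀ := by
      rw [thompsonSubgroupOf_eq_sSup p SL, maxEAOf_mono inf_le_left hR (le_inf hR.1 hRL)]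
      exact sSup_le fun C hC => le_thompsonSubgroupOf hC.1
    set X := B ⊓ centralizer (thompsonSubgroupOf p SL : Set G) with hXdef
    have hXn : normalizer (SL : Set G) ≤ normalizer (X : Set G) := fun m hm =>
      normalizer_inf_le _ _ (mem_inf.2 ⟨by rw [normalizer_eq_top]; exact mem_top m,
        normalizer_le_centralizer_normalizer _ (normalizer_le_normalizer_thompsonSubgroupOf SL hm)⟩)
    have hTX : T ≤ X := fun t ht =>
      ⟨(mem_inf.1 ht).2, Subgroup.centralizer_le hJL (mem_inf.1 ht).1.2⟩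
    have hT : T ≤ X.normalCore := by
      intro t ht g
      show g * t * g⁻¹ ∈ X
      obtain ⟨l, hl, m, hm, he'⟩ := exists_mul_normalizer S L g⁻¹
      replace hm := stronglyClosed_normalizer_inf hD₀ inf_le_left hm
      rw [← inf_assoc, inf_eq_left.mpr hD₀.1] at hm
      have e1 : g * t * g⁻¹ = m⁻¹ * (l⁻¹ * t * l) * m⁻¹⁻¹ := by
        rw [← inv_inv g, he']; group
      rw [e1]
      refine (mem_normalizer_iff.1 (hXn (inv_mem hm)) _).1 (hTX ?_)
      have h1 := (mem_normalizer_iff.1 (N.normalCore_le (inv_mem hl)) t).1 ht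
      simpa using h1
    have hBX : B ≤ X := by
      calc B = normalClosure (T : Set G) := hcl'.symm
        _ ≤ X.normalCore := normalClosure_le_normal hT
        _ ≤ _ := normalCore_le _
    have hBR : B₁ ≤ R := fun x hx => mem_of_max_of_commute hR (hBD (hB₁B hx))
      (hclass.pow_eq_one hpodd x hx) fun a ha =>
        mem_centralizer_iff.mp (hBX (hB₁B hx)).2 a (le_thompsonSubgroupOf hRSL ha)
    refine F.inf_lt_B.ne (map_injective (S : Subgroup G).subtype_injective ?_)
    rw [map_inf _ _ _ (S : Subgroup G).subtype_injective, hBmap, ← hRdef]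
    exact inf_eq_right.2 hBR
  · have h := ih _ (hn ▸ card_lt_of_lt hcl) (normalClosure (T : Set G)) rfl (hB.to_le hcl.le)
    have e1 : Z ⊓ normalClosure (T : Set G) = T :=
      le_antisymm (le_inf inf_le_left (inf_le_right.trans hcl.le))
        (le_inf inf_le_left le_normalClosure)
    rwa [e1] at h

/-- Glauberman's ZJ-theorem for the elementary abelian Thompson subgroup of a strongly closed
subgroup. -/
theorem centerThompsonOf_normal_of_stronglyClosed [Finite G] [Fact p.Prime] (hp : p ≠ 2)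
    (hc : centralizer (pCore p G : Set G) ≤ pCore p G)
    (hst : QuadStable p G) (S : Sylow p G) {D₀ : Subgroup G}
    (hD₀ : IsStronglyClosed D₀ (S : Subgroup G)) : (centerThompsonOf p D₀).Normal := by
  set Z := centerThompsonOf p D₀ with hZdef
  have hPS : pCore p G ≤ (S : Subgroup G) := CfsgLib.Base.pCore_le_sylow S
  have hZp : IsPGroup p Z := S.2.to_le ((centerThompsonOf_le _).trans hD₀.1)
  have hZle : Z ≤ pCore p G := by
    refine (quadratic_le hst (CfsgLib.Base.isPGroup_pCore p G) hZp ⟨⟨fun a b =>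
      Subtype.ext (mem_centralizer_iff.mp b.2.2 _ a.2.1)⟩⟩
      (hPS.trans ((stronglyClosed_le_normalizer hD₀).trans
        (centerThompsonOf_le_normalizer _)))).trans ?_
    haveI : ((pCore p (G ⧸ centralizer (pCore p G : Set G))).comap (QuotientGroup.mk' _)).Normal :=
      (pCore_normal p _).comap _
    refine CfsgLib.Base.le_pCore
      ((CfsgLib.Base.isPGroup_pCore p _).comap_of_ker_isPGroup _ ?_)
    rw [QuotientGroup.ker_mk']
    exact (CfsgLib.Base.isPGroup_pCore p G).to_le hc
  have h := centerThompsonOf_inf_normal hp hst S hD₀ _ (pCore p G) rfl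
    (CfsgLib.Base.isPGroup_pCore p G)
  rwa [inf_eq_left.2 hZle] at h

/-- Glauberman's ZJ-theorem for the elementary abelian Thompson subgroup. -/
theorem centerThompsonOf_normal [Finite G] [Fact p.Prime] (hp : p ≠ 2)
    (hc : centralizer (pCore p G : Set G) ≤ pCore p G)
    (hst : QuadStable p G) (S : Sylow p G) : (centerThompsonOf p (S : Subgroup G)).Normal :=
  centerThompsonOf_normal_of_stronglyClosed hp hc hst S (isStronglyClosed_self _)

end CfsgLib.Transfer
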