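import Cfsg.Agent.Lib.ThreeTransp.S4
import Cfsg.Agent.Lib.PLocal.QdSection

/-!
# A section isomorphic to the symmetric group of degree four

Two involutions inducing the symmetric group of degree three on a four subgroup.
-/

set_option autoImplicit false

open Subgroup CfsgLib.ThreeTransp
open scoped commutatorElement

namespace CfsgLib.Transfer

/-- Generators satisfying the Coxeter relations of `S₄`. -/
theorem exists_s4_mulEquiv {Q : Type*} [Group Q] {a b c : Q} (ha : a * a = 1) (hb : b * b = 1)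
    (hc : c * c = 1) (hac : c * a = a * c) (hab : b * a * b = a * b * a)
    (hbc : c * b * c = b * c * b) (hgen : closure ({a, b, c} : Set Q) = ⊤)
    (h1 : a * c ≠ 1) (h2 : a * b ≠ 1) (h3 : a ≠ 1) :
    Nonempty (Equiv.Perm (Fin 4) ≃* Q) := by
  choose idx hidx using s4Word_surj
  have hnext := s4Eval_next ha hb hc hac hab hbc
  have hgen' : ∀ σ i, s4Eval a b c (idx (σ * s4Gen i)) = s4Eval a b c (idx σ) * ![a, b, c] i := by
    intro σ i
    rw [hnext]
    congr 1
    apply s4Word_inj
    rw [hidx, ← s4Next_spec, hidx]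
  have hword : ∀ (l : List (Fin 3)) (σ : Equiv.Perm (Fin 4)),
      s4Eval a b c (idx (σ * (l.map s4Gen).prod))
        = s4Eval a b c (idx σ) * (l.map ![a, b, c]).prod := by
    intro l
    induction l with
    | nil => intro σ; simp
    | cons x l ih =>
      intro σ
      rw [List.map_cons, List.prod_cons, ← mul_assoc, ih, hgen', List.map_cons, List.prod_cons,
        mul_assoc]
  let φ : Equiv.Perm (Fin 4) →* Q := MonoidHom.mk' (fun σ => s4Eval a b c (idx σ)) fun σ τ => by
    conv_lhs => rw [← hidx τ, hword]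
    rfl
  have hφ : ∀ i, φ (s4Gen i) = ![a, b, c] i := by
    intro i
    have h := hgen' 1 i
    rw [one_mul] at h
    show s4Eval a b c (idx (s4Gen i)) = _
    rw [h]
    show φ 1 * _ = _
    rw [map_one, one_mul]
  have h0 : φ (Equiv.swap 0 1) = a := hφ 0
  have h1' : φ (Equiv.swap 1 2) = b := hφ 1
  have h2' : φ (Equiv.swap 2 3) = c := hφ 2
  have hinj : Function.Injective φ := (injective_iff_map_eq_one φ).2 fun σ hσ => by
    rcases s4_three_cycle_or_double σ with h | ⟨ρ, h⟩ | ⟨ρ, h⟩ | ⟨ρ, h⟩ | ⟨ρ, h⟩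
    · exact h
    all_goals
      have hk := congrArg φ h
      simp only [map_mul, hσ, mul_one, map_inv, mul_inv_cancel, h0, h1', h2'] at hk
      exfalso
    · exact h1 hk.symm
    · exact h2 hk.symm
    · exact h3 hk.symm
    · exact h1 hk.symm
  have hsurj : Function.Surjective φ := by
    rw [← MonoidHom.range_eq_top, eq_top_iff, ← hgen, closure_le]
    rintro x (rfl | rfl | rfl)
    · exact ⟨_, h0⟩
    · exact ⟨_, h1'⟩
    · exact ⟨_, h2'⟩
  exact ⟨MulEquiv.ofBijective φ ⟨hinj, hsurj⟩⟩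

/-- Two involutions `a`, `b` inducing `S₃` on the four group `⟨u, w⟩` give a section `S₄`. -/
theorem invHom_s4_of_plane {G : Type*} [Group G] {a b u w : G} (ha : a * a = 1) (hb : b * b = 1)
    (hu : u * u = 1) (hw : w * w = 1) (huw : u * w = w * u) (haw : a * w * a⁻¹ = w)
    (hau : a * u * a⁻¹ = u * w) (hbu : b * u * b⁻¹ = u) (hbw : b * w * b⁻¹ = w * u)
    (hw1 : w ≠ 1) (hne : u ≠ w) :
    CfsgLib.PLocal.InvHom (Equiv.Perm (Fin 4)) G := by
  have hai : a⁻¹ = a := inv_eq_of_mul_eq_one_right ha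
  have hbi : b⁻¹ = b := inv_eq_of_mul_eq_one_right hb
  have hwi : w⁻¹ = w := inv_eq_of_mul_eq_one_right hw
  set t := a * b with ht
  have htw : t * w * t⁻¹ = u := by
    calc t * w * t⁻¹ = a * (b * w * b⁻¹) * a⁻¹ := by rw [ht]; group
      _ = a * w * a⁻¹ * (a * u * a⁻¹) := by rw [hbw]; group
      _ = w * (u * w) := by rw [haw, hau]
      _ = w * w * u := by rw [huw, mul_assoc]
      _ = u := by rw [hw, one_mul]
  have htu : t * u * t⁻¹ = u * w := by
    calc t * u * t⁻¹ = a * (b * u * b⁻¹) * a⁻¹ := by rw [ht]; group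
      _ = u * w := by rw [hbu, hau]
  have ht3w : t ^ 3 * w * (t ^ 3)⁻¹ = w := by
    calc t ^ 3 * w * (t ^ 3)⁻¹ = t * (t * (t * w * t⁻¹) * t⁻¹) * t⁻¹ := by
          simp only [pow_succ, pow_zero, one_mul, mul_inv_rev, mul_assoc]
      _ = t * (u * w) * t⁻¹ := by rw [htw, htu]
      _ = t * u * t⁻¹ * (t * w * t⁻¹) := conj_mul.symm
      _ = u * w * u := by rw [htu, htw]
      _ = w := by rw [huw, mul_assoc, hu, mul_one]
  let K : Subgroup G := closure {a, b, w}
  let a' : K := ⟨a, subset_closure (by simp)⟩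
  let b' : K := ⟨b, subset_closure (by simp)⟩
  let w' : K := ⟨w, subset_closure (by simp)⟩
  have htK : t ^ 3 ∈ K := pow_mem (mul_mem a'.2 b'.2) 3
  let R : Subgroup K := zpowers (⟨t ^ 3, htK⟩ : K)
  have hcl : closure ({a', b', w'} : Set K) = ⊤ := by
    apply map_injective K.subtype_injective
    rw [MonoidHom.map_closure, ← MonoidHom.range_eq_map, range_subtype]
    simp [Set.image_insert_eq, K, a', b', w']
  have hRn : R.Normal := by
    rw [← normalizer_eq_top_iff, eq_top_iff, ← hcl, closure_le]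
    have hai' : a * (t ^ 3) * a⁻¹ = (t ^ 3)⁻¹ := by
      rw [← conj_pow, ← inv_pow]
      congr 1
      rw [ht, mul_inv_rev, hai, hbi, ← mul_assoc a a b, ha, one_mul]
    have hbi' : b * (t ^ 3) * b⁻¹ = (t ^ 3)⁻¹ := by
      rw [← conj_pow, ← inv_pow]
      congr 1
      rw [ht, mul_inv_rev, hai, hbi]
      simp only [mul_assoc, hb, mul_one]
    have hwt : w * (t ^ 3) * w⁻¹ = t ^ 3 :=
      mul_inv_eq_iff_eq_mul.2 ((mul_inv_eq_iff_eq_mul.1 ht3w).symm)
    intro x hx
    rw [SetLike.mem_coe, mem_normalizer_iff_map_conj_eq, MonoidHom.map_zpowers]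
    rcases hx with rfl | rfl | rfl
    · exact (congrArg zpowers (Subtype.ext hai' : (MulAut.conj a').toMonoidHom ⟨t ^ 3, htK⟩
        = (⟨t ^ 3, htK⟩ : K)⁻¹)).trans zpowers_inv
    · exact (congrArg zpowers (Subtype.ext hbi' : (MulAut.conj b').toMonoidHom ⟨t ^ 3, htK⟩
        = (⟨t ^ 3, htK⟩ : K)⁻¹)).trans zpowers_inv
    · exact congrArg zpowers (Subtype.ext hwt : (MulAut.conj w').toMonoidHom ⟨t ^ 3, htK⟩
        = (⟨t ^ 3, htK⟩ : K))
  have hmem : ∀ x : K, x ∈ R → Commute (x : G) w := by
    rintro x ⟨n, rfl⟩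
    rw [show (((⟨t ^ 3, htK⟩ : K) ^ n : K) : G) = (t ^ 3) ^ n from Subgroup.coe_zpow K _ n]
    exact Commute.zpow_left (mul_inv_eq_iff_eq_mul.1 ht3w) n
  let π : K →* K ⧸ R := QuotientGroup.mk' R
  have hπ : ∀ x : K, (x : G) = 1 → π x = 1 := fun x hx => by
    rw [show x = 1 from Subtype.ext hx, map_one]
  have hπ3 : ∀ x : K, (x : G) = t ^ 3 → π x = 1 := fun x hx => by
    rw [show x = ⟨t ^ 3, htK⟩ from Subtype.ext hx]
    exact (QuotientGroup.eq_one_iff _).2 (mem_zpowers _)
  have hinv : ∀ x : K, (x : G) * x = 1 → π x * π x = 1 := fun x hx => by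
    rw [← map_mul]
    exact hπ _ hx
  have hcube : ∀ x y : K ⧸ R, x * x = 1 → y * y = 1 → (x * y) ^ 3 = 1 →
      x * y * x = y * x * y := by
    intro x y hx hy h
    have e : (y * x * y)⁻¹ = y * x * y := by
      rw [mul_inv_rev, mul_inv_rev, inv_eq_of_mul_eq_one_right hx, inv_eq_of_mul_eq_one_right hy,
        mul_assoc]
    rw [← e, eq_inv_iff_mul_eq_one, ← h]
    simp only [pow_succ, pow_zero, one_mul, mul_assoc]
  have hcw : a * w * (a * w) = 1 := by
    rw [mul_inv_eq_iff_eq_mul.1 haw, mul_assoc w a, ← mul_assoc a w a, mul_inv_eq_iff_eq_mul.1 haw,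
      mul_assoc w a a, ha, mul_one, hw]
  have hwt3 : (w * t) ^ 3 = t ^ 3 := by
    calc (w * t) ^ 3 = w * (t * w * t⁻¹) * (t * (t * w * t⁻¹) * t⁻¹) * t ^ 3 := by
          simp [pow_succ, mul_assoc]
      _ = w * u * (u * w) * t ^ 3 := by rw [htw, htu]
      _ = w * (u * u) * w * t ^ 3 := by group
      _ = t ^ 3 := by rw [hu, mul_one, hw, one_mul]
  obtain ⟨e⟩ := exists_s4_mulEquiv (a := π a') (b := π b') (c := π (a' * w'))
    (hinv a' ha) (hinv b' hb) (hinv (a' * w') hcw)
    (by
      rw [← map_mul, ← map_mul]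
      congr 1
      exact Subtype.ext (show a * w * a = a * (a * w) by
        rw [mul_inv_eq_iff_eq_mul.1 haw, mul_assoc, ha, mul_one, ← mul_inv_eq_iff_eq_mul.1 haw,
          ← mul_assoc, ha, one_mul]))
    (hcube _ _ (hinv b' hb) (hinv a' ha) (by
      rw [← map_mul, ← map_pow, ← inv_inj, inv_one, ← map_inv]
      refine hπ3 _ ?_
      rw [Subgroup.coe_inv, Subgroup.coe_pow, Subgroup.coe_mul, ← inv_pow, mul_inv_rev, hai, hbi]))
    (hcube _ _ (hinv (a' * w') hcw) (hinv b' hb) (by
      rw [← map_mul, ← map_pow]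
      refine hπ3 _ ?_
      rw [Subgroup.coe_pow, Subgroup.coe_mul, Subgroup.coe_mul, show (a' : G) = a from rfl,
        show (b' : G) = b from rfl, show (w' : G) = w from rfl, mul_inv_eq_iff_eq_mul.1 haw,
        mul_assoc]
      exact hwt3))
    (by
      refine eq_top_iff.2 fun y _ => ?_
      obtain ⟨x, rfl⟩ := QuotientGroup.mk'_surjective R y
      rename_i hy
      clear hy
      have hx : x ∈ closure ({a', b', w'} : Set K) := hcl ▸ mem_top x
      induction hx using closure_induction with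
      | one => exact one_mem _
      | mul x y _ _ hx hy => rw [map_mul]; exact mul_mem hx hy
      | inv x _ hx => rw [map_inv]; exact inv_mem hx
      | mem x hx =>
        rcases hx with rfl | rfl | rfl
        · exact subset_closure (by simp [π])
        · exact subset_closure (by simp [π])
        · rw [show QuotientGroup.mk' R w' = π a' * π (a' * w') by
            rw [map_mul, ← mul_assoc, hinv a' ha, one_mul]]
          exact mul_mem (subset_closure (by simp)) (subset_closure (by simp)))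
    (by
      rw [map_mul, ← mul_assoc, hinv a' ha, one_mul]
      intro h
      have h' := hmem _ ((QuotientGroup.eq_one_iff _).1 h)
      have hc : Commute t w := by
        have h3 : t * w * t⁻¹ = u := htw
        obtain ⟨n, hn⟩ := (QuotientGroup.eq_one_iff w').1 h
        have hn' : (t ^ 3) ^ n = w := congrArg Subtype.val hn
        rw [← hn']
        exact ((Commute.refl t).pow_right 3).zpow_right n
      exact hne (by rw [← htw, hc.eq, mul_inv_cancel_right]))
    (by
      rw [← map_mul]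
      intro h
      have hc : Commute t w := hmem _ ((QuotientGroup.eq_one_iff _).1 h)
      exact hne (by rw [← htw, hc.eq, mul_inv_cancel_right]))
    (by
      intro h
      obtain ⟨n, hn⟩ := (QuotientGroup.eq_one_iff a').1 h
      have hn' : (t ^ 3) ^ n = a := congrArg Subtype.val hn
      have ht3u : Commute (t ^ 3) u := by
        rw [← htw, commute_iff_eq, ← mul_inv_eq_iff_eq_mul]
        calc t ^ 3 * (t * w * t⁻¹) * (t ^ 3)⁻¹ = t * (t ^ 3 * w * (t ^ 3)⁻¹) * t⁻¹ := by group
          _ = _ := by rw [ht3w]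
      have hc : Commute a u := hn' ▸ ht3u.zpow_left n
      rw [hc.eq, mul_inv_cancel_right] at hau
      exact hw1 (left_eq_mul.1 hau))
  exact ⟨K, e.symm.toMonoidHom.comp π,
    e.symm.surjective.comp (QuotientGroup.mk'_surjective R)⟩

end CfsgLib.Transfer
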