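import Mathlib

/-!
# Recognition of `SL(2,3)`
-/

set_option autoImplicit false

open Subgroup Matrix

namespace CfsgLib.Transfer

variable {G : Type*} [Group G]

/-- The relations of `SL(2,3)` in the generators `i, j` of a quaternion group and `d` of order 3. -/
structure SLTwoThreeRel (i j d : G) : Prop where
  i4 : i ^ 4 = 1
  sq : i ^ 2 = j ^ 2
  inv : j * i * j⁻¹ = i⁻¹
  d3 : d ^ 3 = 1
  di : d * i * d⁻¹ = j
  dj : d * j * d⁻¹ = i * j

/-- The normal forms. -/
def slTwoThreeWord (i j d : G) (x : Fin 4 × Fin 2 × Fin 3) : G :=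
  i ^ (x.1 : ℕ) * j ^ (x.2.1 : ℕ) * d ^ (x.2.2 : ℕ)

theorem SLTwoThreeRel.closure_subset_range {i j d : G} (h : SLTwoThreeRel i j d) :
    (Subgroup.closure {i, j, d} : Set G) ⊆ Set.range (slTwoThreeWord i j d) := by
  set W : Set G := {w | ∃ a b : ℕ, w = i ^ a * j ^ b} with hW
  have hji : j * i = i ^ 3 * j := by
    have : i⁻¹ = i ^ 3 := inv_eq_of_mul_eq_one_right (by rw [← pow_succ']; exact h.i4)
    rw [← this, ← h.inv, inv_mul_cancel_right]
  have hpow : ∀ a : ℕ, j * i ^ a = i ^ (3 * a) * j := by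
    intro a
    induction a with
    | zero => simp
    | succ a ih =>
      rw [pow_succ, ← mul_assoc, ih, mul_assoc, hji, ← mul_assoc, ← pow_add, Nat.mul_succ]
  have hj : ∀ b a : ℕ, ∃ c : ℕ, j ^ b * i ^ a = i ^ c * j ^ b := by
    intro b
    induction b with
    | zero => exact fun a => ⟨a, by simp⟩
    | succ b ih =>
      intro a
      obtain ⟨c, hc⟩ := ih (3 * a)
      exact ⟨c, by rw [pow_succ, mul_assoc, hpow, ← mul_assoc, hc, mul_assoc]⟩
  have hmulW : ∀ u ∈ W, ∀ v ∈ W, u * v ∈ W := by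
    rintro _ ⟨a, b, rfl⟩ _ ⟨a', b', rfl⟩
    obtain ⟨c, hc⟩ := hj b a'
    exact ⟨a + c, b + b', by rw [mul_assoc, ← mul_assoc (j ^ b), hc, pow_add, pow_add]; group⟩
  have hred : ∀ u ∈ W, ∃ a : Fin 4, ∃ b : Fin 2, u = i ^ (a : ℕ) * j ^ (b : ℕ) := by
    rintro _ ⟨a, b, rfl⟩
    refine ⟨⟨(a + 2 * (b / 2)) % 4, Nat.mod_lt _ (by norm_num)⟩, ⟨b % 2, Nat.mod_lt _ (by norm_num)⟩, ?_⟩
    dsimp only
    rw [← pow_eq_pow_mod _ h.i4, pow_add, pow_mul, h.sq, ← pow_mul, mul_assoc, ← pow_add,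
      Nat.div_add_mod]
  have hconj : ∀ c : ℕ, d ^ c * i * (d ^ c)⁻¹ ∈ W ∧ d ^ c * j * (d ^ c)⁻¹ ∈ W := by
    intro c
    induction c with
    | zero => exact ⟨⟨1, 0, by simp⟩, ⟨0, 1, by simp⟩⟩
    | succ c ih =>
      constructor
      · rw [show d ^ (c + 1) * i * (d ^ (c + 1))⁻¹ = d ^ c * (d * i * d⁻¹) * (d ^ c)⁻¹ by
          rw [pow_succ]; group, h.di]
        exact ih.2
      · rw [show d ^ (c + 1) * j * (d ^ (c + 1))⁻¹ = d ^ c * (d * j * d⁻¹) * (d ^ c)⁻¹ by
          rw [pow_succ]; group, h.dj]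
        rw [show d ^ c * (i * j) * (d ^ c)⁻¹ =
          (d ^ c * i * (d ^ c)⁻¹) * (d ^ c * j * (d ^ c)⁻¹) by group]
        exact hmulW _ ih.1 _ ih.2
  have hform : ∀ u ∈ W, ∀ c : ℕ, u * d ^ c ∈ Set.range (slTwoThreeWord i j d) := by
    intro u hu c
    obtain ⟨a, b, rfl⟩ := hred u hu
    exact ⟨(a, b, ⟨c % 3, Nat.mod_lt _ (by norm_num)⟩), by
      simp only [slTwoThreeWord]; rw [← pow_eq_pow_mod _ h.d3]⟩
  have hgen : ∀ g ∈ ({i, j, d} : Set G), ∀ x ∈ Set.range (slTwoThreeWord i j d),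
      x * g ∈ Set.range (slTwoThreeWord i j d) := by
    rintro g hg _ ⟨⟨a, b, c⟩, rfl⟩
    have hu : i ^ (a : ℕ) * j ^ (b : ℕ) ∈ W := ⟨_, _, rfl⟩
    rcases hg with rfl | rfl | rfl
    · have := hform _ (hmulW _ hu _ (hconj (c : ℕ)).1) (c : ℕ)
      convert this using 1
      simp only [slTwoThreeWord]; group
    · have := hform _ (hmulW _ hu _ (hconj (c : ℕ)).2) (c : ℕ)
      convert this using 1
      simp only [slTwoThreeWord]; group
    · have := hform _ hu ((c : ℕ) + 1)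
      convert this using 1
      simp only [slTwoThreeWord, pow_succ]; group
  have hpowmem : ∀ g ∈ ({i, j, d} : Set G), ∀ (n : ℕ), ∀ x ∈ Set.range (slTwoThreeWord i j d),
      x * g ^ n ∈ Set.range (slTwoThreeWord i j d) := by
    intro g hg n
    induction n with
    | zero => simp
    | succ n ih =>
      intro x hx
      rw [pow_succ, ← mul_assoc]
      exact hgen g hg _ (ih x hx)
  intro x hx
  induction hx using closure_induction_right with
  | one => exact ⟨(0, 0, 0), by simp [slTwoThreeWord]⟩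
  | mul_right x _ g hg ih => exact hgen g hg x ih
  | mul_inv_cancel x _ g hg ih =>
    have h12 : g ^ 12 = 1 := by
      rcases hg with rfl | rfl | rfl
      · rw [show 12 = 4 * 3 from rfl, pow_mul, h.i4, one_pow]
      · rw [show 12 = 2 * (2 * 3) from rfl, pow_mul, ← h.sq, ← pow_mul, ← mul_assoc, pow_mul,
          show (2 * 2) = 4 from rfl, h.i4, one_pow]
      · rw [show 12 = 3 * 4 from rfl, pow_mul, h.d3, one_pow]
    rw [inv_eq_of_mul_eq_one_right (show g * g ^ 11 = 1 by rw [← pow_succ']; exact h12)]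
    exact hpowmem g hg 11 x ih

theorem SLTwoThreeRel.card_closure_le {i j d : G} (h : SLTwoThreeRel i j d) :
    Nat.card (Subgroup.closure {i, j, d}) ≤ 24 := by
  calc Nat.card (Subgroup.closure {i, j, d}) ≤ Nat.card (Set.range (slTwoThreeWord i j d)) :=
        Nat.card_mono (Set.finite_range _) h.closure_subset_range
    _ ≤ Nat.card (Fin 4 × Fin 2 × Fin 3) := Finite.card_range_le _
    _ = 24 := by simp

/-- Two groups of order at least 24 with these relations are isomorphic. -/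
theorem SLTwoThreeRel.nonempty_mulEquiv {H : Type*} [Group H] [Finite G] [Finite H] {i j d : G}
    {i' j' d' : H} (h : SLTwoThreeRel i j d) (h' : SLTwoThreeRel i' j' d')
    (hc : Subgroup.closure {i, j, d} = ⊤) (hc' : Subgroup.closure {i', j', d'} = ⊤)
    (hG : 24 ≤ Nat.card G) (hH : 24 ≤ Nat.card H) : Nonempty (G ≃* H) := by
  let S : Subgroup (G × H) := Subgroup.closure {(i, i'), (j, j'), (d, d')}
  have hS : Nat.card S ≤ 24 := SLTwoThreeRel.card_closure_le
    ⟨Prod.ext h.i4 h'.i4, Prod.ext h.sq h'.sq, Prod.ext h.inv h'.inv, Prod.ext h.d3 h'.d3,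
      Prod.ext h.di h'.di, Prod.ext h.dj h'.dj⟩
  let f : S →* G := (MonoidHom.fst G H).comp S.subtype
  let g : S →* H := (MonoidHom.snd G H).comp S.subtype
  have hf : Function.Surjective f := by
    rw [← MonoidHom.range_eq_top, MonoidHom.range_comp, range_subtype, MonoidHom.map_closure,
      ← hc]
    congr 1
    simp [Set.image_insert_eq]
  have hg : Function.Surjective g := by
    rw [← MonoidHom.range_eq_top, MonoidHom.range_comp, range_subtype, MonoidHom.map_closure,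
      ← hc']
    congr 1
    simp [Set.image_insert_eq]
  have hf' : Function.Bijective f := by
    refine (Nat.bijective_iff_surjective_and_card f).mpr ⟨hf, le_antisymm ?_ (Nat.card_le_card_of_surjective f hf)⟩
    omega
  have hg' : Function.Bijective g := by
    refine (Nat.bijective_iff_surjective_and_card g).mpr ⟨hg, le_antisymm ?_ (Nat.card_le_card_of_surjective g hg)⟩
    omega
  exact ⟨(MulEquiv.ofBijective f hf').symm.trans (MulEquiv.ofBijective g hg')⟩

/-- `SL(2,3)` is generated by elements satisfying the relations. -/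
theorem exists_slTwoThreeRel : ∃ i j d : SpecialLinearGroup (Fin 2) (ZMod 3),
    SLTwoThreeRel i j d ∧ Subgroup.closure {i, j, d} = ⊤ := by
  let i : SpecialLinearGroup (Fin 2) (ZMod 3) := ⟨!![0, 2; 1, 0], by decide⟩
  let j : SpecialLinearGroup (Fin 2) (ZMod 3) := ⟨!![1, 1; 1, 2], by decide⟩
  let d : SpecialLinearGroup (Fin 2) (ZMod 3) := ⟨!![1, 1; 0, 1], by decide⟩
  refine ⟨i, j, d, ?_, ?_⟩
  · refine ⟨?_, ?_, ?_, ?_, ?_, ?_⟩ <;> apply Subtype.ext <;> decide +kernel
  · refine (Subgroup.eq_top_iff' _).mpr fun x => ?_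
    have key : ∀ y : SpecialLinearGroup (Fin 2) (ZMod 3), ∃ a : Fin 4, ∃ b : Fin 2, ∃ c : Fin 3,
        y = i ^ (a : ℕ) * j ^ (b : ℕ) * d ^ (c : ℕ) := by decide +kernel
    obtain ⟨a, b, c, rfl⟩ := key x
    exact mul_mem (mul_mem (pow_mem (subset_closure (by simp)) _) (pow_mem (subset_closure (by simp)) _))
      (pow_mem (subset_closure (by simp)) _)

theorem card_slTwoThree : Nat.card (SpecialLinearGroup (Fin 2) (ZMod 3)) = 24 := by
  rw [Nat.card_eq_fintype_card]
  decide +kernel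

/-- **Recognition of `SL(2,3)`**. -/
theorem SLTwoThreeRel.mulEquiv_SL [Finite G] {i j d : G} (h : SLTwoThreeRel i j d)
    (hc : Subgroup.closure {i, j, d} = ⊤) (hG : 24 ≤ Nat.card G) :
    Nonempty (G ≃* SpecialLinearGroup (Fin 2) (ZMod 3)) := by
  obtain ⟨i', j', d', h', hc'⟩ := exists_slTwoThreeRel
  exact h.nonempty_mulEquiv h' hc hc' hG card_slTwoThree.ge

end CfsgLib.Transfer
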