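import Mathlib
import Cfsg.Prelude.Def_BaumannBlocks
import Cfsg.Agent.Lib.Transfer.TransferFixed
import Cfsg.Agent.Lib.Transfer.NormalPComplement
import Cfsg.Agent.Lib.Fusion.Tate
import Cfsg.Agent.Lib.Fusion.HyperfocalGroup
import Cfsg.Agent.Lib.PGroups.Basic

/-!
The theorem of Hall and Wielandt: a weakly closed subgroup of small Engel length controls transfer.
-/

set_option autoImplicit false
set_option linter.style.haveILetI false

namespace CfsgLib.Transfer

open Subgroup Cfsg MulAction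
open scoped Pointwise

variable {p : ℕ} [hp : Fact p.Prime]

theorem zmod_choose_pred (k : ℕ) (hk : k ≤ p - 1) :
    (((p - 1).choose k : ℕ) : ZMod p) = (-1 : ZMod p) ^ k := by
  induction k with
  | zero => simp
  | succ k ih =>
    have h1 : p = p - 1 + 1 := by have := (hp.out).pos; omega
    have h2 : ((p.choose (k + 1) : ℕ) : ZMod p) = 0 :=
      (ZMod.natCast_eq_zero_iff _ p).2 (hp.out.dvd_choose_self (Nat.succ_ne_zero k) (by omega))
    conv at h2 =>
      enter [1, 1, 1]; rw [h1]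
    rw [Nat.choose_succ_succ', Nat.cast_add, ih (by omega)] at h2
    rw [pow_succ, mul_neg, mul_one]
    linear_combination h2

/-- `p` consecutive values add up to the iterated difference of length `p - 1`. -/
theorem sum_range_eq_fwdDiff (f : ℕ → ZMod p) :
    ∑ k ∈ Finset.range p, f k = (fwdDiff 1)^[p - 1] f 0 := by
  have h1 : p - 1 + 1 = p := by have := (hp.out).pos; omega
  have h2 : (-1 : ZMod p) ^ (p - 1) = 1 := by
    rw [← zmod_choose_pred (p - 1) le_rfl, Nat.choose_self, Nat.cast_one]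
  rw [fwdDiff_iter_eq_sum_shift, h1]
  refine Finset.sum_congr rfl fun k hk => ?_
  have hk' : k ≤ p - 1 := by have := Finset.mem_range.1 hk; omega
  rw [zsmul_eq_mul, Int.cast_mul, Int.cast_pow, Int.cast_neg, Int.cast_one, Int.cast_natCast,
    zmod_choose_pred k hk', ← pow_add, Nat.sub_add_cancel hk', h2, one_mul, smul_eq_mul, mul_one,
    zero_add]

variable {K : Type*} [Group K]

/-- The map `u ↦ [u, z]`. -/
def engel (z : K) : K → K := fun u => u⁻¹ * z⁻¹ * u * z

theorem engel_mem {M : Subgroup K} [hM : M.Normal] (z : K) {u : K} (hu : u ∈ M) : engel z u ∈ M := by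
  show u⁻¹ * z⁻¹ * u * z ∈ M
  rw [show u⁻¹ * z⁻¹ * u * z = u⁻¹ * (z⁻¹ * u * z⁻¹⁻¹) by group]
  exact M.mul_mem (M.inv_mem hu) (hM.conj_mem u hu z⁻¹)

theorem mem_conj_pow {M : Subgroup K} [hM : M.Normal] (z : K) (i : ℕ) {u : K} (hu : u ∈ M) :
    (z ^ i)⁻¹ * u * z ^ i ∈ M := by simpa using hM.conj_mem u hu (z ^ i)⁻¹

theorem engel_iterate_mem {M : Subgroup K} [M.Normal] (z : K) (n : ℕ) {u : K} (hu : u ∈ M) :
    (engel z)^[n] u ∈ M := by
  induction n with
  | zero => exact hu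
  | succ n ih => rw [Function.iterate_succ_apply']; exact engel_mem z ih

/-- No iterated commutator `[x, z; p - 1]` with `z ∈ Q` is detected by a homomorphism to `ℤ/p` of a
maximal subgroup containing `x` but not `z`. -/
def NoWitness (p : ℕ) (Q : Subgroup K) : Prop :=
  ∀ (M : Subgroup K) (z : K) (ψ : M →* Multiplicative (ZMod p)), IsCoatom M → z ∈ Q → z ∉ M →
    ∀ x ∈ M, ∀ h : (engel z)^[p - 1] x ∈ M, ψ ⟨_, h⟩ = 1

/-- The product over the conjugates by the first `p` powers is the iterated commutator. -/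
theorem prod_conj_eq_one {M : Subgroup K} [M.Normal] (ψ : M →* Multiplicative (ZMod p)) (z : K)
    {x : K} (hx : x ∈ M) (h : ψ ⟨_, engel_iterate_mem z (p - 1) hx⟩ = 1) :
    ∏ i ∈ Finset.range p, ψ ⟨(z ^ i)⁻¹ * x * z ^ i, mem_conj_pow z i hx⟩ = 1 := by
  classical
  let F : K → ℕ → ZMod p := fun u i =>
    if hu : (z ^ i)⁻¹ * u * z ^ i ∈ M then (ψ ⟨_, hu⟩).toAdd else 0
  have hFd : ∀ u ∈ M, fwdDiff 1 (F u) = F (engel z u) := by
    intro u hu
    funext i
    have e : (⟨_, mem_conj_pow z i (engel_mem z hu)⟩ : M) =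
        ⟨_, mem_conj_pow z i hu⟩⁻¹ * ⟨_, mem_conj_pow z (i + 1) hu⟩ := Subtype.ext (by
      show (z ^ i)⁻¹ * (u⁻¹ * z⁻¹ * u * z) * z ^ i =
        ((z ^ i)⁻¹ * u * z ^ i)⁻¹ * ((z ^ (i + 1))⁻¹ * u * z ^ (i + 1))
      rw [show z ^ (i + 1) = z * z ^ i from pow_succ' z i]
      group)
    simp only [fwdDiff, F]
    rw [dif_pos (mem_conj_pow z (i + 1) hu), dif_pos (mem_conj_pow z i hu),
      dif_pos (mem_conj_pow z i (engel_mem z hu)), e, map_mul, map_inv, toAdd_mul, toAdd_inv]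
    abel
  have hiter : ∀ n, ∀ u ∈ M, (fwdDiff 1)^[n] (F u) = F ((engel z)^[n] u) := by
    intro n
    induction n with
    | zero => simp
    | succ n ih =>
      intro u hu
      rw [Function.iterate_succ_apply, hFd u hu, ih _ (engel_mem z hu), ← Function.iterate_succ_apply]
  apply Multiplicative.toAdd.injective
  rw [toAdd_prod, toAdd_one]
  have h1 : ∀ i ∈ Finset.range p,
      (ψ ⟨(z ^ i)⁻¹ * x * z ^ i, mem_conj_pow z i hx⟩).toAdd = F x i := fun i _ => by
    simp only [F]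
    rw [dif_pos (mem_conj_pow z i hx)]
  have hw := engel_iterate_mem (M := M) z (p - 1) hx
  rw [Finset.sum_congr rfl h1, sum_range_eq_fwdDiff, hiter _ x hx]
  simp only [F]
  rw [dif_pos (mem_conj_pow z 0 hw), show (⟨_, mem_conj_pow z 0 hw⟩ : M) = ⟨_, hw⟩ from
    Subtype.ext (by simp), h, toAdd_one]

/-- For a proper subgroup `J` not containing the Engel subgroup `Q` the fixed-point product is
trivial. -/
theorem prod_fixedVal_eq_one [Finite K] (hK : IsPGroup p K) (Q J : Subgroup K) [Fintype (K ⧸ J)]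
    (hJ : J ≠ ⊤) (hQJ : Q ⊔ J = ⊤) (hnw : NoWitness p Q)
    (χ : J →* Multiplicative (ZMod p)) {x : K} (hx : x ∈ J)
    (hgood : ∀ k, 1 < k → k ∣ orderOf x → ∀ (g : K) (h : g⁻¹ * x ^ k * g ∈ J), χ ⟨_, h⟩ = 1) :
    ∏ q : K ⧸ J, fixedVal χ x q = 1 := by
  classical
  obtain ⟨M, hM, hJM⟩ := (eq_top_or_exists_le_coatom J).resolve_left hJ
  haveI hMn : M.Normal := CfsgLib.PGroups.normal_of_isCoatom hK hM
  have hMi := CfsgLib.PGroups.index_eq_of_isCoatom hK hM
  obtain ⟨z, hzQ, hzM⟩ : ∃ z ∈ Q, z ∉ M := SetLike.not_le_iff_exists.1 fun h =>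
    hM.1 (top_le_iff.1 (hQJ ▸ sup_le h hJM))
  have hzo : orderOf (z : K ⧸ M) = p :=
    orderOf_eq_prime
      (by rw [← hMi, Subgroup.index_eq_card]; exact pow_card_eq_one')
      fun e => hzM ((QuotientGroup.eq_one_iff z).1 e)
  set J' := J.subgroupOf M with hJ'
  let χ' : J' →* Multiplicative (ZMod p) :=
    χ.comp ((M.subtype.comp J'.subtype).codRestrict J fun j => j.2)
  let ψ := MonoidHom.transfer χ'
  haveI : Fintype (M ⧸ J') := Fintype.ofFinite _
  -- the fibres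
  let e : (Σ _ : Fin p, M ⧸ J') → K ⧸ J := fun s =>
    ((z ^ (s.1 : ℕ) * ((s.2.out : M) : K) : K) : K ⧸ J)
  have hbij : Function.Bijective e := by
    refine ⟨?_, fun q => ?_⟩
    · rintro ⟨i, a⟩ ⟨j, b⟩ h
      have h1 := QuotientGroup.eq.1 h
      have h2 : ((z ^ (i : ℕ) * ((a.out : M) : K) : K) : K ⧸ M) =
          ((z ^ (j : ℕ) * ((b.out : M) : K) : K) : K ⧸ M) := QuotientGroup.eq.2 (hJM h1)
      have hmk : ∀ m : M, ((m : K) : K ⧸ M) = 1 := fun m => (QuotientGroup.eq_one_iff _).2 m.2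
      rw [QuotientGroup.mk_mul, QuotientGroup.mk_mul, hmk, hmk, mul_one, mul_one,
        QuotientGroup.mk_pow, QuotientGroup.mk_pow] at h2
      have hij : i = j := Fin.ext (pow_injOn_Iio_orderOf (hzo.symm ▸ Set.mem_Iio.2 i.2)
        (hzo.symm ▸ Set.mem_Iio.2 j.2) h2)
      subst hij
      rw [mul_inv_rev, mul_assoc, inv_mul_cancel_left] at h1
      have hab : a = b := by
        rw [← QuotientGroup.out_eq' a, ← QuotientGroup.out_eq' b]
        exact QuotientGroup.eq.2 h1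
      rw [hab]
    · induction q using QuotientGroup.induction_on with
      | _ g =>
        have hcard : Nat.card (K ⧸ M) = p := by rw [← Subgroup.index_eq_card, hMi]
        have htop : zpowers (z : K ⧸ M) = ⊤ :=
          Subgroup.eq_top_of_card_eq _ (by rw [Nat.card_zpowers, hzo, hcard])
        obtain ⟨i, hi, hzi⟩ : ∃ i < p, (z : K ⧸ M) ^ i = (g : K ⧸ M) := by
          have h := (mem_powers_iff_mem_zpowers (x := (z : K ⧸ M))).2 (htop ▸ mem_top (g : K ⧸ M))
          obtain ⟨n, hn⟩ := h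
          exact ⟨n % p, Nat.mod_lt _ hp.out.pos, by rw [← hzo, pow_mod_orderOf]; exact hn⟩
        have hm : (z ^ i)⁻¹ * g ∈ M := by
          rw [← QuotientGroup.mk_pow] at hzi
          exact QuotientGroup.eq.1 hzi
        refine ⟨⟨⟨i, hi⟩, ((⟨_, hm⟩ : M) : M ⧸ J')⟩, QuotientGroup.eq.2 ?_⟩
        obtain ⟨j, hj⟩ := QuotientGroup.mk_out_eq_mul J' (⟨_, hm⟩ : M)
        show (z ^ i * (((⟨_, hm⟩ : M) : M ⧸ J').out : K))⁻¹ * g ∈ J
        rw [hj, show (((⟨_, hm⟩ : M) * j : M) : K) = (z ^ i)⁻¹ * g * ((j : M) : K) from rfl,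
          show (z ^ i * ((z ^ i)⁻¹ * g * ((j : M) : K)))⁻¹ * g = ((j : M) : K)⁻¹ by group]
        exact J.inv_mem j.2
  let xi : ℕ → M := fun i => ⟨(z ^ i)⁻¹ * x * z ^ i, mem_conj_pow z i (hJM hx)⟩
  have hval : ∀ s : Σ _ : Fin p, M ⧸ J', fixedVal χ x (e s) = fixedVal χ' (xi s.1) s.2 := by
    rintro ⟨i, a⟩
    have hconj : (z ^ (i : ℕ) * ((a.out : M) : K))⁻¹ * x * (z ^ (i : ℕ) * ((a.out : M) : K)) =
        ((a.out⁻¹ * xi i * a.out : M) : K) := by
      show _ = ((a.out : M) : K)⁻¹ * ((z ^ (i : ℕ))⁻¹ * x * z ^ (i : ℕ)) * ((a.out : M) : K)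
      group
    by_cases h : a.out⁻¹ * xi i * a.out ∈ J'
    · rw [show fixedVal χ' (xi i) a = χ' ⟨_, h⟩ from dif_pos h]
      have h' : (z ^ (i : ℕ) * ((a.out : M) : K))⁻¹ * x * (z ^ (i : ℕ) * ((a.out : M) : K)) ∈ J := by
        rw [hconj]; exact h
      exact (fixedVal_of_mem χ x h').trans (congrArg χ (Subtype.ext hconj))
    · rw [show fixedVal χ' (xi i) a = 1 from dif_neg h]
      refine fixedVal_of_ne χ x fun he => h ?_
      have := (mem_iff_smul_eq x _).2 he
      rw [hconj] at this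
      exact this
  have hgood' : ∀ (i : ℕ) (k : ℕ), 1 < k → k ∣ orderOf (xi i) → ∀ (g : M)
      (h : g⁻¹ * xi i ^ k * g ∈ J'), χ' ⟨_, h⟩ = 1 := by
    intro i k hk hdvd g h
    have hord : orderOf (xi i) = orderOf x := by
      rw [← orderOf_injective M.subtype M.subtype_injective]
      show orderOf ((z ^ i)⁻¹ * x * z ^ i) = orderOf x
      exact (SemiconjBy.orderOf_eq ((z ^ i)) (by
        show z ^ i * ((z ^ i)⁻¹ * x * z ^ i) = x * z ^ i
        group))
    have hconj : (z ^ i * (g : K))⁻¹ * x ^ k * (z ^ i * (g : K)) = ((g⁻¹ * xi i ^ k * g : M) : K) := by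
      rw [Subgroup.coe_mul, Subgroup.coe_mul, Subgroup.coe_inv, Subgroup.coe_pow]
      show _ = (g : K)⁻¹ * ((z ^ i)⁻¹ * x * z ^ i) ^ k * (g : K)
      have hc := conj_pow (a := (z ^ i)⁻¹) (b := x) (i := k)
      rw [inv_inv] at hc
      rw [hc]
      group
    have h' : (z ^ i * (g : K))⁻¹ * x ^ k * (z ^ i * (g : K)) ∈ J := by rw [hconj]; exact h
    exact (congrArg χ (Subtype.ext hconj.symm)).trans (hgood k hk (hord ▸ hdvd) _ h')
  rw [← (Equiv.ofBijective e hbij).prod_comp, Fintype.prod_congr _ (fun s => fixedVal χ' (xi s.1) s.2)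
    hval, Fintype.prod_sigma]
  have h3 : ∀ i : Fin p, ∏ a : M ⧸ J', fixedVal χ' (xi i) a = ψ (xi i) := fun i =>
    (transfer_eq_prod_fixedVal χ' (xi i) (hgood' i)).symm
  rw [Fintype.prod_congr _ _ h3, Fin.prod_univ_eq_prod_range (fun i => ψ (xi i)) p]
  exact prod_conj_eq_one ψ z (hJM hx) (hnw M z ψ hM hzQ hzM x (hJM hx) _)

variable {G : Type*} [Group G] [Finite G]

/-- The transfer step of the Hall–Wielandt theorem. -/
theorem hom_eq_one_on_residual (P : Sylow p G) {Q H : Subgroup G}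
    (hH : H = normalizer (Q : Set G)) (hQ : IsWeaklyClosed Q (P : Subgroup G))
    (hPH : (P : Subgroup G) ≤ H)
    (hnw : ∀ L : Subgroup G, Q ≤ L → L ≤ (P : Subgroup G) → NoWitness p (Q.subgroupOf L))
    (θ : H →* Multiplicative (ZMod p)) :
    ∀ (x : G) (hx : x ∈ (P : Subgroup G)), x ∈ pResidual p G → θ ⟨x, hPH hx⟩ = 1 := by
  classical
  suffices h : ∀ n, ∀ (x : G) (hx : x ∈ (P : Subgroup G)), orderOf x = n → x ∈ pResidual p G →
      θ ⟨x, hPH hx⟩ = 1 from fun x hx => h _ x hx rfl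
  intro n
  induction n using Nat.strong_induction_on with
  | _ n ih =>
  intro x hxP hn hxR
  haveI : Fintype (G ⧸ H) := Fintype.ofFinite _
  -- proper powers are harmless
  have hgood : ∀ k, 1 < k → k ∣ orderOf x → ∀ (g : G) (h : g⁻¹ * x ^ k * g ∈ H), θ ⟨_, h⟩ = 1 := by
    intro k hk hdvd g hmem
    set w := g⁻¹ * x ^ k * g with hw
    have hxkP : x ^ k ∈ (P : Subgroup G) := pow_mem hxP k
    have hwp : IsPGroup p (zpowers w) := by
      have h1 : IsPGroup p ↥((zpowers (x ^ k)).map (MulAut.conj g⁻¹).toMonoidHom) :=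
        ((P.2.to_le (zpowers_le.2 hxkP))).map _
      rw [MonoidHom.map_zpowers,
        show (MulAut.conj g⁻¹).toMonoidHom (x ^ k) = w by simp [hw]] at h1
      exact h1
    have hsyl : CfsgLib.Fusion.IsSylIn p (P : Subgroup G) H :=
      ⟨hPH, P.2, fun C hC hle _ => P.3 hC hle⟩
    obtain ⟨b, hb, hbP⟩ := hsyl.exists_conj_le hwp (zpowers_le.2 hmem)
    have hbw : b * w * b⁻¹ ∈ (P : Subgroup G) := hbP w (mem_zpowers w)
    have hord : orderOf (b * w * b⁻¹) < n := by
      have h1 : orderOf (b * w * b⁻¹) = orderOf (x ^ k) := by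
        refine (SemiconjBy.orderOf_eq (g * b⁻¹) ?_)
        show g * b⁻¹ * (b * w * b⁻¹) = x ^ k * (g * b⁻¹)
        rw [hw]; group
      rw [h1, orderOf_pow, Nat.gcd_eq_right hdvd, ← hn]
      exact Nat.div_lt_self (orderOf_pos x) hk
    have hwR : b * w * b⁻¹ ∈ pResidual p G := by
      have hn' := pResidual_normal (G := G) (p := p)
      refine hn'.conj_mem _ ?_ b
      rw [hw]
      simpa using hn'.conj_mem _ (pow_mem hxR k) g⁻¹
    have h2 := ih _ hord _ hbw rfl hwR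
    have e : (⟨b * w * b⁻¹, hPH hbw⟩ : H) = ⟨b, hb⟩ * ⟨w, hmem⟩ * ⟨b, hb⟩⁻¹ := rfl
    rw [e, map_mul, map_mul, map_inv, mul_right_comm, mul_inv_cancel, one_mul] at h2
    exact h2
  have hV : MonoidHom.transfer θ x = 1 := by
    have hle : pResidual p G ≤ (MonoidHom.transfer θ).ker := (closure_le _).2 fun y hy =>
      eq_one_of_coprime_orderOf (IsPGroup.of_card (n := 1) (by simp))
        (Nat.Coprime.coprime_dvd_left (orderOf_map_dvd (MonoidHom.transfer θ) y) hy)
    exact hle hxR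
  rw [transfer_eq_prod_fixedVal θ x hgood] at hV
  -- split into orbits of `Q`
  let c : G ⧸ H → Quotient (orbitRel Q (G ⧸ H)) := Quotient.mk''
  rw [← Finset.prod_fiberwise_of_maps_to (t := Finset.univ) (g := c) (fun q _ => Finset.mem_univ _)] at hV
  rw [Finset.prod_eq_single (c ((1 : G) : G ⧸ H)) ?_ (fun h => absurd (Finset.mem_univ _) h)] at hV
  · -- the trivial orbit
    have hfix : ∀ u : Q, u • ((1 : G) : G ⧸ H) = ((1 : G) : G ⧸ H) := fun u => by
      show (u : G) • ((1 : G) : G ⧸ H) = _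
      rw [← mem_iff_smul_eq]
      rw [inv_one, one_mul, mul_one, hH]
      exact le_normalizer u.2
    rw [Finset.prod_eq_single ((1 : G) : G ⧸ H)] at hV
    · have hx1 : (1 : G)⁻¹ * x * 1 ∈ H := by simpa using hPH hxP
      rw [fixedVal_of_mem θ x hx1] at hV
      rw [← hV]
      congr 1
      ext
      simp
    · intro q hq hne
      rw [Finset.mem_filter] at hq
      obtain ⟨u, hu⟩ := Quotient.eq''.1 hq.2
      exact absurd (hu.symm.trans (hfix u)) hne
    · intro h
      exact absurd (Finset.mem_filter.2 ⟨Finset.mem_univ (((1 : G) : G ⧸ H)), rfl⟩ :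
        _ ∈ Finset.univ.filter fun q => c q = c ((1 : G) : G ⧸ H)) h
  -- the other orbits
  intro o _ ho
  by_cases hfixex : ∃ q₀, c q₀ = o ∧ x • q₀ = q₀
  swap
  · refine Finset.prod_eq_one fun q hq => fixedVal_of_ne θ x fun h => hfixex ⟨q, ?_, h⟩
    exact (Finset.mem_filter.1 hq).2
  obtain ⟨q₀, hq₀, hxq⟩ := hfixex
  set g₀ := q₀.out
  have hg₀ : (g₀ : G ⧸ H) = q₀ := QuotientGroup.out_eq' q₀
  set J := (P : Subgroup G) ⊓ stabilizer G q₀ with hJ
  have hxJ : x ∈ J := mem_inf.2 ⟨hxP, hxq⟩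
  have hstab : ∀ j ∈ J, g₀⁻¹ * j * g₀ ∈ H := fun j hj => by
    rw [mem_iff_smul_eq, hg₀]; exact (mem_inf.1 hj).2
  have hQP := hQ.1
  set L := Q ⊔ J with hL
  have hLP : L ≤ (P : Subgroup G) := sup_le hQP inf_le_left
  have hnotQ : ¬ Q ≤ J := by
    intro hle
    apply ho
    -- a conjugate of `Q` normalised by `Q`
    set Q' := Q.map (MulAut.conj g₀).toMonoidHom
    have hnorm : Q ≤ normalizer (Q' : Set G) := by
      intro u hu
      have h1 : g₀⁻¹ * u * g₀ ∈ normalizer (Q : Set G) := hH ▸ hstab u (hle hu)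
      have h2 := Subgroup.le_normalizer_map (MulAut.conj g₀).toMonoidHom (mem_map_of_mem _ h1)
      rw [show (MulAut.conj g₀).toMonoidHom (g₀⁻¹ * u * g₀) = u by simp [mul_assoc]] at h2
      exact h2
    have hQ'p : IsPGroup p Q' := (P.2.to_le hQP).map _
    have hsup : IsPGroup p ↥(Q ⊔ Q') :=
      (P.2.to_le hQP).to_sup_of_normal_right' hQ'p hnorm
    obtain ⟨S, hS⟩ := hsup.exists_le_sylow
    obtain ⟨w, hw⟩ := MulAction.exists_smul_eq G S P
    have hwS : ∀ y ∈ (S : Subgroup G), w * y * w⁻¹ ∈ (P : Subgroup G) := fun y hy => by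
      rw [← hw, Sylow.coe_subgroup_smul]
      exact Subgroup.smul_mem_pointwise_smul y (MulAut.conj w) _ hy
    have h1 : Q.map (MulAut.conj w).toMonoidHom = Q :=
      hQ.2 w (by rintro _ ⟨y, hy, rfl⟩; exact hwS y (hS (mem_sup_left hy)))
    have h2 : Q.map (MulAut.conj (w * g₀)).toMonoidHom = Q :=
      hQ.2 (w * g₀) (by
        rintro _ ⟨y, hy, rfl⟩
        have := hwS _ (hS (mem_sup_right (mem_map_of_mem (MulAut.conj g₀).toMonoidHom hy)))
        simpa [mul_assoc] using this)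
    have h3 : g₀ ∈ H := by
      rw [hH, ← inv_mul_cancel_left w g₀]
      exact mul_mem (inv_mem (mem_normalizer_iff_map_conj_eq.2 h1))
        (mem_normalizer_iff_map_conj_eq.2 h2)
    rw [← hq₀, ← hg₀, show (g₀ : G ⧸ H) = ((1 : G) : G ⧸ H) from
      QuotientGroup.eq.2 (by simpa using H.inv_mem h3)]
  set JL := J.subgroupOf L with hJL
  haveI : Fintype (L ⧸ JL) := Fintype.ofFinite _
  let χ : JL →* Multiplicative (ZMod p) :=
    θ.comp (((MulAut.conj g₀⁻¹).toMonoidHom.comp (L.subtype.comp JL.subtype)).codRestrict H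
      fun j => by simpa using hstab _ j.2)
  have hxL : x ∈ L := mem_sup_right hxJ
  have key := prod_fixedVal_eq_one (P.2.to_le hLP) (Q.subgroupOf L) JL ?_ ?_ ?_ χ
    (x := ⟨x, hxL⟩) hxJ ?_
  rotate_left
  · intro h
    exact hnotQ fun u hu => (h.symm ▸ mem_top (⟨u, mem_sup_left hu⟩ : L) : _ ∈ JL)
  · apply map_injective L.subtype_injective
    rw [Subgroup.map_sup, map_subgroupOf_eq_of_le le_sup_left, hJL,
      map_subgroupOf_eq_of_le le_sup_right, ← MonoidHom.range_eq_map, range_subtype]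
  · exact hnw L le_sup_left hLP
  · intro k hk hdvd g h
    have hdvd' : k ∣ orderOf x := by
      rwa [← orderOf_injective L.subtype L.subtype_injective] at hdvd
    have e : g₀⁻¹ * ((g⁻¹ * (⟨x, hxL⟩ : L) ^ k * g : L) : G) * g₀ =
        ((g : G) * g₀)⁻¹ * x ^ k * ((g : G) * g₀) := by
      rw [Subgroup.coe_mul, Subgroup.coe_mul, Subgroup.coe_inv, Subgroup.coe_pow]
      group
    refine Eq.trans (congrArg θ ?_) (hgood k hk hdvd' ((g : G) * g₀) (e ▸ hstab _ h))
    exact Subtype.ext (by simp [mul_assoc])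
  -- compare the orbit with the cosets of `J` in `L`
  let e : L ⧸ JL → G ⧸ H := fun a => ((a.out : L) : G) • q₀
  have horb : ∀ l ∈ L, c (l • q₀) = o := by
    intro l hl
    have hJN : J ≤ normalizer (Q : Set G) := hH ▸ inf_le_left.trans hPH
    have hl' : l ∈ (Q : Set G) * (J : Set G) := by
      rw [← Subgroup.coe_mul_of_right_le_normalizer_left Q J hJN]; exact hl
    obtain ⟨u, hu, j, hj, rfl⟩ := Set.mem_mul.1 hl'
    rw [← hq₀, mul_smul, (mem_inf.1 hj).2]
    exact Quotient.sound' ⟨⟨u, hu⟩, rfl⟩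
  have hinj : Function.Injective e := by
    intro a b h
    rw [← QuotientGroup.out_eq' a, ← QuotientGroup.out_eq' b]
    refine QuotientGroup.eq.2 (mem_inf.2 ⟨hLP (a.out⁻¹ * b.out).2, ?_⟩)
    show (((a.out : L) : G)⁻¹ * ((b.out : L) : G)) • q₀ = q₀
    rw [mul_smul, ← show ((a.out : L) : G) • q₀ = ((b.out : L) : G) • q₀ from h, inv_smul_smul]
  rw [← key]
  symm
  refine Finset.prod_bij (fun a _ => e a) (fun a _ => ?_) (fun a _ b _ h => hinj h) (fun q hq => ?_)
    (fun a _ => ?_)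
  · exact Finset.mem_filter.2 ⟨Finset.mem_univ _, horb _ (a.out : L).2⟩
  · obtain ⟨u, hu⟩ := Quotient.eq''.1 ((Finset.mem_filter.1 hq).2.trans hq₀.symm)
    refine ⟨((⟨u, mem_sup_left u.2⟩ : L) : L ⧸ JL), Finset.mem_univ _, ?_⟩
    obtain ⟨j, hj⟩ := QuotientGroup.mk_out_eq_mul JL (⟨u, mem_sup_left u.2⟩ : L)
    show ((((⟨u, mem_sup_left u.2⟩ : L) : L ⧸ JL).out : L) : G) • q₀ = q
    rw [hj, ← hu, Subgroup.coe_mul, mul_smul]
    show (u : G) • ((j : L) : G) • q₀ = (u : G) • q₀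
    congr 1
    exact (mem_inf.1 j.2).2
  · set l : G := ((a.out : L) : G) with hl
    have hq : e a = ((l * g₀ : G) : G ⧸ H) := by
      show l • q₀ = _
      rw [← hg₀, MulAction.Quotient.smul_coe, smul_eq_mul]
    by_cases h : a.out⁻¹ * (⟨x, hxL⟩ : L) * a.out ∈ JL
    · rw [show fixedVal χ (⟨x, hxL⟩ : L) a = χ ⟨_, h⟩ from dif_pos h, hq]
      have h' : (l * g₀)⁻¹ * x * (l * g₀) ∈ H := by
        have := hstab _ h
        convert this using 1
        simp [hl, mul_assoc]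
      rw [fixedVal_of_mem θ x h']
      exact congrArg θ (Subtype.ext (by simp [hl, mul_assoc]))
    · rw [show fixedVal χ (⟨x, hxL⟩ : L) a = 1 from dif_neg h]
      refine (fixedVal_of_ne θ x fun he => h (mem_inf.2
        ⟨hLP (a.out⁻¹ * (⟨x, hxL⟩ : L) * a.out).2, ?_⟩)).symm
      show (((a.out : L) : G)⁻¹ * x * ((a.out : L) : G)) • q₀ = q₀
      rw [mul_smul, mul_smul, show x • ((a.out : L) : G) • q₀ = ((a.out : L) : G) • q₀ from he,
        inv_smul_smul]

/-- The theorem of Hall and Wielandt, in Yoshida's form. -/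
theorem pResidualOf_normalizer_eq_of_noWitness (P : Sylow p G) (Q : Subgroup G)
    (hQ : IsWeaklyClosed Q (P : Subgroup G))
    (hnw : ∀ L : Subgroup G, Q ≤ L → L ≤ (P : Subgroup G) → NoWitness p (Q.subgroupOf L)) :
    pResidualOf p (normalizer (Q : Set G)) = pResidual p G ⊓ normalizer (Q : Set G) := by
  classical
  set H := normalizer (Q : Set G) with hH
  have hPH : (P : Subgroup G) ≤ H := fun s hs => mem_normalizer_iff_map_conj_eq.2 (hQ.2 s (by
    rintro _ ⟨y, hy, rfl⟩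
    exact mul_mem (mul_mem hs (hQ.1 hy)) (inv_mem hs)))
  haveI := pResidual_normal (G := H) (p := p)
  set R := pResidualOf p H with hR
  have hRH : R ≤ H := map_subtype_le _
  have hRG : R ≤ pResidual p G := map_le_iff_le_comap.2 ((closure_le _).2 fun h hh =>
    mem_pResidual_of_coprime (by
      show Nat.Coprime (orderOf (H.subtype h)) p
      rw [orderOf_injective H.subtype H.subtype_injective]; exact hh))
  let π := QuotientGroup.mk' (pResidual p H)
  have hπ : Function.Surjective π := QuotientGroup.mk'_surjective _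
  have hbar : IsPGroup p (↥H ⧸ pResidual p H) := isPGroup_quotient_pResidual
  let PH : Sylow p H := P.subtype hPH
  have hPπ : ∀ h : H, ∃ s : H, (s : G) ∈ (P : Subgroup G) ∧ π s = π h := by
    intro h
    have htop : (PH.mapSurjective hπ : Subgroup (↥H ⧸ pResidual p H)) = ⊤ :=
      ((PH.mapSurjective hπ).3 (hbar.to_subgroup ⊤) le_top).symm
    obtain ⟨s, hs, e⟩ := (htop.symm ▸ mem_top (π h) : π h ∈ (PH.mapSurjective hπ : Subgroup _))
    exact ⟨s, hs, e⟩
  set N := (P : Subgroup G) ⊓ R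
  have hNhyp : N ≤ (groupFusionSystem (P : Subgroup G)).hyperfocalSubgroup p := by
    rw [CfsgLib.Fusion.hyp_group_eq P]
    exact inf_le_inf_left _ hRG
  have hNn : ∀ s ∈ (P : Subgroup G), ∀ z ∈ N, CfsgLib.Fusion.cj s z ∈ N := by
    intro s hs z hz
    refine mem_inf.2 ⟨mul_mem (mul_mem hs (mem_inf.1 hz).1) (inv_mem hs), ?_⟩
    obtain ⟨y, hy, rfl⟩ := (mem_inf.1 hz).2
    exact ⟨⟨s, hPH hs⟩ * y * ⟨s, hPH hs⟩⁻¹,
      (inferInstance : (pResidual p H).Normal).conj_mem y hy _, rfl⟩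
  have hcover : (groupFusionSystem (P : Subgroup G)).hyperfocalSubgroup p ≤
      N ⊔ (frattini (P : Subgroup G)).map (P : Subgroup G).subtype := by
    intro x hx
    rw [CfsgLib.Fusion.hyp_group_eq P] at hx
    obtain ⟨hxP, hxR⟩ := mem_inf.1 hx
    -- the image of `x` lies in the Frattini subgroup
    have hfr : π ⟨x, hPH hxP⟩ ∈ frattini (↥H ⧸ pResidual p H) := by
      refine CfsgLib.PGroups.mem_frattini_iff.2 fun M hM => ?_
      haveI hMn := CfsgLib.PGroups.normal_of_isCoatom hbar hM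
      have hMi := CfsgLib.PGroups.index_eq_of_isCoatom hbar hM
      rw [Subgroup.index_eq_card] at hMi
      haveI := isCyclic_of_prime_card hMi
      obtain ⟨gen, hgen⟩ := IsCyclic.exists_generator (α := (↥H ⧸ pResidual p H) ⧸ M)
      let ev : Multiplicative (ZMod p) ≃* (↥H ⧸ pResidual p H) ⧸ M :=
        zmodMulEquivOfGenerator hgen hMi
      have h1 := hom_eq_one_on_residual P hH hQ hPH hnw
        (ev.symm.toMonoidHom.comp ((QuotientGroup.mk' M).comp π)) x hxP hxR
      rw [MonoidHom.comp_apply, MulEquiv.coe_toMonoidHom, EmbeddingLike.map_eq_one_iff] at h1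
      exact (QuotientGroup.eq_one_iff _).1 h1
    -- pull back to `P`
    let f : (P : Subgroup G) →* ↥H ⧸ pResidual p H := π.comp (Subgroup.inclusion hPH)
    have hf : Function.Surjective f := fun y => by
      obtain ⟨h, rfl⟩ := hπ y
      obtain ⟨s, hs, e⟩ := hPπ h
      exact ⟨⟨s, hs⟩, e⟩
    have hle : frattini (↥H ⧸ pResidual p H) ≤ (frattini (P : Subgroup G)).map f := by
      rw [CfsgLib.PGroups.frattini_eq_derivedPow hbar, CfsgLib.PGroups.frattini_eq_derivedPow P.2]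
      refine sup_le ?_ ((closure_le _).2 ?_)
      · refine le_trans (le_of_eq ?_) (map_mono le_sup_left)
        rw [_root_.commutator_def, _root_.commutator_def, Subgroup.map_commutator, map_top_of_surjective f hf]
      · rintro _ ⟨y, rfl⟩
        obtain ⟨s, rfl⟩ := hf y
        exact ⟨s ^ p, mem_sup_right (subset_closure ⟨s, rfl⟩), map_pow f s p⟩
    obtain ⟨s, hs, e⟩ := hle hfr
    have h2 : x * (s : G)⁻¹ ∈ N := by
      refine mem_inf.2 ⟨mul_mem hxP (inv_mem s.2), ⟨⟨x, hPH hxP⟩ * ⟨s, hPH s.2⟩⁻¹, ?_, rfl⟩⟩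
      rw [SetLike.mem_coe, ← QuotientGroup.eq_one_iff, ← QuotientGroup.mk'_apply (pResidual p H),
        map_mul, map_inv, mul_inv_eq_one]
      exact e.symm
    rw [← inv_mul_cancel_right x (s : G)]
    exact mul_mem (mem_sup_left h2) (mem_sup_right (mem_map_of_mem _ hs))
  have htate := CfsgLib.Fusion.tate P.2 (CfsgLib.Fusion.groupFusion_isSaturated P) hNhyp hNn hcover
  rw [CfsgLib.Fusion.hyp_group_eq P] at htate
  refine le_antisymm (le_inf hRG hRH) fun g hg => ?_
  obtain ⟨hgG, hgH⟩ := mem_inf.1 hg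
  obtain ⟨s, hs, e⟩ := hPπ ⟨g, hgH⟩
  have h1 : (s : G)⁻¹ * g ∈ R := ⟨s⁻¹ * ⟨g, hgH⟩, (QuotientGroup.eq.1 (show (s : ↥H ⧸ pResidual p H) = ((⟨g, hgH⟩ : H) : ↥H ⧸ pResidual p H)
    from e)), rfl⟩
  have h2 : (s : G) ∈ N := htate.le (mem_inf.2 ⟨hs, by
    rw [← mul_inv_cancel_right (s : G) ((s : G)⁻¹ * g), mul_inv_cancel_left]
    exact mul_mem hgG (inv_mem (hRG h1))⟩)
  rw [← mul_inv_cancel_left (s : G) g]
  exact mul_mem (mem_inf.1 h2).2 h1

/-- The theorem of Hall and Wielandt. -/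
theorem pResidualOf_normalizer_eq (P : Sylow p G) (Q : Subgroup G)
    (hQ : IsWeaklyClosed Q (P : Subgroup G))
    (hengel : ∀ u ∈ (P : Subgroup G), ∀ z ∈ Q, (engel z)^[p - 1] u = 1) :
    pResidualOf p (normalizer (Q : Set G)) = pResidual p G ⊓ normalizer (Q : Set G) := by
  refine pResidualOf_normalizer_eq_of_noWitness P Q hQ fun L _ hLP M z ψ _ hz _ x _ h => ?_
  have hs : Function.Semiconj (L.subtype : L → G) (engel z) (engel (z : G)) := fun v => rfl
  have h1 : (engel z)^[p - 1] x = 1 := by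
    apply L.subtype_injective
    rw [(hs.iterate_right (p - 1)).eq, map_one]
    exact hengel _ (hLP x.2) _ hz
  rw [show (⟨_, h⟩ : M) = 1 from Subtype.ext h1, map_one]

end CfsgLib.Transfer
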