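import Cfsg.Agent.Lib.Transfer.ZJComplement
import Cfsg.Agent.Lib.Transfer.QuaternionComplement

/-!
# A centric characteristic subgroup detecting normal `p`-complements
-/

set_option autoImplicit false

open Subgroup Cfsg CfsgLib.PLocal
open scoped commutatorElement

universe u

namespace CfsgLib.Transfer

/-- The property required of the subgroup `K` of `S`. -/
def DetectsComplement (p : ℕ) {S : Type u} [Group S] (K : Subgroup S) : Prop :=
  ∀ (G : Type u) [Group G] [Finite G] (P : Sylow p G) (ι : S →* G), Function.Injective ι →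
    ι.range = (P : Subgroup G) →
    (∀ g ∈ normalizer (K.map ι : Set G), Nat.Coprime (orderOf g) p →
      g ∈ centralizer (K.map ι : Set G)) →
    HasNormalPComplement p G

theorem hasNormalPComplement_of_central_quotient {p : ℕ} [Fact p.Prime] {G : Type*} [Group G]
    [Finite G] (Z : Subgroup G) [Z.Normal] (hZc : Z ≤ Subgroup.center G) (hZp : IsPGroup p Z)
    (h : HasNormalPComplement p (G ⧸ Z)) : HasNormalPComplement p G := by
  obtain ⟨P⟩ : Nonempty (Sylow p G) := inferInstance
  refine (hasNormalPComplement_iff_forall_centralizing P).mpr fun Q hQ g hg hgp => ?_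
  let π := QuotientGroup.mk' Z
  have h1 := (hasNormalPComplement_iff_forall_centralizing
    (P.mapSurjective (QuotientGroup.mk'_surjective Z))).mp h (Q.map π) (map_mono hQ) (π g)
    (le_normalizer_map π (mem_map_of_mem π hg))
    (Nat.Coprime.coprime_dvd_left (orderOf_map_dvd π g) hgp)
  rw [mem_centralizer_iff]
  intro q hq
  have hw : ⁅g, q⁆ ∈ Z := by
    refine (QuotientGroup.eq_one_iff _).mp ?_
    change π ⁅g, q⁆ = 1
    rw [map_commutatorElement, commutatorElement_eq_one_iff_mul_comm]
    exact (mem_centralizer_iff.mp h1 _ (mem_map_of_mem π hq)).symm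
  obtain ⟨k, hk⟩ := hZp ⟨_, hw⟩
  have h4 := eq_one_of_conj_eq_mul hgp ⟨k, congrArg Subtype.val hk⟩
    (mul_inv_eq_iff_eq_mul.mpr (mem_center_iff.mp (hZc hw) g))
    (show g * q * g⁻¹ = ⁅g, q⁆ * q by rw [commutatorElement_def]; group)
  exact (commutatorElement_eq_one_iff_mul_comm.mp h4).symm

/-- **A centric characteristic subgroup detecting normal `p`-complements**. -/
theorem exists_detectsComplement {p : ℕ} [Fact p.Prime] (hp2 : p ≠ 2) :
    ∀ (n : ℕ) (S : Type u) [Group S] [Finite S], Nat.card S ≤ n → IsPGroup p S →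
      ∃ K : Subgroup S, K.Characteristic ∧ centralizer (K : Set S) ≤ K ∧ DetectsComplement p K := by
  intro n
  induction n with
  | zero => intro S _ _ h; exact absurd h (by have := Nat.card_pos (α := S); omega)
  | succ n ih =>
    intro S _ _ hn hS
    by_cases htriv : (⊤ : Subgroup S) = ⊥
    · refine ⟨⊤, inferInstance, le_top, fun G _ _ P ι hι hr _ => ?_⟩
      refine hasNormalPComplement_of_not_dvd fun hd => ?_
      refine P.not_dvd_index ?_
      have : (P : Subgroup G) = ⊥ := by
        rw [← hr, MonoidHom.range_eq_map, htriv, Subgroup.map_bot]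
      rwa [this, index_bot]
    let Z : Subgroup S := maxCenter 0 (⊤ : Subgroup S)
    have hZchar : Z.Characteristic := characteristic_iff_map_eq.mpr fun α => by
      rw [map_maxCenter (f := α.toMonoidHom) α.injective,
        Subgroup.map_top_of_surjective _ α.surjective]
    have hK₁char : (centralizer (Z : Set S)).Characteristic := inferInstance
    let K₁ : Subgroup S := centralizer (Z : Set S)
    have hZK : Z ≤ K₁ := fun x hx => mem_centralizer_iff.mpr fun y hy =>
      maxCenter_comm 0 _ y hy x hx
    have hZne : Z ≠ ⊥ := by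
      have h := (subgroupFunctor_centerThompsonAOf.{u} (p := p)).ne_bot S ⊤
        (hS.of_equiv topEquiv.symm) htriv
      rwa [centerThompsonAOf_eq] at h
    let Z₁ : Subgroup K₁ := Z.subgroupOf K₁
    have hZ₁c : Z₁ ≤ Subgroup.center K₁ := fun x hx => mem_center_iff.mpr fun y =>
      Subtype.ext (mem_centralizer_iff.mp y.2 x hx).symm
    have hZ₁n : Z₁.Normal := inferInstance
    obtain ⟨Kb, hKbchar, hKbc, hKb⟩ := ih (K₁ ⧸ Z₁) (by
      have h1 := Z₁.card_mul_index
      have h2 : 1 < Nat.card Z₁ := by
        rw [Nat.card_congr (subgroupOfEquivOfLe hZK).toEquiv]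
        exact (one_lt_card_iff_ne_bot Z).mpr hZne
      have h3 : 0 < Z₁.index := Nat.pos_of_ne_zero index_ne_zero_of_finite
      have h4 : Nat.card K₁ ≤ Nat.card S := card_le_card_group K₁
      have h5 := lt_mul_left h3 h2
      rw [← index_eq_card]
      omega) ((hS.to_subgroup K₁).to_quotient Z₁)
    let K' : Subgroup K₁ := Kb.comap (QuotientGroup.mk' Z₁)
    let K : Subgroup S := K'.map K₁.subtype
    have hZK' : Z₁ ≤ K' := QuotientGroup.le_comap_mk' Z₁ Kb
    have hZleK : Z ≤ K := fun x hx => ⟨⟨x, hZK hx⟩, hZK' hx, rfl⟩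
    have hinv : ∀ β : MulAut K₁, Z₁.map β.toMonoidHom = Z₁ → ∀ x ∈ K', β x ∈ K' := by
      intro β hβ x hx
      have h := characteristic_iff_map_eq.mp hKbchar (QuotientGroup.congr Z₁ Z₁ β hβ)
      have hx' : QuotientGroup.congr Z₁ Z₁ β hβ (QuotientGroup.mk' Z₁ x) ∈ Kb :=
        h.le (mem_map_of_mem _ hx)
      exact hx'
    refine ⟨K, characteristic_iff_map_le.mpr fun α => ?_, fun x hx => ?_, ?_⟩
    · rintro _ ⟨_, ⟨x, hx, rfl⟩, rfl⟩
      let β : MulAut K₁ := (K₁.equivMapOfInjective α.toMonoidHom α.injective).trans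
        (MulEquiv.subgroupCongr (characteristic_iff_map_eq.mp hK₁char α))
      have hβ : ∀ y : K₁, (β y : S) = α y := fun y => rfl
      have hβZ : Z₁.map β.toMonoidHom = Z₁ := by
        apply map_injective K₁.subtype_injective
        rw [Subgroup.map_map, map_subgroupOf_eq_of_le hZK]
        calc Z₁.map (K₁.subtype.comp β.toMonoidHom) = Z₁.map (α.toMonoidHom.comp K₁.subtype) := rfl
          _ = (Z₁.map K₁.subtype).map α.toMonoidHom := (Subgroup.map_map ..).symm
          _ = Z := by rw [map_subgroupOf_eq_of_le hZK, characteristic_iff_map_eq.mp hZchar α]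
      exact ⟨β x, hinv β hβZ x hx, rfl⟩
    · have hx₁ : x ∈ K₁ := Subgroup.centralizer_le hZleK hx
      refine ⟨⟨x, hx₁⟩, hKbc (mem_centralizer_iff.mpr ?_), rfl⟩
      intro y hy
      obtain ⟨y, rfl⟩ := QuotientGroup.mk'_surjective Z₁ y
      rw [← map_mul, ← map_mul]
      congr 1
      exact Subtype.ext (mem_centralizer_iff.mp hx y ⟨y, hy, rfl⟩)
    intro G _ _ P ι hι hr hyp
    have hmapZ : Z.map ι = maxCenter 0 (P : Subgroup G) := by
      rw [map_maxCenter hι, ← MonoidHom.range_eq_map, hr]
    refine hasNormalPComplement_of_centerThompsonAOf hp2 P ?_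
    rw [centerThompsonAOf_eq, ← hmapZ]
    let ZG : Subgroup G := Z.map ι
    let C₁ : Subgroup G := centralizer (ZG : Set G)
    let P₁ : Subgroup G := K₁.map ι
    have hP₁ : P₁ = (P : Subgroup G) ⊓ C₁ := by
      refine le_antisymm ?_ ?_
      · rintro _ ⟨k, hk, rfl⟩
        refine ⟨hr ▸ ⟨k, rfl⟩, mem_centralizer_iff.mpr ?_⟩
        rintro _ ⟨z, hz, rfl⟩
        rw [← map_mul, ← map_mul, mem_centralizer_iff.mp hk z hz]
      · rintro x ⟨hx, hxC⟩
        obtain ⟨k, rfl⟩ : x ∈ ι.range := by rw [hr]; exact hx
        refine ⟨k, mem_centralizer_iff.mpr fun z hz => hι ?_, rfl⟩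
        rw [map_mul, map_mul]
        exact mem_centralizer_iff.mp hxC _ (mem_map_of_mem ι hz)
    -- the centralizer has a normal complement
    have hC₁ : HasNormalPComplement p C₁ := by
      let ι₁ : K₁ →* C₁ := (ι.comp K₁.subtype).codRestrict C₁ fun k =>
        (hP₁.le (mem_map_of_mem ι k.2)).2
      have hι₁ : Function.Injective ι₁ := fun a b h => Subtype.ext (hι (congrArg Subtype.val h))
      let Z' : Subgroup C₁ := Z₁.map ι₁
      have hZ'c : Z' ≤ Subgroup.center C₁ := by
        rintro _ ⟨z, hz, rfl⟩
        exact mem_center_iff.mpr fun y => Subtype.ext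
          (mem_centralizer_iff.mp y.2 _ (mem_map_of_mem ι hz)).symm
      have hZ'n : Z'.Normal := ⟨fun z hz y => by
        rw [mem_center_iff.mp (hZ'c hz) y, mul_inv_cancel_right]; exact hz⟩
      refine hasNormalPComplement_of_central_quotient Z' hZ'c
        (((hS.to_subgroup K₁).to_subgroup Z₁).map ι₁) ?_
      let φ : K₁ ⧸ Z₁ →* C₁ ⧸ Z' := QuotientGroup.map Z₁ Z' ι₁ fun z hz => mem_map_of_mem ι₁ hz
      have hφ : Function.Injective φ := by
        rw [injective_iff_map_eq_one]
        intro a ha
        obtain ⟨a, rfl⟩ := QuotientGroup.mk'_surjective Z₁ a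
        refine (QuotientGroup.eq_one_iff a).mpr ?_
        obtain ⟨z, hz, he⟩ := (QuotientGroup.eq_one_iff (ι₁ a)).mp ha
        exact hι₁ he ▸ hz
      have hmax : ¬ p ∣ ι₁.range.index := by
        have hn : (C₁.subgroupOf (normalizer (ZG : Set G))).Normal :=
          normal_subgroupOf_of_le_normalizer
            (normalizer_le_centralizer_normalizer ZG)
        have hPN : (P : Subgroup G) ≤ normalizer (ZG : Set G) := by
          change _ ≤ normalizer ((Z.map ι : Subgroup G) : Set G)
          rw [hmapZ]
          exact le_normalizer.trans (maxCenter_le_normalizer _)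
        have hd : ¬ p ∣ ((P.subtype hPN : Subgroup (normalizer (ZG : Set G))).subgroupOf
            (C₁.subgroupOf (normalizer (ZG : Set G)))).index :=
          not_dvd_index_subgroupOf_of_normal (P.subtype hPN) _
        intro h
        refine hd (h.trans (dvd_of_eq ?_))
        have e : ι₁.range = (P : Subgroup G).subgroupOf C₁ := by
          apply map_injective C₁.subtype_injective
          rw [← MonoidHom.range_comp, subgroupOf_map_subtype]
          change (ι.comp K₁.subtype).range = _
          rw [MonoidHom.range_comp, range_subtype]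
          exact hP₁
        rw [e, Sylow.coe_subtype]
        change (P : Subgroup G).relIndex C₁ = Subgroup.relIndex _ _
        rw [relIndex_subgroupOf (centralizer_le_normalizer _)]
      let PT : Sylow p C₁ :=
        ((hS.to_subgroup K₁).of_equiv (MonoidHom.ofInjective hι₁)).toSylow hmax
      refine hKb (C₁ ⧸ Z') (PT.mapSurjective (QuotientGroup.mk'_surjective Z')) φ hφ ?_ ?_
      · rw [Sylow.coe_mapSurjective]
        change φ.range = ι₁.range.map _
        rw [← MonoidHom.range_comp, MonoidHom.range_eq_map, ← Subgroup.map_top_of_surjective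
          (QuotientGroup.mk' Z₁) (QuotientGroup.mk'_surjective Z₁), Subgroup.map_map,
          MonoidHom.range_eq_map]
        rfl
      intro x hx hxp
      obtain ⟨x, rfl⟩ := QuotientGroup.mk'_surjective Z' x
      obtain ⟨c, hcz, d, -, hcd, ⟨j, hj⟩, hdp⟩ := exists_pPart_mul (p := p) x
      let π := QuotientGroup.mk' Z'
      have hc1 : π c = 1 := by
        have h1 : (π c) ^ p ^ j = 1 := by
          rw [← map_pow, orderOf_dvd_iff_pow_eq_one.mp hj, map_one]
        have h2 : (π c) ^ orderOf (π x) = 1 := by
          obtain ⟨i, rfl⟩ := hcz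
          rw [map_zpow, ← zpow_natCast, zpow_comm, zpow_natCast, pow_orderOf_eq_one, one_zpow]
        have h3 := pow_gcd_eq_one.mpr ⟨h1, h2⟩
        rwa [(hxp.symm.pow_left j).gcd_eq_one, pow_one] at h3
      have hxd : π x = π d := by rw [← hcd, map_mul, hc1, one_mul]
      have hdN : d ∈ normalizer (K'.map ι₁ : Set C₁) := by
        have e : (Kb.map φ).comap π = K'.map ι₁ := by
          apply le_antisymm
          · intro y hy
            obtain ⟨k, hk, hky⟩ := hy
            obtain ⟨k, rfl⟩ := QuotientGroup.mk'_surjective Z₁ k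
            obtain ⟨z, hz, hze⟩ := (QuotientGroup.eq (s := Z')).mp hky
            refine ⟨k * z, mul_mem hk (hZK' hz), ?_⟩
            rw [map_mul, hze, mul_inv_cancel_left]
          · rintro _ ⟨k, hk, rfl⟩
            exact ⟨_, hk, rfl⟩
        rw [← e, ← comap_normalizer_eq_of_surjective _ (QuotientGroup.mk'_surjective Z'),
          mem_comap]
        change π d ∈ normalizer (Kb.map φ : Set (C₁ ⧸ Z'))
        rw [← hxd]
        exact hx
      have hmapK : (K'.map ι₁).map C₁.subtype = K.map ι := by
        rw [Subgroup.map_map, Subgroup.map_map]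
        rfl
      have hdG : (d : G) ∈ centralizer (K.map ι : Set G) :=
        hyp d (hmapK ▸ le_normalizer_map C₁.subtype (mem_map_of_mem C₁.subtype hdN))
          (by rwa [← Subgroup.coe_subtype, orderOf_injective C₁.subtype C₁.subtype_injective])
      rw [show QuotientGroup.mk' Z' x = π d from hxd, mem_centralizer_iff]
      rintro _ ⟨k, hk, rfl⟩
      obtain ⟨k, rfl⟩ := QuotientGroup.mk'_surjective Z₁ k
      change π (ι₁ k) * π d = π d * π (ι₁ k)
      rw [← map_mul, ← map_mul]
      congr 1
      exact Subtype.ext (mem_centralizer_iff.mp hdG _ ⟨k, ⟨k, hk, rfl⟩, rfl⟩)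
    -- the normalizer
    let N₁ : Subgroup G := normalizer (ZG : Set G)
    let C : Subgroup N₁ := C₁.subgroupOf N₁
    have hCn : C.Normal :=
      normal_subgroupOf_of_le_normalizer (normalizer_le_centralizer_normalizer ZG)
    have hPN : (P : Subgroup G) ≤ N₁ := by
      change _ ≤ normalizer ((Z.map ι : Subgroup G) : Set G)
      rw [hmapZ]
      exact le_normalizer.trans (maxCenter_le_normalizer _)
    have hp' : ∀ x : N₁, Nat.Coprime (orderOf x) p → x ∈ C := by
      intro x hxp
      obtain ⟨c, hc, m, hm, hxcm⟩ :=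
        CfsgLib.PLocal.exists_mul_normalizer (P.subtype hPN) C x
      let π := QuotientGroup.mk' C
      obtain ⟨a, -, b, hb, hab, ⟨j, hj⟩, hbp⟩ := exists_pPart_mul (p := p) m
      have hbC : b ∈ C := by
        have hbm : b ∈ normalizer (((P.subtype hPN : Subgroup N₁) ⊓ C : Subgroup N₁) : Set N₁) :=
          zpowers_le.mpr hm hb
        have hbG : (b : G) ∈ normalizer (P₁ : Set G) := by
          have e : (((P.subtype hPN : Subgroup N₁) ⊓ C : Subgroup N₁)).map N₁.subtype = P₁ := by
            rw [Sylow.coe_subtype]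
            change (((P : Subgroup G) ⊓ C₁).subgroupOf N₁).map N₁.subtype = _
            rw [map_subgroupOf_eq_of_le (inf_le_left.trans hPN), hP₁]
          rw [← e]
          exact le_normalizer_map N₁.subtype (mem_map_of_mem N₁.subtype hbm)
        obtain ⟨ψ, hψ⟩ := mem_normalizer_conj_equiv hbG
        let e := K₁.equivMapOfInjective ι hι
        let β : MulAut K₁ := MulAut.congr e.symm ψ
        have hβ : ∀ y : K₁, ι (β y) = (b : G) * ι y * (b : G)⁻¹ := by
          intro y
          have h1 := hψ 1 (e y)
          rw [pow_one, pow_one] at h1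
          have h2 : e (β y) = ψ (e y) := by simp [β, MulAut.congr]
          have h3 : (e (β y) : G) = ι (β y) := rfl
          rw [← h3, h2, h1]
          rfl
        have hβZ : Z₁.map β.toMonoidHom = Z₁ := by
          apply map_injective K₁.subtype_injective
          apply map_injective hι
          rw [map_subgroupOf_eq_of_le hZK, Subgroup.map_map, Subgroup.map_map]
          have e1 : ι.comp (K₁.subtype.comp β.toMonoidHom) =
              (MulAut.conj (b : G)).toMonoidHom.comp (ι.comp K₁.subtype) := by
            ext y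
            exact hβ y
          rw [MonoidHom.comp_assoc] at *
          rw [e1, ← Subgroup.map_map, ← Subgroup.map_map, map_subgroupOf_eq_of_le hZK]
          exact mem_normalizer_iff_map_conj_eq.mp b.2
        have hKG : K.map ι ≤ (K.map ι).comap (MulAut.conj (b : G)).toMonoidHom := by
          rintro _ ⟨_, ⟨k, hk, rfl⟩, rfl⟩
          refine ⟨β k, ⟨β k, hinv β hβZ k hk, rfl⟩, ?_⟩
          exact hβ k
        have hbN : (b : G) ∈ normalizer (K.map ι : Set G) := by
          refine mem_normalizer_iff_map_conj_eq.mpr ?_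
          refine eq_of_le_of_card_ge (map_le_iff_le_comap.mpr hKG) (le_of_eq ?_)
          exact (card_map_of_injective (MulAut.conj (b : G)).injective).symm
        have hbc := hyp b hbN
          (by rwa [← Subgroup.coe_subtype, orderOf_injective N₁.subtype N₁.subtype_injective])
        exact Subgroup.centralizer_le (map_mono hZleK) hbc
      refine (QuotientGroup.eq_one_iff x).mp ?_
      have hxa : π x = π a := by
        rw [hxcm, ← hab, map_mul, map_mul, show π c = 1 from (QuotientGroup.eq_one_iff c).mpr hc,
          show π b = 1 from (QuotientGroup.eq_one_iff b).mpr hbC, one_mul, mul_one]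
      have h1 : (π x) ^ p ^ j = 1 := by
        rw [hxa, ← map_pow, orderOf_dvd_iff_pow_eq_one.mp hj, map_one]
      have h2 : (π x) ^ orderOf x = 1 := by rw [← map_pow, pow_orderOf_eq_one, map_one]
      have h3 := pow_gcd_eq_one.mpr ⟨h1, h2⟩
      rw [(hxp.symm.pow_left j).gcd_eq_one, pow_one] at h3
      exact h3
    have hCcomp : HasNormalPComplement p C :=
      (hasNormalPComplement_congr (subgroupOfEquivOfLe (centralizer_le_normalizer _))).mpr hC₁
    refine hasNormalPComplement_iff_pResidual.mpr ?_
    intro hd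
    refine hasNormalPComplement_iff_pResidual.mp hCcomp (hd.trans ?_)
    have hle : pResidual p N₁ ≤ (pResidual p C).map C.subtype := by
      refine (closure_le _).mpr fun x hx => ?_
      refine ⟨⟨x, hp' x hx⟩, mem_pResidual_of_coprime ?_, rfl⟩
      rwa [← orderOf_injective C.subtype C.subtype_injective]
    exact (card_dvd_of_le hle).trans (dvd_of_eq (card_map_of_injective C.subtype_injective))

end CfsgLib.Transfer
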