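import Mathlib
import Cfsg.Agent.Lib.Involutions.BaerSuzuki
import Cfsg.Agent.Lib.PLocal.Offender

/-!
# Quadratic best offenders for the prime two, abelian Sylow subgroups

Such an offender not contained in `O₂` yields a natural module for `S₃`.
-/

set_option autoImplicit false

open Subgroup

namespace CfsgLib.Transfer

variable {X V : Type*} [Group X] [CommGroup V] {ρ : X →* MulAut V}

/-- The common fixed points of a subgroup of operators. -/
def actionFixed (ρ : X →* MulAut V) (B : Subgroup X) : Subgroup V where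
  carrier := {v | ∀ b ∈ B, ρ b v = v}
  one_mem' _ _ := map_one _
  mul_mem' hv hw b hb := by rw [map_mul, hv b hb, hw b hb]
  inv_mem' hv b hb := by rw [map_inv, hv b hb]

theorem mem_actionFixed {B : Subgroup X} {v : V} :
    v ∈ actionFixed ρ B ↔ ∀ b ∈ B, ρ b v = v := Iff.rfl

theorem actionFixed_map_conj (B : Subgroup X) (g : X) :
    actionFixed ρ (B.map (MulAut.conj g).toMonoidHom) =
      (actionFixed ρ B).map (ρ g).toMonoidHom := by
  ext v
  constructor
  · intro hv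
    refine ⟨ρ g⁻¹ v, fun b hb => ?_, ?_⟩
    · have h := congrArg (ρ g⁻¹) (hv _ (mem_map_of_mem _ hb))
      rw [← MulAut.mul_apply, ← map_mul, show g⁻¹ * (MulAut.conj g).toMonoidHom b = b * g⁻¹ by
        simp [mul_assoc], map_mul, MulAut.mul_apply] at h
      exact h
    · show ρ g (ρ g⁻¹ v) = v
      rw [← MulAut.mul_apply, ← map_mul, mul_inv_cancel, map_one]
      rfl
  · rintro ⟨w, hw, rfl⟩ b ⟨b₀, hb₀, rfl⟩
    show ρ ((MulAut.conj g).toMonoidHom b₀) (ρ g w) = ρ g w
    rw [← MulAut.mul_apply, ← map_mul, show (MulAut.conj g).toMonoidHom b₀ * g = g * b₀ by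
      simp [mul_assoc], map_mul, MulAut.mul_apply, hw b₀ hb₀]

theorem card_actionFixed_map_conj (B : Subgroup X) (g : X) :
    Nat.card (actionFixed ρ (B.map (MulAut.conj g).toMonoidHom)) =
      Nat.card (actionFixed ρ B) := by
  rw [actionFixed_map_conj]
  exact (Nat.card_congr
    ((actionFixed ρ B).equivMapOfInjective _ (ρ g).injective).toEquiv).symm

theorem fixed_of_mem_sup {A A' : Subgroup X} {h : X} (hh : h ∈ A ⊔ A') {z : V}
    (hz : z ∈ actionFixed ρ A) (hz' : z ∈ actionFixed ρ A') : ρ h z = z := by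
  let St : Subgroup X :=
    { carrier := {x | ρ x z = z}
      one_mem' := by simp
      mul_mem' := fun {x y} hx hy => by
        show ρ (x * y) z = z
        rw [map_mul, MulAut.mul_apply, show ρ y z = z from hy, show ρ x z = z from hx]
      inv_mem' := fun {x} hx => by
        show ρ x⁻¹ z = z
        conv_lhs => rw [← (show ρ x z = z from hx)]
        rw [← MulAut.mul_apply, ← map_mul, inv_mul_cancel, map_one]
        rfl }
  exact (sup_le (fun x hx => (hz x hx : x ∈ St)) (fun x hx => (hz' x hx : x ∈ St)) : A ⊔ A' ≤ St) hh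

theorem div_apply_mul (x y : X) (u : V) :
    ρ (x * y) u / u = ρ x (ρ y u / u) * (ρ x u / u) := by
  rw [map_div, ← MulAut.mul_apply, ← map_mul, div_mul_div_cancel]

/-- The elements moving `u` inside the common fixed points of `A` and `A'`. -/
def moveSubgroup (ρ : X →* MulAut V) (A A' : Subgroup X) (u : V) : Subgroup X where
  carrier := {h | h ∈ A ⊔ A' ∧ ρ h u / u ∈ actionFixed ρ A ⊓ actionFixed ρ A'}
  one_mem' := ⟨one_mem _, by simp [one_mem]⟩
  mul_mem' := fun {x y} hx hy => ⟨mul_mem hx.1 hy.1, by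
    rw [div_apply_mul, fixed_of_mem_sup hx.1 hy.2.1 hy.2.2]
    exact mul_mem hy.2 hx.2⟩
  inv_mem' := fun {x} hx => ⟨inv_mem hx.1, by
    have h := div_apply_mul (ρ := ρ) x⁻¹ x u
    rw [inv_mul_cancel, map_one, MulAut.one_apply, div_self',
      fixed_of_mem_sup (inv_mem hx.1) hx.2.1 hx.2.2] at h
    rw [eq_inv_of_mul_eq_one_right h.symm]
    exact inv_mem hx.2⟩

variable [Finite X] [Finite V]

/-- The commutation map of a point fixed by `A'` is onto the fixed points of `A`. -/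
theorem exists_div_eq_of_offender {A A' : Subgroup X} {g : X} (hg : g ∈ A ⊔ A')
    (hA' : A' = A.map (MulAut.conj g).toMonoidHom)
    (hAc : ∀ a ∈ A, ∀ b ∈ A, a * b = b * a)
    (hq : ∀ a ∈ A, ∀ b ∈ A, ∀ v, ρ b (ρ a v / v) = ρ a v / v)
    (hoff : ∀ B : Subgroup X, B ≤ A → Nat.card B * Nat.card (actionFixed ρ B) ≤
      Nat.card A * Nat.card (actionFixed ρ A))
    (hcomm : ∀ H : Subgroup X, H ≤ A ⊔ A' → H ≠ A ⊔ A' → A' ≤ H →
      ∀ b ∈ A, b ∈ H → ∀ a' ∈ A', b * a' = a' * b)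
    {u : V} (hu' : u ∈ actionFixed ρ A') (hu : u ∉ actionFixed ρ A) {y : V}
    (hy : y ∈ actionFixed ρ A) : ∃ a ∈ A, ρ a u / u / y ∈ actionFixed ρ A' := by
  have hA'H : A' ≤ moveSubgroup ρ A A' u := fun a ha => by
    refine ⟨mem_sup_right ha, ?_⟩
    rw [hu' a ha, div_self']
    exact one_mem _
  have hproper : moveSubgroup ρ A A' u ≠ A ⊔ A' := by
    intro he
    refine hu fun a ha => ?_
    have hm : ∀ x ∈ A ⊔ A', ρ x u / u ∈ actionFixed ρ A ⊓ actionFixed ρ A' := fun x hx =>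
      (he.symm ▸ hx : x ∈ moveSubgroup ρ A A' u).2
    have hfix : ∀ x ∈ A ⊔ A', ∀ y ∈ A ⊔ A', ρ (x * y) u / u = ρ y u / u * (ρ x u / u) := by
      intro x hx y hy
      rw [div_apply_mul, fixed_of_mem_sup hx (hm y hy).1 (hm y hy).2]
    have ha' : g * a * g⁻¹ ∈ A' := hA' ▸ ⟨a, ha, by simp⟩
    have h1 : ρ (g * a * g⁻¹) u / u = 1 := by rw [hu' _ ha', div_self']
    have hga : g * a ∈ A ⊔ A' := mul_mem hg (mem_sup_left ha)
    have h2 := hfix _ hga _ (inv_mem hg)
    rw [h1, hfix _ hg _ (mem_sup_left ha)] at h2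
    have h3 := hfix _ hg _ (inv_mem hg)
    rw [mul_inv_cancel, map_one, MulAut.one_apply, div_self'] at h3
    rw [mul_comm (ρ a u / u), ← mul_assoc, ← h3, one_mul] at h2
    exact div_eq_one.1 h2.symm
  -- the elements of `A` fixing all fixed points of `A'`
  let B : Subgroup X :=
    { carrier := {b | b ∈ A ∧ ∀ x ∈ actionFixed ρ A', ρ b x = x}
      one_mem' := ⟨one_mem _, fun x _ => by simp⟩
      mul_mem' := fun {b c} hb hc => ⟨mul_mem hb.1 hc.1, fun x hx => by
        rw [map_mul, MulAut.mul_apply, hc.2 x hx, hb.2 x hx]⟩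
      inv_mem' := fun {b} hb => ⟨inv_mem hb.1, fun x hx => by
        conv_lhs => rw [← hb.2 x hx]
        rw [← MulAut.mul_apply, ← map_mul, inv_mul_cancel, map_one]
        rfl⟩ }
  let F : Subgroup V := actionFixed ρ A
  let f : A →* F := MonoidHom.mk' (fun a => ⟨ρ (a : X) u / u, fun b hb => hq _ a.2 b hb u⟩)
    fun a b => Subtype.ext (by
      show ρ ((a * b : A) : X) u / u = ρ (a : X) u / u * (ρ (b : X) u / u)
      rw [Subgroup.coe_mul, div_apply_mul, hq _ b.2 _ a.2 u, mul_comm])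
  let N : Subgroup F := (actionFixed ρ A').subgroupOf F
  let ψ : A →* F ⧸ N := (QuotientGroup.mk' N).comp f
  have hker : ψ.ker = B.subgroupOf A := by
    ext a
    rw [MonoidHom.mem_ker, mem_subgroupOf, MonoidHom.comp_apply, QuotientGroup.mk'_apply,
      QuotientGroup.eq_one_iff, mem_subgroupOf]
    constructor
    · intro h
      refine ⟨a.2, fun x hx => ?_⟩
      have hb : ∀ a' ∈ A', (a : X) * a' = a' * a :=
        hcomm _ (fun z (hz : z ∈ moveSubgroup ρ A A' u) => hz.1) hproper hA'H a a.2 ⟨mem_sup_left a.2, ⟨(f a).2, h⟩⟩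
      have hcg : (a : X) * g = g * a := by
        have hle : A ⊔ A' ≤ centralizer ({(a : X)} : Set X) := sup_le
          (fun z hz => mem_centralizer_singleton_iff.2 (hAc _ hz _ a.2))
          (fun z hz => mem_centralizer_singleton_iff.2 (hb z hz).symm)
        exact (mem_centralizer_singleton_iff.1 (hle hg)).symm
      rw [hA', actionFixed_map_conj] at hx
      obtain ⟨x₀, hx₀, rfl⟩ := hx
      show ρ (a : X) (ρ g x₀) = ρ g x₀
      rw [← MulAut.mul_apply, ← map_mul, hcg, map_mul, MulAut.mul_apply, hx₀ _ a.2]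
    · intro h
      show ρ (a : X) u / u ∈ actionFixed ρ A'
      rw [h.2 u hu', div_self']
      exact one_mem _
  have hBA : B ≤ A := fun b hb => hb.1
  have hsurj : Function.Surjective ψ := by
    rw [← MonoidHom.range_eq_top]
    refine eq_top_of_le_card _ ?_
    have h1 := Subgroup.card_eq_card_quotient_mul_card_subgroup ψ.ker
    rw [Nat.card_congr (QuotientGroup.quotientKerEquivRange ψ).toEquiv, hker,
      CfsgLib.Base.card_subgroupOf hBA] at h1
    have h2 : actionFixed ρ A ⊔ actionFixed ρ A' ≤ actionFixed ρ B :=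
      sup_le (fun x hx b hb => hx b hb.1) (fun x hx b hb => hb.2 x hx)
    have h3 := CfsgLib.PLocal.card_sup_mul_card_inf (actionFixed ρ A) (actionFixed ρ A')
      (fun x _ => by rw [mem_normalizer_iff]; intro y; simp)
    have h4 := (Nat.mul_le_mul_left (Nat.card B) (card_le_of_le h2)).trans (hoff B hBA)
    have h5 : Nat.card (actionFixed ρ A') = Nat.card (actionFixed ρ A) := by
      rw [hA', card_actionFixed_map_conj]
    have h6 := Subgroup.card_eq_card_quotient_mul_card_subgroup N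
    have h7 : Nat.card N = Nat.card ↥(actionFixed ρ A ⊓ actionFixed ρ A') := by
      rw [← CfsgLib.Base.card_map_subtype N, subgroupOf_map_subtype, inf_comm]
    rw [h7] at h6
    set z := Nat.card ↥(actionFixed ρ A ⊓ actionFixed ρ A')
    set sup := Nat.card ↥(actionFixed ρ A ⊔ actionFixed ρ A')
    set r := Nat.card ψ.range
    set q := Nat.card (F ⧸ N)
    have hB : 0 < Nat.card B := Nat.card_pos
    have hz : 0 < z := Nat.card_pos
    have hFpos : 0 < Nat.card (actionFixed ρ A) := Nat.card_pos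
    rw [h5] at h3
    have h8 : Nat.card B * (Nat.card (actionFixed ρ A) * Nat.card (actionFixed ρ A)) ≤
        Nat.card B * (r * z * Nat.card (actionFixed ρ A)) := by
      rw [← h3]
      calc Nat.card B * (sup * z) = Nat.card B * sup * z := (mul_assoc _ _ _).symm
        _ ≤ Nat.card A * Nat.card (actionFixed ρ A) * z := Nat.mul_le_mul_right z h4
        _ = _ := by rw [h1]; ring
    have h9 : Nat.card (actionFixed ρ A) ≤ r * z :=
      Nat.le_of_mul_le_mul_right (Nat.le_of_mul_le_mul_left h8 hB) hFpos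
    have h10 : q * z ≤ r * z := h6 ▸ h9
    exact Nat.le_of_mul_le_mul_right h10 hz
  obtain ⟨a, ha⟩ := hsurj (QuotientGroup.mk' N ⟨y, hy⟩)
  refine ⟨a, a.2, ?_⟩
  have h := (QuotientGroup.eq_one_iff (N := N) (f a / ⟨y, hy⟩)).1 (by
    rw [← QuotientGroup.mk'_apply, map_div, ← MonoidHom.comp_apply (QuotientGroup.mk' N) f,
      show ((QuotientGroup.mk' N).comp f) a = QuotientGroup.mk' N ⟨y, hy⟩ from ha, div_self'])
  exact h

/-- Baer–Suzuki inside a subgroup. -/
theorem exists_le_pGroup_of_pairs {p : ℕ} [Fact p.Prime] {A H : Subgroup X} (hAH : A ≤ H)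
    (h : ∀ x ∈ H, IsPGroup p ↥(A ⊔ A.map (MulAut.conj x).toMonoidHom)) :
    ∃ N : Subgroup X, N ≤ H ∧ IsPGroup p N ∧ A ≤ N ∧ H ≤ normalizer (N : Set X) := by
  obtain ⟨N, hN, hNp, hAN⟩ := CfsgLib.Involutions.baerSuzuki (A.subgroupOf H) fun x => by
    have e : (A.subgroupOf H ⊔ (A.subgroupOf H).map (MulAut.conj x).toMonoidHom).map H.subtype =
        A ⊔ A.map (MulAut.conj (x : X)).toMonoidHom := by
      rw [Subgroup.map_sup, map_subgroupOf_eq_of_le hAH, Subgroup.map_map]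
      congr 1
      conv_rhs => rw [← map_subgroupOf_eq_of_le hAH, Subgroup.map_map]
      rfl
    exact ((h x x.2).to_le e.le).of_equiv
      (equivMapOfInjective _ H.subtype H.subtype_injective).symm
  refine ⟨N.map H.subtype, map_subtype_le N, hNp.map _, ?_, ?_⟩
  · exact (map_subgroupOf_eq_of_le hAH).symm.le.trans (map_mono hAN)
  · rw [← normal_subgroupOf_iff_le_normalizer (map_subtype_le N)]
    rwa [show (N.map H.subtype).subgroupOf H = N from
      comap_map_eq_self_of_injective H.subtype_injective N]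

/-- A quadratic best offender, faithful and outside `O₂`, gives a natural `S₃`-plane. -/
theorem exists_plane_of_offender (hρ : Function.Injective ρ) (hV : ∀ v : V, v * v = 1)
    {A : Subgroup X} (hA2 : ∀ a ∈ A, a * a = 1)
    (hab : ∀ P : Subgroup X, IsPGroup 2 P → ∀ x ∈ P, ∀ y ∈ P, x * y = y * x)
    (hq : ∀ a ∈ A, ∀ b ∈ A, ∀ v, ρ b (ρ a v / v) = ρ a v / v)
    (hoff : ∀ B : Subgroup X, B ≤ A → Nat.card B * Nat.card (actionFixed ρ B) ≤
      Nat.card A * Nat.card (actionFixed ρ A))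
    (hA : ∃ x : X, ¬ IsPGroup 2 ↥(A ⊔ A.map (MulAut.conj x).toMonoidHom)) :
    ∃ a ∈ A, ∃ g : X, ∃ a₀ ∈ A, ∃ u w : V, ρ a w = w ∧ ρ a u = u * w ∧
      ρ (g * a₀ * g⁻¹) u = u ∧ ρ (g * a₀ * g⁻¹) w = w * u ∧ w ≠ 1 ∧ u ≠ w := by
  have : Fact (Nat.Prime 2) := ⟨Nat.prime_two⟩
  have hA2g : IsPGroup 2 A := fun a => ⟨1, Subtype.ext (by simpa [sq] using hA2 a a.2)⟩
  have hAc : ∀ a ∈ A, ∀ b ∈ A, a * b = b * a := hab A hA2g
  obtain ⟨x, hx⟩ := hA
  obtain ⟨M, hMbad, hmin⟩ := exists_minimalFor_of_wellFoundedLT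
    (P := fun M : Subgroup X => A ≤ M ∧ ∃ x ∈ M,
      ¬ IsPGroup 2 ↥(A ⊔ A.map (MulAut.conj x).toMonoidHom))
    (f := fun M : Subgroup X => Nat.card M) ⟨⊤, le_top, x, mem_top x, hx⟩
  obtain ⟨hAM, g, hgM, hg⟩ := hMbad
  set A' := A.map (MulAut.conj g).toMonoidHom with hA'
  have hsmall : ∀ H : Subgroup X, A ≤ H → H ≤ M → H ≠ M → ∀ y ∈ H,
      IsPGroup 2 ↥(A ⊔ A.map (MulAut.conj y).toMonoidHom) := by
    intro H h1 h2 h3 y hy
    by_contra hc
    exact h3 (eq_of_le_of_card_ge h2 (hmin ⟨h1, y, hy, hc⟩ (card_le_of_le h2)))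
  have hA'M : A' ≤ M := by
    rintro _ ⟨a, ha, rfl⟩
    exact mul_mem (mul_mem hgM (hAM ha)) (inv_mem hgM)
  have hMeq : A ⊔ A' = M := by
    by_contra hne
    obtain ⟨N, -, hN2, hAN, hNn⟩ := exists_le_pGroup_of_pairs (p := 2) le_sup_left
      (hsmall _ le_sup_left (sup_le hAM hA'M) hne)
    exact hg ((hN2.to_sup_of_normal_left' (hA2g.map _) (le_sup_right.trans hNn)).to_le
      (sup_le_sup_right hAN _))
  have hgI : g ∈ A ⊔ A' := hMeq.symm ▸ hgM
  have hgI' : g⁻¹ ∈ A' ⊔ A := by rw [sup_comm]; exact inv_mem hgI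
  have hback : A = A'.map (MulAut.conj g⁻¹).toMonoidHom := by
    rw [hA', Subgroup.map_map, show (MulAut.conj g⁻¹).toMonoidHom.comp (MulAut.conj g).toMonoidHom
      = MonoidHom.id X by ext; simp [mul_assoc], Subgroup.map_id]
  -- proper subgroups containing one of the two and an element of the other
  have hkey : ∀ (C D : Subgroup X), IsPGroup 2 C → IsPGroup 2 D →
      (∀ H : Subgroup X, C ≤ H → H ≤ M → H ≠ M → ∀ y ∈ H,
        IsPGroup 2 ↥(C ⊔ C.map (MulAut.conj y).toMonoidHom)) →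
      ∀ H : Subgroup X, H ≤ M → H ≠ M → C ≤ H → ∀ b ∈ D, b ∈ H → ∀ a' ∈ C, b * a' = a' * b := by
    intro C D _ hD hC H h1 h2 h3 b hb hbH a' ha'
    obtain ⟨N, -, hN2, hCN, hNn⟩ := exists_le_pGroup_of_pairs (p := 2) h3 (hC H h3 h1 h2)
    have hz : IsPGroup 2 ↥(zpowers b) := hD.to_le (zpowers_le.2 hb)
    exact hab _ (hN2.to_sup_of_normal_left' hz ((zpowers_le.2 hbH).trans hNn)) b
      (mem_sup_right (mem_zpowers b)) a' (mem_sup_left (hCN ha'))
  have hsmall' : ∀ H : Subgroup X, A' ≤ H → H ≤ M → H ≠ M → ∀ y ∈ H,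
      IsPGroup 2 ↥(A' ⊔ A'.map (MulAut.conj y).toMonoidHom) := by
    intro H h1 h2 h3 y hy
    let H₀ := H.map (MulAut.conj g⁻¹).toMonoidHom
    have hM₀ : M.map (MulAut.conj g⁻¹).toMonoidHom = M :=
      mem_normalizer_iff_map_conj_eq.1 (le_normalizer (inv_mem hgM))
    have hne : H₀ ≠ M := fun e => h3 (map_injective (MulAut.conj g⁻¹).injective
      (e.trans hM₀.symm))
    have h := hsmall H₀ (hback.le.trans (map_mono h1)) ((map_mono h2).trans hM₀.le) hne
      _ (mem_map_of_mem _ hy)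
    have := h.map (MulAut.conj g).toMonoidHom
    rw [Subgroup.map_sup, Subgroup.map_map, ← hA'] at this
    have e : (MulAut.conj g).toMonoidHom.comp
        (MulAut.conj ((MulAut.conj g⁻¹).toMonoidHom y)).toMonoidHom =
          (MulAut.conj y).toMonoidHom.comp (MulAut.conj g).toMonoidHom := by
      ext z; simp [mul_assoc]
    rwa [e, ← Subgroup.map_map, ← hA'] at this
  have hc1 : ∀ H : Subgroup X, H ≤ A ⊔ A' → H ≠ A ⊔ A' → A' ≤ H →
      ∀ b ∈ A, b ∈ H → ∀ a' ∈ A', b * a' = a' * b := by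
    rw [hMeq]; exact hkey A' A (hA2g.map _) hA2g hsmall'
  have hc2 : ∀ H : Subgroup X, H ≤ A' ⊔ A → H ≠ A' ⊔ A → A ≤ H →
      ∀ b ∈ A', b ∈ H → ∀ a' ∈ A, b * a' = a' * b := by
    rw [sup_comm, hMeq]; exact hkey A A' hA2g (hA2g.map _) hsmall
  -- the hypotheses for the conjugate
  have hA'c : ∀ a ∈ A', ∀ b ∈ A', a * b = b * a := hab A' (hA2g.map _)
  have hq' : ∀ a ∈ A', ∀ b ∈ A', ∀ v, ρ b (ρ a v / v) = ρ a v / v := by
    rintro _ ⟨a, ha, rfl⟩ _ ⟨b, hb, rfl⟩ v
    have e : ∀ c, ∀ w, ρ ((MulAut.conj g).toMonoidHom c) (ρ g w) = ρ g (ρ c w) := fun c w => by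
      rw [← MulAut.mul_apply, ← map_mul, ← MulAut.mul_apply, ← map_mul]
      simp [mul_assoc]
    obtain ⟨w, rfl⟩ := (ρ g).surjective v
    rw [e, ← map_div, e, hq a ha b hb w]
  have hoff' : ∀ B : Subgroup X, B ≤ A' → Nat.card B * Nat.card (actionFixed ρ B) ≤
      Nat.card A' * Nat.card (actionFixed ρ A') := by
    intro B hB
    have h := hoff (B.map (MulAut.conj g⁻¹).toMonoidHom) ((map_mono hB).trans hback.ge)
    rwa [card_actionFixed_map_conj, CfsgLib.Base.card_map_mulEquiv,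
      ← card_actionFixed_map_conj A g, ← hA', ← CfsgLib.Base.card_map_mulEquiv (MulAut.conj g) A,
      ← hA'] at h
  have hcard : Nat.card (actionFixed ρ A') = Nat.card (actionFixed ρ A) := by
    rw [hA', card_actionFixed_map_conj]
  have hnle : ¬ actionFixed ρ A' ≤ actionFixed ρ A := by
    intro hle
    have heq := eq_of_le_of_card_ge hle hcard.ge
    refine hg (IsPGroup.to_le (H := A ⊔ A') (fun m => ⟨1, Subtype.ext (hρ ?_)⟩) le_rfl)
    refine MulEquiv.ext fun v => ?_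
    have hleH : A ⊔ A' ≤ moveSubgroup ρ A A' v := by
      refine sup_le (fun a ha => ⟨mem_sup_left ha, fun b hb => hq a ha b hb v, ?_⟩)
        (fun a ha => ⟨mem_sup_right ha, ?_, fun b hb => hq' a ha b hb v⟩)
      · rw [heq]; exact fun b hb => hq a ha b hb v
      · rw [← heq]; exact fun b hb => hq' a ha b hb v
    obtain ⟨-, hm⟩ := hleH m.2
    simp only [pow_one, pow_two, Subgroup.coe_mul, Subgroup.coe_one, map_one, MulAut.one_apply]
    rw [← div_eq_one, div_apply_mul, fixed_of_mem_sup m.2 hm.1 hm.2, hV]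
  have hnle' : ¬ actionFixed ρ A ≤ actionFixed ρ A' := fun hle =>
    hnle (eq_of_le_of_card_ge hle hcard.le).ge
  obtain ⟨u₀, hu', hu⟩ := SetLike.not_le_iff_exists.1 hnle
  obtain ⟨y, hy, hy'⟩ := SetLike.not_le_iff_exists.1 hnle'
  obtain ⟨a, ha, hwy⟩ := exists_div_eq_of_offender hgI hA' hAc hq hoff hc1 hu' hu hy
  set w := ρ a u₀ / u₀ with hw
  have hwA : w ∈ actionFixed ρ A := fun b hb => hq a ha b hb u₀
  have hwA' : w ∉ actionFixed ρ A' := fun h => hy' (by
    simpa using div_mem h hwy)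
  obtain ⟨a', ha', huy⟩ :=
    exists_div_eq_of_offender hgI' hback hA'c hq' hoff' hc2 hwA hwA' hu'
  set u := ρ a' w / w with hu_def
  have huA' : u ∈ actionFixed ρ A' := fun b hb => hq' a' ha' b hb w
  have huA : u ∉ actionFixed ρ A := fun h => hu (by simpa using div_mem h huy)
  obtain ⟨a₀, ha₀, rfl⟩ := (hA' ▸ ha' : a' ∈ A.map (MulAut.conj g).toMonoidHom)
  refine ⟨a, ha, g, a₀, ha₀, u, w, hwA a ha, ?_, huA' _ ha', ?_, ?_, fun h => huA (h ▸ hwA)⟩
  · have h1 : ρ a (u / u₀) = u / u₀ := huy a ha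
    rw [map_div, div_eq_div_iff_mul_eq_mul] at h1
    rw [hw, ← mul_div_assoc, eq_div_iff_mul_eq', h1]
  · rw [hu_def, mul_div_cancel]
    rfl
  · intro h
    exact hwA' (h ▸ one_mem _)

end CfsgLib.Transfer
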