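import Cfsg.Agent.Lib.Transfer.S4Recognition
import Cfsg.Agent.Lib.Transfer.QuadraticOffenderTwo
import Cfsg.Agent.Lib.Transfer.ThompsonComplement
import Cfsg.Agent.Lib.PLocal.Frattini

/-!
# Thompson factorization for the prime two, class two, no section `S₄`
-/

set_option autoImplicit false
set_option linter.style.haveILetI false

open Subgroup Cfsg CfsgLib.PLocal
open scoped commutatorElement

universe u

namespace CfsgLib.Transfer

/-- Elements of odd order centralising `V` force `G` to be `C(V)` times a Sylow 2-subgroup. -/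
theorem le_of_coprime_mem {G : Type*} [Group G] [Finite G] {p : ℕ} [Fact p.Prime] (S : Sylow p G)
    {C : Subgroup G} (hS : (S : Subgroup G) ≤ C)
    (h : ∀ d : G, Nat.Coprime (orderOf d) p → d ∈ C) : C = ⊤ := by
  rw [← index_eq_one]
  by_contra hne
  obtain ⟨q, hq, hdvd⟩ := Nat.exists_prime_and_dvd hne
  have : Fact q.Prime := ⟨hq⟩
  obtain rfl | hqp := eq_or_ne q p
  · exact S.not_dvd_index (hdvd.trans (index_dvd_of_le hS))
  · obtain ⟨Q⟩ : Nonempty (Sylow q G) := inferInstance
    have hQC : (Q : Subgroup G) ≤ C := fun x hx => by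
      refine h x ?_
      obtain ⟨k, hk⟩ := Q.isPGroup' ⟨x, hx⟩
      exact ((Nat.coprime_primes hq (Fact.out : p.Prime)).2 hqp |>.pow_left k).coprime_dvd_left
        (orderOf_dvd_iff_pow_eq_one.2 (congrArg Subtype.val hk))
    exact Q.not_dvd_index (hdvd.trans (index_dvd_of_le hQC))

/-- The core-free case. -/
theorem normalizer_thompson_eq_top_aux (n : ℕ) : ∀ (G : Type u) [Group G] [Finite G],
    Nat.card G = n → centralizer (pCore 2 G : Set G) ≤ pCore 2 G →
    ¬ InvHom (Equiv.Perm (Fin 4)) G → ∀ S : Sylow 2 G,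
    ⁅(S : Subgroup G), (S : Subgroup G)⁆ ≤ centralizer ((S : Subgroup G) : Set G) →
    normalizer (thompsonSubgroupOf 2 (S : Subgroup G) : Set G) = ⊤ := by
  induction n using Nat.strong_induction_on with
  | _ n ih =>
  intro G _ _ hn hc hS4 S hcl
  subst hn
  have : Fact (Nat.Prime 2) := ⟨Nat.prime_two⟩
  set J := thompsonSubgroupOf 2 (S : Subgroup G) with hJ
  set H := pCore 2 G with hH
  have hHS : H ≤ (S : Subgroup G) := CfsgLib.Base.pCore_le_sylow S
  -- proper subgroups above `S`
  have hsub : ∀ U : Subgroup G, U ≠ ⊤ → (S : Subgroup G) ≤ U → U ≤ normalizer (J : Set G) := by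
    intro U hU hSU
    have hlt : Nat.card U < Nat.card G :=
      lt_of_le_of_ne U.card_le_card_group fun e => hU (U.card_eq_iff_eq_top.mp e)
    have hcU : centralizer (pCore 2 U : Set U) ≤ pCore 2 U := by
      have hle : H.subgroupOf U ≤ pCore 2 U := by
        haveI : (H.subgroupOf U).Normal := normal_subgroupOf
        refine le_sSup ⟨inferInstance, ?_⟩
        exact (CfsgLib.Base.isPGroup_pCore 2 G).of_equiv
          (subgroupOfEquivOfLe (hHS.trans hSU)).symm
      intro x hx
      refine hle (hc ?_)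
      rw [mem_centralizer_iff] at hx ⊢
      intro y hy
      exact congrArg Subtype.val (hx ⟨y, hHS.trans hSU hy⟩ (hle hy))
    have hclU : ⁅((S.subtype hSU : Sylow 2 U) : Subgroup U), (S.subtype hSU : Subgroup U)⁆ ≤
        centralizer ((S.subtype hSU : Subgroup U) : Set U) := by
      rw [commutator_le]
      intro x hx y hy
      rw [mem_centralizer_iff]
      intro z hz
      exact Subtype.ext (mem_centralizer_iff.1 (hcl (commutator_mem_commutator hx hy)) z hz)
    have h := ih _ hlt U rfl hcU (fun hi => hS4 hi.of_subgroup) (S.subtype hSU) hclU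
    rw [Sylow.coe_subtype] at h
    intro x hx
    have hx' : (⟨x, hx⟩ : U) ∈
        normalizer (thompsonSubgroupOf 2 ((S : Subgroup G).subgroupOf U) : Set U) :=
      h ▸ mem_top _
    have := (le_normalizer_map U.subtype) (mem_map_of_mem U.subtype hx')
    rwa [map_thompsonSubgroupOf U.subtype_injective, map_subgroupOf_eq_of_le hSU] at this
  -- the module
  let Z : Subgroup G := H ⊓ centralizer (H : Set G)
  have hZn : Z.Normal := normal_inf_normal H (centralizer (H : Set G))
  have hZp : IsPGroup 2 Z := (CfsgLib.Base.isPGroup_pCore 2 G).to_le inf_le_left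
  have hZa : Z ≤ centralizer (Z : Set G) :=
    inf_le_right.trans (Subgroup.centralizer_le inf_le_left)
  let V : Subgroup G := omegaOne 2 Z
  have hVn : V.Normal := omegaOne_normal hZn
  have hVe : IsElementaryAbelian 2 V :=
    isElementaryAbelian_omegaOne (inf_centralizer_le_centralizer _)
  have hVS : V ≤ (S : Subgroup G) := (omegaOne_le _ _).trans (inf_le_left.trans hHS)
  let C : Subgroup G := centralizer (V : Set G)
  have hHC : H ≤ C := le_centralizer_iff.1 ((omegaOne_le _ _).trans inf_le_right)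
  have hZS : (S : Subgroup G) ⊓ centralizer ((S : Subgroup G) : Set G) ≤ Z :=
    le_inf ((inf_le_right.trans (Subgroup.centralizer_le hHS)).trans hc)
      (inf_le_right.trans (Subgroup.centralizer_le hHS))
  by_cases hodd : ∀ d : G, Nat.Coprime (orderOf d) 2 → d ∈ C
  · -- the centre of `S` is central, the Sylow 2-subgroup is normal
    let ZS : Subgroup G := (S : Subgroup G) ⊓ centralizer ((S : Subgroup G) : Set G)
    have hfix : ∀ d : G, Nat.Coprime (orderOf d) 2 → d ∈ centralizer (ZS : Set G) := fun d hd =>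
      Subgroup.centralizer_le hZS (mem_centralizer_of_omegaOne hZn hZp hZa hd (hodd d hd))
    have hcen : centralizer (ZS : Set G) = ⊤ :=
      le_of_coprime_mem S (le_centralizer_iff.1 inf_le_right) hfix
    have hcomm : ∀ z ∈ ZS, ∀ x : G, z * x = x * z := fun z hz x =>
      mem_centralizer_iff.1 (hcen.symm ▸ mem_top x : x ∈ centralizer (ZS : Set G)) z hz
    have hScl : ∀ x ∈ (S : Subgroup G), ∀ y ∈ (S : Subgroup G), ⁅x, y⁆ ∈ ZS := fun x hx y hy =>
      mem_inf.2 ⟨mul_mem (mul_mem (mul_mem hx hy) (inv_mem hx)) (inv_mem hy),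
        hcl (commutator_mem_commutator hx hy)⟩
    -- centralizer of `H` modulo `ZS`
    let K : Subgroup G :=
      { carrier := {x | ∀ h ∈ H, ⁅x, h⁆ ∈ ZS}
        one_mem' := fun h _ => by rw [commutatorElement_one_left]; exact one_mem _
        mul_mem' := fun {x y} hx hy h hh => by
          rw [show ⁅x * y, h⁆ = x * ⁅y, h⁆ * x⁻¹ * ⁅x, h⁆ by
            simp [commutatorElement_def, mul_assoc]]
          refine mul_mem ?_ (hx h hh)
          rw [← hcomm _ (hy h hh) x, mul_inv_cancel_right]
          exact hy h hh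
        inv_mem' := fun {x} hx h hh => by
          have h1 : ⁅x⁻¹, h⁆ = x⁻¹ * ⁅x, h⁆⁻¹ * x := by simp [commutatorElement_def, mul_assoc]
          rw [h1, mul_assoc, hcomm _ (inv_mem (hx h hh)) x, ← mul_assoc, inv_mul_cancel, one_mul]
          exact inv_mem (hx h hh) }
    have hKn : K.Normal := ⟨fun x hx g h hh => by
      have hh' : g⁻¹ * h * g ∈ H := by
        simpa using (pCore_normal 2 G).conj_mem h hh g⁻¹
      have h1 := hx _ hh'
      rw [show ⁅g * x * g⁻¹, h⁆ = g * ⁅x, g⁻¹ * h * g⁆ * g⁻¹ by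
        simp [commutatorElement_def, mul_assoc], ← hcomm _ h1 g, mul_inv_cancel_right]
      exact h1⟩
    have hK2 : IsPGroup 2 K := by
      refine isPGroup_of_forall_coprime fun d hd hdo => ?_
      have hdH : d ∈ centralizer (H : Set G) := by
        rw [mem_centralizer_iff]
        intro h hh
        have hz := hd h hh
        obtain ⟨k, hk⟩ := S.isPGroup' ⟨_, hz.1⟩
        have h1 : ⁅d, h⁆ = 1 := eq_one_of_conj_eq_mul (p := 2) (v := h) hdo
          ⟨k, congrArg Subtype.val hk⟩
          (by rw [← hcomm _ hz d, mul_inv_cancel_right])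
          (show d * h * d⁻¹ = ⁅d, h⁆ * h by rw [commutatorElement_def]; group)
        exact (commutatorElement_eq_one_iff_mul_comm.1 h1).symm
      obtain ⟨k, hk⟩ := CfsgLib.Base.isPGroup_pCore 2 G ⟨d, hc hdH⟩
      exact orderOf_eq_one_iff.1 (Nat.eq_one_of_dvd_coprimes (hdo.pow_right k) dvd_rfl
        (orderOf_dvd_iff_pow_eq_one.2 (congrArg Subtype.val hk)))
    have hSK : (S : Subgroup G) ≤ K := fun x hx h hh => hScl x hx h (hHS hh)
    have hKH : K ≤ H := le_sSup ⟨hKn, hK2⟩
    have hSH : (S : Subgroup G) = H := le_antisymm (hSK.trans hKH) hHS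
    refine eq_top_iff.2 (le_trans ?_ (normalizer_le_normalizer_thompsonSubgroupOf _))
    rw [normalizer_eq_top_iff.2 (hSH ▸ pCore_normal 2 G : (S : Subgroup G).Normal)]
  · push Not at hodd
    obtain ⟨d₀, hd₀, hd₀C⟩ := hodd
    have hCn : C.Normal := inferInstance
    have hCS : C ⊔ (S : Subgroup G) ≠ ⊤ := by
      intro htop
      let π := QuotientGroup.mk' C
      have hQ : IsPGroup 2 (G ⧸ C) := by
        have hs : (S : Subgroup G).map π = ⊤ := by
          have := congrArg (Subgroup.map π) htop
          rwa [Subgroup.map_sup, show C.map π = ⊥ from QuotientGroup.map_mk'_self C, bot_sup_eq,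
            map_top_of_surjective _ (QuotientGroup.mk'_surjective C)] at this
        exact (hs ▸ S.isPGroup'.map π : IsPGroup 2 (⊤ : Subgroup (G ⧸ C))).of_equiv topEquiv
      obtain ⟨k, hk⟩ := hQ (π d₀)
      have h1 : orderOf (π d₀) ∣ 2 ^ k := orderOf_dvd_iff_pow_eq_one.2 hk
      have h2 := Nat.eq_one_of_dvd_coprimes (hd₀.pow_right k) (orderOf_map_dvd π d₀) h1
      exact hd₀C ((QuotientGroup.eq_one_iff d₀).1 (orderOf_eq_one_iff.1 h2))
    have hCJ : C ≤ normalizer (J : Set G) := le_sup_left.trans (hsub _ hCS le_sup_right)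
    have hfinish : (∀ g : G, ∃ c ∈ C, ∃ m ∈ normalizer (J : Set G), g = c * m) →
        normalizer (J : Set G) = ⊤ := fun h => eq_top_iff.2 fun g _ => by
      obtain ⟨c, hcC, m, hm, rfl⟩ := h g
      exact mul_mem (hCJ hcC) hm
    by_cases hJC : J ≤ C
    · refine hfinish fun g => ?_
      obtain ⟨d, hd, m, hm, e⟩ := exists_mul_normalizer S C g
      refine ⟨d, hd, m, ?_, e⟩
      have := normalizer_le_normalizer_thompsonSubgroupOf (p := 2) _ hm
      rwa [thompsonSubgroupOf_eq_of_le (le_inf (thompsonSubgroupOf_le _ _) hJC) inf_le_left]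
        at this
    by_cases hcore : pCore 2 (G ⧸ C) = ⊥
    · exfalso
      rw [hJ, thompsonSubgroupOf_eq_sSup, sSup_le_iff] at hJC
      push Not at hJC
      obtain ⟨A, hA, hAC⟩ := hJC
      have hAa : ∀ a ∈ A, a * a = 1 := fun a ha => by simpa [sq] using hA.2.1.2 a ha
      letI : CommGroup V :=
        { (inferInstance : Group V) with
          mul_comm := fun a b => Subtype.ext (hVe.1.is_comm.comm a b |> congrArg Subtype.val) }
      let cn : G →* MulAut V := MulAut.conjNormal
      have hker : cn.ker = C := by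
        ext x
        rw [MonoidHom.mem_ker, mem_centralizer_iff, MulEquiv.ext_iff]
        exact ⟨fun h v hv => (mul_inv_eq_iff_eq_mul.1 (congrArg Subtype.val (h ⟨v, hv⟩))).symm,
          fun h v => Subtype.ext (mul_inv_eq_iff_eq_mul.2 (h v v.2).symm)⟩
      let π := QuotientGroup.mk' C
      let ρ : G ⧸ C →* MulAut V := QuotientGroup.lift C cn hker.ge
      have hρinj : Function.Injective ρ := (injective_iff_map_eq_one ρ).2 fun x hx => by
        obtain ⟨g, rfl⟩ := QuotientGroup.mk'_surjective C x
        exact (QuotientGroup.eq_one_iff g).2 (hker.le hx)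
      have hρ : ∀ (g : G) (v : V), ((ρ (π g) v : V) : G) = g * v * g⁻¹ := fun g v => rfl
      have hV2 : ∀ v : V, v * v = 1 := fun v => Subtype.ext (by simpa [sq] using hVe.2 v v.2)
      have hAS : A.map π ≤ (S : Subgroup G).map π := map_mono hA.1
      have hab : ∀ P : Subgroup (G ⧸ C), IsPGroup 2 P → ∀ x ∈ P, ∀ y ∈ P, x * y = y * x := by
        intro P hP x hx y hy
        let S' : Sylow 2 (G ⧸ C) := S.mapSurjective (QuotientGroup.mk'_surjective C)
        obtain ⟨Q, hQ⟩ := hP.exists_le_sylow
        obtain ⟨c, hc'⟩ := MulAction.exists_smul_eq (G ⧸ C) S' Q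
        have hmem : ∀ z ∈ P, ∃ s ∈ (S : Subgroup G), c * π s * c⁻¹ = z := fun z hz => by
          have h1 : z ∈ ((c • S' : Sylow 2 (G ⧸ C)) : Subgroup (G ⧸ C)) := hc' ▸ hQ hz
          rw [Sylow.coe_subgroup_smul, ← CfsgLib.Base.map_conj_eq_smul] at h1
          obtain ⟨_, ⟨s, hs, rfl⟩, rfl⟩ := h1
          exact ⟨s, hs, rfl⟩
        obtain ⟨s, hs, rfl⟩ := hmem x hx
        obtain ⟨t, ht, rfl⟩ := hmem y hy
        have h1 : ⁅π s, π t⁆ = 1 := by
          rw [← map_commutatorElement]
          refine (QuotientGroup.eq_one_iff _).2 (hHC ((hZS ?_).1))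
          exact mem_inf.2 ⟨mul_mem (mul_mem (mul_mem hs ht) (inv_mem hs)) (inv_mem ht),
            hcl (commutator_mem_commutator hs ht)⟩
        rw [conj_mul, conj_mul, commutatorElement_eq_one_iff_mul_comm.1 h1]
      have hfixed : ∀ B : Subgroup G, (actionFixed ρ (B.map π)).map V.subtype =
          V ⊓ centralizer (B : Set G) := by
        intro B
        ext v
        constructor
        · rintro ⟨v, hv, rfl⟩
          refine ⟨v.2, mem_centralizer_iff.2 fun b hb => ?_⟩
          have := congrArg Subtype.val (hv (π b) (mem_map_of_mem π hb))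
          rw [hρ] at this
          exact mul_inv_eq_iff_eq_mul.1 this
        · rintro ⟨hv, hvB⟩
          refine ⟨⟨v, hv⟩, ?_, rfl⟩
          rintro _ ⟨b, hb, rfl⟩
          exact Subtype.ext (mul_inv_eq_iff_eq_mul.2 (mem_centralizer_iff.1 hvB b hb))
      have hmax := isBestOffenderOn_of_maxEAOf hVe hVS hA
      have hoff : ∀ B : Subgroup (G ⧸ C), B ≤ A.map π →
          Nat.card B * Nat.card (actionFixed ρ B) ≤
            Nat.card (A.map π) * Nat.card (actionFixed ρ (A.map π)) := by
        intro B hB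
        let B₀ : Subgroup G := A ⊓ B.comap π
        have hB₀ : B₀.map π = B := by
          refine le_antisymm ((map_mono inf_le_right).trans (map_comap_le π B)) fun b hb => ?_
          obtain ⟨a, ha, rfl⟩ := hB hb
          exact ⟨a, ⟨ha, hb⟩, rfl⟩
        have h := hmax.1 B₀ inf_le_left
        rw [← hfixed, ← hfixed, CfsgLib.Base.card_map_subtype, CfsgLib.Base.card_map_subtype,
          hB₀] at h
        have hAc : A ⊓ C ≤ B₀ := le_inf inf_le_left fun x hx => by
          show π x ∈ B
          rw [show π x = 1 from (QuotientGroup.eq_one_iff x).2 hx.2]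
          exact one_mem B
        have key : ∀ E : Subgroup G, E ≤ A → A ⊓ C ≤ E →
            Nat.card E = Nat.card (E.map π) * Nat.card ↥(A ⊓ C) := by
          intro E hE hE'
          have h1 := card_eq_card_quotient_mul_card_subgroup ((π.comp E.subtype).ker)
          rw [Nat.card_congr (QuotientGroup.quotientKerEquivRange (π.comp E.subtype)).toEquiv,
            MonoidHom.range_comp, range_subtype] at h1
          rw [h1]
          congr 1
          rw [← CfsgLib.Base.card_map_subtype, ← MonoidHom.comap_ker,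
            show π.ker = C from QuotientGroup.ker_mk' C]
          rw [show C.comap E.subtype = C.subgroupOf E from rfl, subgroupOf_map_subtype]
          rw [show C ⊓ E = A ⊓ C from le_antisymm (le_inf (inf_le_right.trans hE) inf_le_left)
            (le_inf inf_le_right hE')]
        rw [key B₀ inf_le_left hAc, key A le_rfl inf_le_left, hB₀, mul_right_comm,
          mul_right_comm (Nat.card (A.map π))] at h
        exact Nat.le_of_mul_le_mul_right h Nat.card_pos
      have hq : ∀ a ∈ A.map π, ∀ b ∈ A.map π, ∀ v, ρ b (ρ a v / v) = ρ a v / v := by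
        rintro _ ⟨a, ha, rfl⟩ _ ⟨b, hb, rfl⟩ v
        refine Subtype.ext ?_
        have h1 : ((ρ (π a) v / v : V) : G) = ⁅a, (v : G)⁆ := by
          rw [Subgroup.coe_div, hρ, div_eq_mul_inv, commutatorElement_def]
        rw [hρ, h1, mul_inv_eq_iff_eq_mul]
        exact mem_centralizer_iff.1
          (hcl (commutator_mem_commutator (hA.1 ha) (hVS v.2))) b (hA.1 hb)
      have hbad : ∃ x : G ⧸ C,
          ¬ IsPGroup 2 ↥(A.map π ⊔ (A.map π).map (MulAut.conj x).toMonoidHom) := by
        by_contra h
        push Not at h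
        obtain ⟨N, hN, hN2, hAN⟩ := CfsgLib.Involutions.baerSuzuki (A.map π) h
        have hbot : A.map π ≤ ⊥ := hAN.trans (hcore ▸ le_sSup ⟨hN, hN2⟩)
        exact hAC fun a ha => (QuotientGroup.eq_one_iff a).1 (hbot (mem_map_of_mem π ha))
      obtain ⟨_, ⟨a, ha, rfl⟩, g', _, ⟨a₀, ha₀, rfl⟩, u, w, haw, hau, hbu, hbw, hw1, hne⟩ :=
        exists_plane_of_offender hρinj hV2 (by
          rintro _ ⟨a, ha, rfl⟩
          rw [← map_mul, hAa a ha, map_one]) hab hq hoff hbad
      obtain ⟨g, rfl⟩ := QuotientGroup.mk'_surjective C g'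
      refine hS4 (invHom_s4_of_plane (a := a) (b := g * a₀ * g⁻¹) (u := u) (w := w) (hAa a ha)
        (by rw [conj_mul, hAa a₀ ha₀, mul_one, mul_inv_cancel]) (congrArg Subtype.val (hV2 u))
        (congrArg Subtype.val (hV2 w)) (congrArg Subtype.val (mul_comm u w)) ?_ ?_ ?_ ?_
        (fun h => hw1 (Subtype.ext h)) (fun h => hne (Subtype.ext h)))
      · exact congrArg Subtype.val haw
      · exact congrArg Subtype.val hau
      · have h1 : π (g * a₀ * g⁻¹) = π g * π a₀ * (π g)⁻¹ := by simp [π]
        rw [← h1] at hbu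
        exact congrArg Subtype.val hbu
      · have h1 : π (g * a₀ * g⁻¹) = π g * π a₀ * (π g)⁻¹ := by simp [π]
        rw [← h1] at hbw
        exact congrArg Subtype.val hbw
    · let D : Subgroup G := (pCore 2 (G ⧸ C)).comap (QuotientGroup.mk' C)
      have hDn : D.Normal := (pCore_normal 2 (G ⧸ C)).comap _
      have hCD : C ≤ D := QuotientGroup.le_comap_mk' C _
      obtain ⟨k, hk⟩ := CfsgLib.Base.pCore_eq_pow_card 2 (G ⧸ C)
      have hrel : C.relIndex D = 2 ^ k := by
        rw [← card_map_mk'_eq_relIndex, CfsgLib.Base.map_mk'_comap, hk]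
      have hDeq := eq_sup_sylow_inf S hCD hrel
      have hN : normalizer (((S : Subgroup G) ⊓ D : Subgroup G) : Set G) ≠ ⊤ := by
        intro htop
        refine hcore (le_bot_iff.1 fun x hx => ?_)
        have hle : (S : Subgroup G) ⊓ D ≤ H :=
          le_sSup ⟨normalizer_eq_top_iff.1 htop, S.isPGroup'.to_le inf_le_left⟩
        obtain ⟨d, rfl⟩ := QuotientGroup.mk'_surjective C x
        have hdC : d ∈ C := (hDeq.symm.le.trans (sup_le le_rfl (hle.trans hHC))) hx
        exact (QuotientGroup.eq_one_iff d).2 hdC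
      have hSN : (S : Subgroup G) ≤ normalizer (((S : Subgroup G) ⊓ D : Subgroup G) : Set G) := by
        refine le_trans ?_ (normalizer_inf_le (S : Subgroup G) D)
        rw [normalizer_eq_top_iff.2 hDn, inf_top_eq]
        exact le_normalizer
      refine hfinish fun g => ?_
      obtain ⟨d, hd, m, hm, rfl⟩ := exists_mul_normalizer S D g
      have hd' : d ∈ C ⊔ ((S : Subgroup G) ⊓ D) := hDeq.symm ▸ hd
      obtain ⟨c, hcC, s, hs, rfl⟩ := Subgroup.mem_sup_of_normal_left.1 hd'
      exact ⟨c, hcC, s * m, hsub _ hN hSN (mul_mem (le_normalizer hs) hm), mul_assoc c s m⟩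

/-- Thompson factorization, class two, no `S₄`. -/
theorem thompson_factorization_of_class_two {G : Type u} [Group G] [Finite G]
    (hcon : IsPConstrained 2 G) (hS4 : ¬ Involves (Equiv.Perm (Fin 4)) G) (S : Sylow 2 G)
    (hcl : Subgroup.lowerCentralSeries (S : Subgroup G) 2 = ⊥) :
    normalizer (thompsonSubgroupOf 2 (S : Subgroup G) : Set G) ⊔ pPrimeCore 2 G = ⊤ := by
  have : Fact (Nat.Prime 2) := ⟨Nat.prime_two⟩
  let N := pPrimeCore 2 G
  have hN : (Nat.card N).Coprime 2 := CfsgLib.Base.pPrimeCore_coprime 2 G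
  let π := QuotientGroup.mk' N
  have hπ : Function.Surjective π := QuotientGroup.mk'_surjective N
  let S' : Sylow 2 (G ⧸ N) := S.mapSurjective hπ
  have hcS : ⁅(S : Subgroup G), (S : Subgroup G)⁆ ≤ centralizer ((S : Subgroup G) : Set G) :=
    commutator_eq_bot_iff_le_centralizer.1 hcl
  have hcl' : ⁅(S' : Subgroup (G ⧸ N)), (S' : Subgroup (G ⧸ N))⁆ ≤
      centralizer ((S' : Subgroup (G ⧸ N)) : Set (G ⧸ N)) := by
    rw [← commutator_eq_bot_iff_le_centralizer, show (S' : Subgroup (G ⧸ N)) =
      (S : Subgroup G).map π from rfl, ← map_commutator, ← map_commutator,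
      commutator_eq_bot_iff_le_centralizer.2 hcS, Subgroup.map_bot]
  have hc : centralizer (pCore 2 (G ⧸ N) : Set (G ⧸ N)) ≤ pCore 2 (G ⧸ N) :=
    (isPConstrained_iff_of_eq_bot (CfsgLib.Base.pPrimeCore_quotient_pPrimeCore 2 G)).1
      (isPConstrained_quotient_pPrimeCore.1 hcon)
  have h := normalizer_thompson_eq_top_aux _ (G ⧸ N) rfl hc
    (fun hi => hS4 (InvHom.of_surjective π hπ hi).involves) S' hcl'
  rw [show (S' : Subgroup (G ⧸ N)) = (S : Subgroup G).map π from rfl,
    ← map_mk'_thompsonSubgroupOf N hN S.isPGroup',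
    ← map_normalizer_mk' N hN (S.isPGroup'.to_le (thompsonSubgroupOf_le _ _))] at h
  have := congrArg (Subgroup.comap π) h
  rwa [comap_map_eq, comap_top, QuotientGroup.ker_mk'] at this

end CfsgLib.Transfer
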