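import Cfsg.Agent.Lib.Transfer.ZJFusion
import Cfsg.Agent.Lib.PLocal.QdLocal
import Cfsg.Agent.Lib.Coprime.Basic

/-!
# `SL₂(p)`-free automizers: the least centric radical subgroup controls fusion

A subgroup `Q ⊴ P` of largest order whose normalizer controls strong fusion in `P` is centric and
radical, and lies in every centric radical subgroup of `P`.
-/

set_option autoImplicit false
set_option linter.unusedSectionVars false

open Subgroup Cfsg CfsgLib.PLocal
open scoped commutatorElement MatrixGroups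

universe u

namespace CfsgLib.Transfer.FreeRadical

variable {p : ℕ} [hp : Fact p.Prime] {G : Type u} [Group G] [Finite G]

/-- If no automizer of a `p`-subgroup involves `SL₂(p)` then `Qd(p)` is not involved. -/
theorem not_invHom_qd
    (hfree : ∀ Q : Subgroup G, IsPGroup p Q → ¬ ∃ (H K : Subgroup G) (_ : (K.subgroupOf H).Normal),
      centralizer (Q : Set G) ≤ K ∧ K ≤ H ∧ H ≤ normalizer (Q : Set G) ∧
      Nonempty ((H ⧸ K.subgroupOf H) ≃* Matrix.SpecialLinearGroup (Fin 2) (ZMod p))) :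
    ¬ InvHom ↥(qd p) G := by
  intro h
  obtain ⟨U, f, hU, hfs, -, hlift⟩ := exists_plane_of_invHom h
  let Acts : G → SL(2, ZMod p) → Prop := fun k g =>
    ∀ x : U, ∃ h : k * x * k⁻¹ ∈ U, f ⟨k * x * k⁻¹, h⟩ = g.1.mulVec (f x)
  have hone : Acts 1 1 := fun x => ⟨by simp, by simp⟩
  have hmul : ∀ k l g g', Acts k g → Acts l g' → Acts (k * l) (g * g') := by
    intro k l g g' hk hl x
    obtain ⟨h1, e1⟩ := hl x
    obtain ⟨h2, e2⟩ := hk ⟨_, h1⟩
    have e : k * l * x * (k * l)⁻¹ = k * (l * x * l⁻¹) * k⁻¹ := by group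
    refine ⟨e ▸ h2, ?_⟩
    rw [show (⟨k * l * x * (k * l)⁻¹, e ▸ h2⟩ : U) = ⟨_, h2⟩ from Subtype.ext e, e2, e1,
      Matrix.mulVec_mulVec, Matrix.SpecialLinearGroup.coe_mul]
  let N₀ : Subgroup G :=
    { carrier := {k | ∃ g, Acts k g ∧ ∃ g', Acts k⁻¹ g'}
      one_mem' := ⟨1, hone, 1, by rw [inv_one]; exact hone⟩
      mul_mem' := by
        rintro a b ⟨g, hg, g', hg'⟩ ⟨h, hh, h', hh'⟩
        exact ⟨g * h, hmul a b g h hg hh, h' * g', by
          rw [mul_inv_rev]; exact hmul b⁻¹ a⁻¹ h' g' hh' hg'⟩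
      inv_mem' := by
        rintro a ⟨g, hg, g', hg'⟩
        exact ⟨g', hg', g, by rw [inv_inv]; exact hg⟩ }
  have huniq : ∀ {k g g'}, Acts k g → Acts k g' → g = g' := by
    intro k g g' hg hg'
    refine Subtype.ext (Matrix.toLin'.injective (LinearMap.ext fun v => ?_))
    obtain ⟨x, rfl⟩ := hfs v
    obtain ⟨h1, e1⟩ := hg x
    obtain ⟨h2, e2⟩ := hg' x
    rw [Matrix.toLin'_apply, Matrix.toLin'_apply, ← e1, ← e2]
  have hex : ∀ k : N₀, ∃ g, Acts k g := fun k => ⟨_, k.2.choose_spec.1⟩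
  choose π hπ using hex
  let ρ : N₀ →* SL(2, ZMod p) := MonoidHom.mk' π fun a b =>
    huniq (hπ (a * b)) (hmul _ _ _ _ (hπ a) (hπ b))
  have hρ : Function.Surjective ρ := fun g => by
    obtain ⟨k, hk, hk'⟩ := hlift g
    have h1 : Acts k g := fun x => ⟨_, hk' x⟩
    have h2 : ∃ g', Acts k⁻¹ g' := by
      refine ⟨g⁻¹, fun x => ?_⟩
      have hm : k⁻¹ * x * k⁻¹⁻¹ ∈ U := (mem_normalizer_iff.1 (inv_mem hk) x).1 x.2
      refine ⟨hm, ?_⟩
      obtain ⟨h3, e3⟩ := h1 ⟨_, hm⟩
      rw [show (⟨k * (k⁻¹ * x * k⁻¹⁻¹) * k⁻¹, h3⟩ : U) = x from Subtype.ext (by group)] at e3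
      rw [e3, Matrix.mulVec_mulVec, ← Matrix.SpecialLinearGroup.coe_mul, inv_mul_cancel,
        Matrix.SpecialLinearGroup.coe_one, Matrix.one_mulVec]
    exact ⟨⟨k, g, h1, h2⟩, huniq (hπ _) h1⟩
  have hN₀ : N₀ ≤ normalizer (U : Set G) := by
    rintro k ⟨g, hg, -⟩
    exact mem_normalizer_fintype fun x hx => (hg ⟨x, hx⟩).1
  have hC : centralizer (U : Set G) ≤ ρ.ker.map N₀.subtype := by
    intro c hc
    have hact : ∀ d ∈ centralizer (U : Set G), Acts d 1 := fun d hd x => by
      have e : d * x * d⁻¹ = (x : G) :=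
        mul_inv_eq_iff_eq_mul.2 (mem_centralizer_iff.1 hd x x.2).symm
      refine ⟨by rw [e]; exact x.2, ?_⟩
      rw [show (⟨d * x * d⁻¹, _⟩ : U) = x from Subtype.ext e]
      simp
    exact ⟨⟨c, 1, hact c hc, 1, hact _ (inv_mem hc)⟩, huniq (hπ _) (hact c hc), rfl⟩
  have heq : (ρ.ker.map N₀.subtype).subgroupOf N₀ = ρ.ker :=
    comap_map_eq_self_of_injective N₀.subtype_injective _
  haveI hn : ((ρ.ker.map N₀.subtype).subgroupOf N₀).Normal := heq.symm ▸ MonoidHom.normal_ker ρ
  exact hfree U hU ⟨N₀, ρ.ker.map N₀.subtype, hn, hC, map_subtype_le _, hN₀,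
    ⟨(QuotientGroup.quotientMulEquivOfEq heq).trans
      (QuotientGroup.quotientKerEquivOfSurjective ρ hρ)⟩⟩

/-- A larger subgroup controlling fusion when a normal `p`-subgroup is not centric. -/
theorem exists_larger (hp2 : p ≠ 2) (hno : ¬ InvHom ↥(qd p) G) (P : Sylow p G) (Q : Subgroup G)
    [Q.Normal] (hQP : Q ≤ (P : Subgroup G))
    (hne : ¬ (P : Subgroup G) ⊓ centralizer (Q : Set G) ≤ Q) :
    ∃ R : Subgroup G, Q < R ∧ R ≤ (P : Subgroup G) ∧ (P : Subgroup G) ≤ normalizer (R : Set G) ∧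
      ControlsFusion (P : Subgroup G) (normalizer (R : Set G)) := by
  set C := centralizer (Q : Set G) with hCdef
  set T := (P : Subgroup G) ⊓ C with hTdef
  have hT : IsStronglyClosed T (P : Subgroup G) :=
    ⟨inf_le_left, fun x hx g hg => ⟨hg, (inferInstance : C.Normal).conj_mem x hx.2 g⟩⟩
  set π := QuotientGroup.mk' Q with hπdef
  have hπs : Function.Surjective π := QuotientGroup.mk'_surjective Q
  set Rb := maxCenter 0 (T.map π) with hRb
  set R := Rb.comap π with hR
  have hQR : Q ≤ R := by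
    rw [hR]; exact (QuotientGroup.ker_mk' Q).ge.trans (MonoidHom.ker_le_comap π Rb)
  have hRP : R ≤ (P : Subgroup G) := by
    refine (comap_mono (maxCenter_le 0 (T.map π))).trans ?_
    rw [comap_map_eq, QuotientGroup.ker_mk']
    exact sup_le inf_le_left hQP
  have hRb1 : Rb ≠ ⊥ := by
    refine (subgroupFunctor_maxCenter (p := p) (e := 0) (dvd_zero p)).ne_bot (G ⧸ Q) (T.map π)
      ((P.2.to_le inf_le_left).map π) fun h => hne ?_
    rwa [Subgroup.map_eq_bot_iff, QuotientGroup.ker_mk'] at h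
  have hnT : normalizer (T : Set G) ≤ normalizer (R : Set G) := by
    intro m hm
    rw [hR, ← comap_normalizer_eq_of_surjective Rb hπs, mem_comap]
    exact maxCenter_le_normalizer _ (le_normalizer_map π (mem_map_of_mem π hm))
  refine ⟨R, lt_of_le_of_ne hQR fun h => hRb1 ?_, hRP,
    (stronglyClosed_le_normalizer hT).trans hnT, ?_⟩
  · rw [← map_comap_eq_self_of_surjective hπs Rb, ← hR, ← h, Subgroup.map_eq_bot_iff,
      QuotientGroup.ker_mk']
  refine controlsFusion_of_normal P C ?_ fun A _ g hg _ => ⟨g, hnT hg, fun _ _ => rfl⟩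
  -- fusion inside `C P`
  intro A hA g hg hgA
  set Y := C ⊔ (P : Subgroup G) with hY
  have hPY : (P : Subgroup G) ≤ Y := le_sup_right
  have hQY : Q ≤ Y := hQP.trans hPY
  let PY : Sylow p Y := (P.2.comap_subtype (K := Y)).toSylow
    (fun hd => P.not_dvd_index (hd.trans (relIndex_dvd_index_of_le hPY)))
  set H := Q.subgroupOf Y with hH
  set πY := QuotientGroup.mk' H with hπY
  let ι : Y ⧸ H →* G ⧸ Q := QuotientGroup.map H Q Y.subtype (fun x hx => hx)
  have hι : Function.Injective ι := by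
    rw [injective_iff_map_eq_one]
    intro x
    induction x using QuotientGroup.induction_on with | _ x =>
    intro hx
    exact (QuotientGroup.eq_one_iff x).2 (mem_subgroupOf.2 ((QuotientGroup.eq_one_iff (x : G)).1 hx))
  set TY := T.subgroupOf Y with hTY
  have hTYc : IsStronglyClosed TY (PY : Subgroup Y) :=
    ⟨fun x hx => hT.1 hx, fun x hx g hg => hT.2 _ hx g hg⟩
  set M' := normalizer (maxCenter 0 (TY.map πY) : Set (Y ⧸ H)) with hM'
  have hnoY : ¬ InvHom ↥(qd p) (Y ⧸ H) := fun h =>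
    hno ((h.of_surjective πY (QuotientGroup.mk'_surjective H)).of_subgroup)
  have hctrl : ControlsFusion
      ((PY.mapSurjective (QuotientGroup.mk'_surjective H) : Sylow p (Y ⧸ H)) : Subgroup (Y ⧸ H)) M' :=
    controlsFusion_maxCenter_of_not_involves_qd hp2 (Or.inl rfl)
      (fun h => hnoY (InvHom.of_involves h)) _ (stronglyClosed_map_mk PY hTYc H)
  have hPM : (PY : Subgroup Y) ≤ M'.comap πY := fun x hx =>
    maxCenter_le_normalizer _ (stronglyClosed_le_normalizer (stronglyClosed_map_mk PY hTYc H)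
      (mem_map_of_mem πY hx))
  have hcen : ∀ d : Y, Nat.Coprime (orderOf d) p → d ∈ centralizer (H : Set Y) := by
    intro d hd
    suffices h : (d : G) ∈ C from mem_centralizer_iff.2 fun y hy =>
      Subtype.ext (mem_centralizer_iff.1 h y (mem_subgroupOf.1 hy))
    obtain ⟨c, hc, x, hx, hcx⟩ := mem_sup_of_normal_left.1 d.2
    have h1 : QuotientGroup.mk' C (d : G) = QuotientGroup.mk' C x := by
      rw [← hcx, map_mul, QuotientGroup.mk'_apply, (QuotientGroup.eq_one_iff c).2 hc, one_mul]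
    refine (QuotientGroup.eq_one_iff _).1 (orderOf_eq_one_iff.1 ?_)
    obtain ⟨k, hk⟩ := P.2 ⟨x, hx⟩
    have hk' : x ^ p ^ k = 1 := congrArg Subtype.val hk
    refine Nat.eq_one_of_dvd_coprimes (hd.pow_right k) ?_ ?_
    · rw [← Subgroup.orderOf_coe d]
      exact orderOf_map_dvd (QuotientGroup.mk' C) (d : G)
    · exact orderOf_dvd_of_pow_eq_one (by
        rw [← QuotientGroup.mk'_apply, h1, ← map_pow, hk', map_one])
  obtain ⟨n, hn, hn'⟩ := controlsFusion_comap_of_central PY H (P.2.to_le hQP |>.comap_subtype)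
    (fun x hx => hQP hx) hcen hctrl hPM (Subtype.val ⁻¹' A) (fun a ha => hA ha) ⟨g, hg⟩
    (fun a ha => hgA _ ha)
  refine ⟨n, ?_, fun a ha => congrArg Subtype.val (hn' ⟨a, hPY (hA ha)⟩ ha)⟩
  rw [hR, ← comap_normalizer_eq_of_surjective Rb hπs, mem_comap]
  have h1 : ι (πY n) ∈ normalizer ((maxCenter 0 (TY.map πY)).map ι : Set (G ⧸ Q)) :=
    le_normalizer_map ι (mem_map_of_mem ι hn)
  have hmap : (TY.map πY).map ι = T.map π := by
    rw [Subgroup.map_map, show ι.comp πY = π.comp Y.subtype from MonoidHom.ext fun _ => rfl,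
      ← Subgroup.map_map, hTY, map_subgroupOf_eq_of_le (hT.1.trans hPY)]
  rwa [map_maxCenter hι, hmap] at h1

/-- The subgroup `P ⊓ X` controls fusion when `X` is a normal `p`-extension of `Q C(Q)`, `Q`
centric. -/
theorem controls_of_centric (P : Sylow p G) (Q : Subgroup G) [Q.Normal]
    (hC : (P : Subgroup G) ⊓ centralizer (Q : Set G) ≤ Q) (X : Subgroup G) [X.Normal]
    (hle : Q ⊔ centralizer (Q : Set G) ≤ X)
    (hpow : ∃ k, (Q ⊔ centralizer (Q : Set G)).relIndex X = p ^ k) (hQP : Q ≤ (P : Subgroup G)) :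
    (((P : Subgroup G) ⊓ X) ⊔ centralizer (Q : Set G) = X) ∧
    (P : Subgroup G) ≤ normalizer (((P : Subgroup G) ⊓ X : Subgroup G) : Set G) ∧
    ControlsFusion (P : Subgroup G) (normalizer (((P : Subgroup G) ⊓ X : Subgroup G) : Set G)) := by
  set C := centralizer (Q : Set G) with hCdef
  set T := (P : Subgroup G) ⊓ X with hTdef
  have hTX : T ⊔ C = X := by
    refine le_antisymm (sup_le inf_le_right (le_sup_right.trans hle)) ?_
    rw [← Subgroup.relIndex_eq_one]
    obtain ⟨k, hk⟩ := hpow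
    have h1 : (T ⊔ C).relIndex X ∣ p ^ k := hk ▸ relIndex_dvd_of_le_left _
      (sup_le ((le_inf hQP (le_sup_left.trans hle)).trans le_sup_left) le_sup_right)
    have h2 : ¬ p ∣ T.relIndex X := by
      have := not_dvd_index_subgroupOf_of_normal P X
      rwa [show (P : Subgroup G).subgroupOf X = T.subgroupOf X from by
        rw [hTdef, inf_subgroupOf_right]] at this
    obtain ⟨i, -, hi⟩ := (Nat.dvd_prime_pow hp.out).1 h1
    rcases Nat.eq_zero_or_pos i with rfl | hi0
    · rw [hi, pow_zero]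
    · exact absurd ((dvd_pow_self p hi0.ne').trans (hi ▸ relIndex_dvd_of_le_left _ le_sup_left)) h2
  have hPT : (P : Subgroup G) ≤ normalizer (T : Set G) := fun x hx => normalizer_inf_le _ _
    ⟨le_normalizer hx, (normalizer_eq_top_iff.mpr (inferInstance : X.Normal)) ▸ mem_top x⟩
  refine ⟨hTX, hPT, controlsFusion_of_normal P X ?_ fun A _ g hg _ => ⟨g, hg, fun _ _ => rfl⟩⟩
  intro A hA g hg hgA
  -- `C` has a normal `p`-complement `O`
  let S : Sylow p C := (P.2.comap_subtype (K := C)).toSylow (not_dvd_index_subgroupOf_of_normal P C)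
  have hcomp := hasNormalPComplement_of_normalizer_le_centralizer S (fun c _ => by
    rw [mem_centralizer_iff]
    intro s hs
    exact Subtype.ext (mem_centralizer_iff.mp c.2 _ (hC ⟨mem_subgroupOf.mp hs, s.2⟩)))
  have hch := pResidual_characteristic (G := C) (p := p)
  set O := (pResidual p C).map C.subtype with hO
  have hcop : Nat.Coprime (Nat.card O) p := by
    rw [hO, card_map_of_injective C.subtype_injective, Nat.coprime_comm, hp.out.coprime_iff_not_dvd]
    exact hasNormalPComplement_iff_pResidual.mp hcomp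
  have hOn : O.Normal := by rw [hO]; infer_instance
  have hle2 : X ⊔ (P : Subgroup G) ≤ O ⊔ (P : Subgroup G) := by
    refine sup_le ?_ le_sup_right
    rw [← hTX]
    refine sup_le (inf_le_left.trans le_sup_right) fun c hc => ?_
    have hc' : (⟨c, hc⟩ : C) ∈ (S : Subgroup C) ⊔ pResidual p C := by
      rw [sup_pResidual_eq_top]; exact mem_top _
    obtain ⟨s, hs, o, ho, hso⟩ := mem_sup_of_normal_right.1 hc'
    rw [← show (s : G) * (o : G) = c from congrArg Subtype.val hso]
    exact mul_mem (mem_sup_right (mem_subgroupOf.1 hs)) (mem_sup_left (mem_map_of_mem _ ho))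
  obtain ⟨o, ho, x, hx, rfl⟩ := mem_sup_of_normal_left.1 (hle2 hg)
  refine fusedBy_of_coprime P hcop hPT hA (hPT hx) hgA fun a _ => ?_
  simp only [map_mul, map_inv, QuotientGroup.mk'_apply]
  rw [(QuotientGroup.eq_one_iff o).2 ho, one_mul]

/-- The predicate of the statement: centric and radical. -/
def CentricRadical (p : ℕ) (P Q : Subgroup G) : Prop :=
  Q ≤ P ∧
    (∃ R : Sylow p (centralizer (Q : Set G)),
      (R : Subgroup (centralizer (Q : Set G))).map (centralizer (Q : Set G)).subtype =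
        Q ⊓ centralizer (Q : Set G)) ∧
    ∀ X : Subgroup G, X ≤ normalizer (Q : Set G) →
      (∀ n ∈ normalizer (Q : Set G), X.map (MulAut.conj n).toMonoidHom = X) →
      Q ⊔ centralizer (Q : Set G) ≤ X →
      (∃ k : ℕ, (Q ⊔ centralizer (Q : Set G)).relIndex X = p ^ k) →
      X = Q ⊔ centralizer (Q : Set G)

/-- Control of fusion in `P` by a subgroup of `N` that lifts from inside `L`. -/
theorem controlsFusion_trans {P Q : Subgroup G} {L : Subgroup G} (hPL : P ≤ L)
    (hLc : ControlsFusion P L) {M : Subgroup L} (hM : ControlsFusion (P.subgroupOf L) M)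
    (hMQ : M.map L.subtype ≤ normalizer (Q : Set G)) :
    ControlsFusion P (normalizer (Q : Set G)) := by
  intro A hA g hg
  obtain ⟨n, hn, hn'⟩ := hLc A hA g hg
  obtain ⟨m, hm, hm'⟩ := hM (Subtype.val ⁻¹' A) (fun a ha => hA ha) ⟨n, hn⟩
    (fun a ha => mem_subgroupOf.2 (by
      show n⁻¹ * (a : G) * n ∈ P
      rw [hn' _ ha]; exact hg _ ha))
  exact ⟨m, hMQ (mem_map_of_mem _ hm),
    fun a ha => (congrArg Subtype.val (hm' ⟨a, hPL (hA ha)⟩ ha)).trans (hn' a ha)⟩

/-- A fusion-controlling normal subgroup lies in every centric radical subgroup. -/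
theorem le_centricRadical (P : Sylow p G) {Q R : Subgroup G} (hQP : Q ≤ (P : Subgroup G))
    (hPQ : (P : Subgroup G) ≤ normalizer (Q : Set G))
    (hctrl : ControlsFusion (P : Subgroup G) (normalizer (Q : Set G)))
    (hR : CentricRadical p (P : Subgroup G) R) : Q ≤ R := by
  obtain ⟨hRP, ⟨R0, hR0⟩, hrad⟩ := hR
  have hR0' : ∀ y : centralizer (R : Set G), y ∈ (R0 : Subgroup (centralizer (R : Set G))) →
      (y : G) ∈ R := fun y hy => (hR0 ▸ mem_map_of_mem (centralizer (R : Set G)).subtype hy :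
        (y : G) ∈ R ⊓ centralizer (R : Set G)).1
  have hcentric : ∀ x ∈ (P : Subgroup G), x ∈ centralizer (R : Set G) → x ∈ R := by
    intro x hx hxc
    have h1 : (R0 : Subgroup (centralizer (R : Set G))) ≤
        (P : Subgroup G).subgroupOf (centralizer (R : Set G)) := fun y hy =>
      mem_subgroupOf.2 (hRP (hR0' y hy))
    have h2 := R0.is_maximal' (P.2.comap_subtype (K := centralizer (R : Set G))) h1
    exact hR0' ⟨x, hxc⟩ (h2 ▸ mem_subgroupOf.2 hx)
  set NR := normalizer (R : Set G)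
  set CR := centralizer (R : Set G)
  have hCN : CR ≤ NR := centralizer_le_normalizer _
  set S := Q ⊔ R with hS
  have hSP : S ≤ (P : Subgroup G) := sup_le hQP hRP
  set T := S ⊓ NR with hT
  set X := T ⊔ CR with hX
  have hXN : X ≤ NR := sup_le inf_le_right hCN
  have hconj : ∀ n ∈ NR, X.map (MulAut.conj n).toMonoidHom = X := by
    intro n hn
    obtain ⟨m, hm, hm'⟩ := hctrl (R : Set G) hRP n
      (fun a ha => hRP ((mem_set_normalizer_iff''.1 hn a).1 ha))
    have hc : n * m⁻¹ ∈ CR := mem_centralizer_iff.2 fun a ha => by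
      calc a * (n * m⁻¹) = n * (n⁻¹ * a * n) * m⁻¹ := by group
        _ = n * (m⁻¹ * a * m) * m⁻¹ := by rw [hm' a ha]
        _ = _ := by group
    have hmR : m ∈ NR := by
      have := mul_mem (inv_mem (hCN hc)) hn
      simpa using this
    have hmS : m ∈ normalizer (S : Set G) := by
      rw [mem_normalizer_iff_map_conj_eq]
      show S.map (MulAut.conj m).toMonoidHom = S
      rw [hS, Subgroup.map_sup, show Q.map (MulAut.conj m).toMonoidHom = Q from
          mem_normalizer_iff_map_conj_eq.1 hm,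
        show R.map (MulAut.conj m).toMonoidHom = R from mem_normalizer_iff_map_conj_eq.1 hmR]
    have hmT : m ∈ normalizer (T : Set G) :=
      normalizer_inf_le _ _ ⟨hmS, le_normalizer hmR⟩
    have hmC : m ∈ normalizer (CR : Set G) := normalizer_le_centralizer_normalizer R hmR
    have hmX : m ∈ normalizer (X : Set G) := by
      rw [mem_normalizer_iff_map_conj_eq]
      show X.map (MulAut.conj m).toMonoidHom = X
      rw [hX, Subgroup.map_sup, show T.map (MulAut.conj m).toMonoidHom = T from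
          mem_normalizer_iff_map_conj_eq.1 hmT,
        show CR.map (MulAut.conj m).toMonoidHom = CR from mem_normalizer_iff_map_conj_eq.1 hmC]
    have hnX : n ∈ normalizer (X : Set G) := by
      have h1 : n * m⁻¹ ∈ normalizer (X : Set G) := le_normalizer (mem_sup_right hc)
      simpa using mul_mem h1 hmX
    exact mem_normalizer_iff_map_conj_eq.1 hnX
  have hRT : R ≤ T := le_inf le_sup_right le_normalizer
  have hpow : ∃ k : ℕ, (R ⊔ CR).relIndex X = p ^ k := by
    have hA : R ⊔ CR ≤ NR := sup_le le_normalizer hCN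
    have hTn : T ≤ normalizer ((R ⊔ CR : Subgroup G) : Set G) := fun t ht => by
      rw [mem_normalizer_iff_map_conj_eq]
      show (R ⊔ CR).map (MulAut.conj t).toMonoidHom = _
      rw [Subgroup.map_sup,
        show R.map (MulAut.conj t).toMonoidHom = R from mem_normalizer_iff_map_conj_eq.1 ht.2,
        show CR.map (MulAut.conj t).toMonoidHom = CR from
          mem_normalizer_iff_map_conj_eq.1 (normalizer_le_centralizer_normalizer R ht.2)]
    have hX' : X = T ⊔ (R ⊔ CR) := by rw [hX, ← sup_assoc, sup_eq_left.2 hRT]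
    have hcard := CfsgLib.PLocal.card_sup_mul_card_inf T (R ⊔ CR) hTn
    obtain ⟨j, hj⟩ := IsPGroup.iff_card.1 (P.2.to_le ((inf_le_left : T ≤ S).trans hSP))
    have hdvd : (R ⊔ CR).relIndex X ∣ p ^ j := by
      rw [hX']
      have h1 := relIndex_mul_relIndex ⊥ (R ⊔ CR) (T ⊔ (R ⊔ CR)) bot_le le_sup_right
      rw [relIndex_bot_left, relIndex_bot_left] at h1
      rw [← h1, hj, mul_comm (p ^ j), mul_assoc] at hcard
      exact Dvd.intro _ (Nat.eq_of_mul_eq_mul_left Nat.card_pos hcard)
    obtain ⟨k, -, hk⟩ := (Nat.dvd_prime_pow hp.out).1 hdvd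
    exact ⟨k, hk⟩
  have hXeq := hrad X hXN hconj (sup_le (hRT.trans le_sup_left) le_sup_right) hpow
  have hTR : T ≤ R := by
    intro t ht
    have h1 : t ∈ R ⊔ CR := hXeq ▸ mem_sup_left ht
    have h1' : t ∈ ((R ⊔ CR : Subgroup G) : Set G) := h1
    rw [coe_mul_of_left_le_normalizer_right _ _
      (le_normalizer.trans (normalizer_le_centralizer_normalizer R))] at h1'
    obtain ⟨r, hr, c, hc, rfl⟩ := h1'
    refine mul_mem hr (hcentric c ?_ hc)
    have := mul_mem (inv_mem (hRP hr)) (hSP ht.1)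
    simpa using this
  by_contra hQR
  have hlt : R < S := lt_of_le_of_ne le_sup_right fun h => hQR (h ▸ le_sup_left)
  exact not_lt_of_ge hTR (CfsgLib.Transfer.lt_inf_normalizer (P.2.to_le hSP) hlt)

theorem exists_least_centricRadical (hp2 : p ≠ 2) (hno : ¬ InvHom ↥(qd p) G) (P : Sylow p G) :
    ∃ Q : Subgroup G, CentricRadical p (P : Subgroup G) Q ∧
      (∀ R : Subgroup G, CentricRadical p (P : Subgroup G) R → Q ≤ R) ∧
      (∀ x ∈ (P : Subgroup G), Q.map (MulAut.conj x).toMonoidHom = Q) ∧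
      ControlsFusion (P : Subgroup G) (normalizer (Q : Set G)) := by
  let Ctrl : Subgroup G → Prop := fun Q => Q ≤ (P : Subgroup G) ∧
    (P : Subgroup G) ≤ normalizer (Q : Set G) ∧
    ControlsFusion (P : Subgroup G) (normalizer (Q : Set G))
  have hbot : Ctrl ⊥ := by
    have htop : normalizer ((⊥ : Subgroup G) : Set G) = ⊤ := normalizer_eq_top_iff.2 inferInstance
    exact ⟨bot_le, htop ▸ le_top, fun A _ g _ => ⟨g, htop ▸ mem_top g, fun _ _ => rfl⟩⟩
  obtain ⟨Q, ⟨hQP, hPQ, hctrl⟩, hmax⟩ :=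
    Set.exists_max_image {Q : Subgroup G | Ctrl Q} (fun Q => Nat.card Q) (Set.toFinite _) ⟨⊥, hbot⟩
  set L := normalizer (Q : Set G) with hL
  let PL : Sylow p L := (P.2.comap_subtype (K := L)).toSylow
    (fun hd => P.not_dvd_index (hd.trans (relIndex_dvd_index_of_le hPQ)))
  have hQL : Q ≤ L := le_normalizer
  set QL := Q.subgroupOf L with hQLdef
  haveI hQLn : QL.Normal := (normal_subgroupOf_iff_le_normalizer hQL).2 le_rfl
  have hQLP : QL ≤ (PL : Subgroup L) := fun x hx => hQP hx
  have hCL : centralizer (Q : Set G) ≤ L := centralizer_le_normalizer _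
  have hCmap : (centralizer (Q : Set G)).subgroupOf L = centralizer (QL : Set L) := by
    ext x
    rw [mem_subgroupOf, mem_centralizer_iff, mem_centralizer_iff]
    exact ⟨fun h y hy => Subtype.ext (h y hy),
      fun h y hy => congrArg Subtype.val (h ⟨y, hQL hy⟩ hy)⟩
  -- a larger controlling subgroup inside `L` contradicts maximality
  have hup : ∀ R : Subgroup L, QL ≤ R → R ≤ (PL : Subgroup L) →
      (PL : Subgroup L) ≤ normalizer (R : Set L) →
      ControlsFusion (PL : Subgroup L) (normalizer (R : Set L)) → R = QL := by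
    intro R hQR hRP hPR hRc
    have h1 : Ctrl (R.map L.subtype) := by
      refine ⟨?_, fun x hx => ?_, controlsFusion_trans hPQ hctrl hRc (le_normalizer_map _)⟩
      · rintro _ ⟨r, hr, rfl⟩
        exact hRP hr
      · exact le_normalizer_map L.subtype
          (mem_map_of_mem L.subtype (hPR (x := ⟨x, hPQ hx⟩) hx))
    have h2 := hmax _ h1
    rw [card_map_of_injective L.subtype_injective,
      ← Nat.card_congr (subgroupOfEquivOfLe hQL).toEquiv] at h2
    exact (eq_of_le_of_card_ge hQR h2).symm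
  have hnoL : ¬ InvHom ↥(qd p) L := fun h => hno h.of_subgroup
  have hcentric : (PL : Subgroup L) ⊓ centralizer (QL : Set L) ≤ QL := by
    by_contra hne
    obtain ⟨R, hlt, hRP, hPR, hRc⟩ := exists_larger hp2 hnoL PL QL hQLP hne
    exact hlt.ne (hup R hlt.le hRP hPR hRc).symm
  refine ⟨Q, ⟨hQP, ?_, ?_⟩, fun R hR => le_centricRadical P hQP hPQ hctrl hR,
    fun x hx => mem_normalizer_iff_map_conj_eq.1 (hPQ hx), hctrl⟩
  · set C := centralizer (Q : Set G) with hC
    haveI : (C.subgroupOf L).Normal := by rw [hCmap]; infer_instance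
    have hS : ¬ p ∣ ((P : Subgroup G).subgroupOf C).index := by
      have h := not_dvd_index_subgroupOf_of_normal PL (C.subgroupOf L)
      change ¬ p ∣ (((P : Subgroup G).subgroupOf L).relIndex (C.subgroupOf L)) at h
      rwa [relIndex_subgroupOf hCL] at h
    refine ⟨(P.2.comap_subtype (K := C)).toSylow hS, ?_⟩
    show ((P : Subgroup G).subgroupOf C).map C.subtype = Q ⊓ C
    rw [subgroupOf_map_subtype]
    refine le_antisymm (fun x hx => ⟨?_, hx.2⟩) (inf_le_inf_right _ hQP)
    have : (⟨x, hCL hx.2⟩ : L) ∈ QL := hcentric ⟨hx.1, hCmap ▸ mem_subgroupOf.2 hx.2⟩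
    exact this
  intro X hXL hXn hle hpow
  set XL := X.subgroupOf L with hXLdef
  haveI : XL.Normal := (normal_subgroupOf_iff_le_normalizer hXL).2 fun n hn =>
    mem_normalizer_iff_map_conj_eq.2 (hXn n hn)
  have hsup : (Q ⊔ centralizer (Q : Set G)).subgroupOf L = QL ⊔ centralizer (QL : Set L) := by
    rw [subgroupOf_sup hQL hCL, hCmap]
  have hle' : QL ⊔ centralizer (QL : Set L) ≤ XL := hsup ▸ comap_mono hle
  obtain ⟨k, hk⟩ := hpow
  obtain ⟨hTX, hPT, hTc⟩ := controls_of_centric PL QL hcentric XL hle'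
    ⟨k, by rw [← hsup, relIndex_subgroupOf hXL, hk]⟩ hQLP
  have h1 := hup _ (le_inf hQLP (le_sup_left.trans hle')) inf_le_left hPT hTc
  rw [h1, ← hsup] at hTX
  have h2 := congrArg (Subgroup.map L.subtype) hTX.symm
  rwa [hXLdef, map_subgroupOf_eq_of_le hXL, map_subgroupOf_eq_of_le (sup_le hQL hCL)] at h2

end CfsgLib.Transfer.FreeRadical
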