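import Cfsg.Agent.Lib.Transfer.ThompsonComplement
import Cfsg.Agent.Lib.PLocal.StableNormal

/-!
# The normal `p`-complement theorem with `W(S)`
-/

set_option autoImplicit false

open Subgroup Cfsg
open scoped commutatorElement

universe u

namespace CfsgLib.Transfer

variable {p : ℕ}

/-- `W(R)` as a subgroup of the ambient group. -/
noncomputable def stableClosureOf (p : ℕ) {G : Type u} [Group G] (R : Subgroup G) : Subgroup G :=
  (stableNormalClosure p R).map R.subtype

theorem stableClosureOf_le {G : Type u} [Group G] (R : Subgroup G) : stableClosureOf p R ≤ R :=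
  map_subtype_le _

theorem map_stableClosureOf {G H : Type u} [Group G] [Group H] {R : Subgroup G} (f : G →* H)
    (hf : Function.Injective (f.comp R.subtype)) :
    (stableClosureOf p R).map f = stableClosureOf p (R.map f) := by
  have hinj : Function.Injective (f.subgroupMap R) := fun x y h =>
    hf (congrArg Subtype.val h)
  let e : R ≃* R.map f := MulEquiv.ofBijective (f.subgroupMap R) ⟨hinj, f.subgroupMap_surjective R⟩
  rw [stableClosureOf, stableClosureOf, ← CfsgLib.PLocal.map_stableNormalClosure e, Subgroup.map_map,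
    Subgroup.map_map]
  rfl

theorem normalizer_le_normalizer_stableClosureOf {G : Type u} [Group G] (R : Subgroup G) :
    normalizer (R : Set G) ≤ normalizer (stableClosureOf p R : Set G) := by
  intro g hg
  rw [mem_normalizer_iff_map_conj_eq] at hg ⊢
  rw [map_stableClosureOf _ ((MulAut.conj g).injective.comp R.subtype_injective), hg]

/-- The hypothesis of the `W(S)` form of the theorem. -/
def StableCond (p : ℕ) (G : Type u) [Group G] (R : Subgroup G) : Prop :=
  HasNormalPComplement p (normalizer (stableClosureOf p R : Set G))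

theorem localCondition_stable [Fact p.Prime] : LocalCondition p (StableCond.{u} p) where
  mono := by
    intro G _ _ U R _ hRU h
    have e1 : stableClosureOf p (R.subgroupOf U) = (stableClosureOf p R).subgroupOf U := by
      apply map_injective U.subtype_injective
      rw [map_stableClosureOf U.subtype
        (U.subtype_injective.comp (R.subgroupOf U).subtype_injective),
        map_subgroupOf_eq_of_le hRU, map_subgroupOf_eq_of_le ((stableClosureOf_le R).trans hRU)]
    unfold StableCond
    rw [e1, ← subgroupOf_normalizer_eq ((stableClosureOf_le R).trans hRU)]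
    exact hasNormalPComplement_subgroupOf h
  quot := by
    intro G _ _ P N _ hN h
    unfold StableCond
    rw [← map_stableClosureOf (QuotientGroup.mk' N)
        (CfsgLib.PLocal.injective_mk'_comp_subtype N hN P.2),
      ← CfsgLib.PLocal.map_normalizer_mk' N hN (P.2.to_le (stableClosureOf_le _))]
    exact hasNormalPComplement_of_surjective ((QuotientGroup.mk' N).subgroupMap _)
      ((QuotientGroup.mk' N).subgroupMap_surjective _) h
  of_local := by
    intro G _ _ R hR hRne hQ
    refine hQ _ (stableClosureOf_le R) ?_ (normalizer_le_normalizer_stableClosureOf R)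
    have : Nontrivial R := (Subgroup.nontrivial_iff_ne_bot R).mpr hRne
    rw [stableClosureOf, Ne, map_eq_bot_iff_of_injective _ R.subtype_injective]
    exact CfsgLib.PLocal.stableNormalClosure_ne_bot hR
  of_normal := by
    intro G _ _ P hP h
    have e : normalizer (stableClosureOf p (P : Subgroup G) : Set G) = ⊤ :=
      top_le_iff.mp ((normalizer_eq_top_iff.mpr hP).ge.trans
        (normalizer_le_normalizer_stableClosureOf _))
    unfold StableCond at h
    rw [e] at h
    exact (hasNormalPComplement_congr topEquiv).mp h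

variable [hp : Fact p.Prime] {G : Type u} [Group G] [Finite G] {P : Sylow p G}

/-- The configuration passes to quotients by normal subgroups in `O_p` not affecting
self-centrality of `O_p`. -/
theorem MinimalConfig.quotient (h : MinimalConfig p G P) (N : Subgroup G) [N.Normal]
    (hN : N ≤ pCore p G)
    (hc : ∀ g : G, (∀ x ∈ pCore p G, ⁅x, g⁆ ∈ N) → g ∈ pCore p G) :
    MinimalConfig p (G ⧸ N) (P.mapSurjective (QuotientGroup.mk'_surjective N)) := by
  let π := QuotientGroup.mk' N
  have hπ : Function.Surjective π := QuotientGroup.mk'_surjective N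
  have hcore : pCore p (G ⧸ N) = (pCore p G).map π :=
    CfsgLib.Base.pCore_quotient N ((CfsgLib.Base.isPGroup_pCore p G).to_le hN)
  have hPc : ((P : Subgroup G).map π).comap π = (P : Subgroup G) := by
    rw [comap_map_eq, QuotientGroup.ker_mk', sup_eq_left.mpr (hN.trans h.pCore_lt.le)]
  have hHc : ((pCore p G).map π).comap π = pCore p G := by
    rw [comap_map_eq, QuotientGroup.ker_mk', sup_eq_left.mpr hN]
  have hcent : centralizer (pCore p (G ⧸ N) : Set (G ⧸ N)) ≤ pCore p (G ⧸ N) := by
    intro y hy
    obtain ⟨g, rfl⟩ := hπ y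
    rw [hcore]
    refine mem_map_of_mem π (hc g fun x hx => (QuotientGroup.eq_one_iff _).mp ?_)
    change π ⁅x, g⁆ = 1
    rw [map_commutatorElement, commutatorElement_eq_one_iff_mul_comm]
    exact mem_centralizer_iff.mp hy _ (hcore ▸ mem_map_of_mem π hx)
  refine ⟨fun hcomp => h.not_comp (hasNormalPComplement_of_isPGroup ?_), hcent, ?_, ?_, ?_⟩
  · -- the complement centralises `O_p`, so is trivial
    have hMn := pResidual_normal (G := G ⧸ N) (p := p)
    have hdis : pResidual p (G ⧸ N) ⊓ pCore p (G ⧸ N) = ⊥ :=
      le_bot_iff.mp fun x hx => mem_bot.mpr (disjoint_def.mp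
        (isComplement'_pResidual hcomp (P.mapSurjective hπ)).disjoint hx.1
        (CfsgLib.Base.pCore_le_sylow (P.mapSurjective hπ) hx.2))
    have hle : pResidual p (G ⧸ N) ≤ centralizer (pCore p (G ⧸ N) : Set (G ⧸ N)) := by
      rw [← commutator_eq_bot_iff_le_centralizer, ← le_bot_iff, ← hdis]
      exact commutator_le_inf _ _
    have hbot : pResidual p (G ⧸ N) = ⊥ :=
      le_bot_iff.mp (hdis ▸ le_inf le_rfl (hle.trans hcent))
    obtain ⟨k, hk⟩ := exists_index_pResidual (G := G ⧸ N) (p := p)
    rw [hbot, index_bot] at hk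
    obtain ⟨j, hj⟩ := IsPGroup.iff_card.mp ((CfsgLib.Base.isPGroup_pCore p G).to_le hN)
    refine IsPGroup.of_card (n := j + k) ?_
    rw [← N.card_mul_index, index_eq_card, hj, hk, pow_add]
  · rw [hcore, Sylow.coe_mapSurjective]
    refine lt_of_le_of_ne (map_mono h.pCore_lt.le) fun he => h.pCore_lt.ne ?_
    rw [← hHc, ← hPc, he]
  · intro U hU hne
    rw [Sylow.coe_mapSurjective] at hU ⊢
    have h1 := h.maximal (U.comap π) (fun x hx => hU (mem_map_of_mem π hx)) fun he => hne (by
      rw [← map_comap_eq_self_of_surjective hπ U, he, Subgroup.map_top_of_surjective π hπ])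
    rw [← map_comap_eq_self_of_surjective hπ U, h1]
  · obtain ⟨K, hKn, hHK, htop, hPK, hKK, m, hm, hKm⟩ := h.exists_complement
    refine ⟨K.map π, hKn.map π hπ, hcore ▸ map_mono hHK, ?_, ?_, ?_, m, hm, ?_⟩
    · rw [Sylow.coe_mapSurjective, ← Subgroup.map_sup, htop, Subgroup.map_top_of_surjective π hπ]
    · rw [Sylow.coe_mapSurjective, hcore]
      refine le_antisymm ?_ (le_inf (map_mono h.pCore_lt.le) (map_mono hHK))
      rintro _ ⟨⟨x, hx, rfl⟩, hxK⟩
      refine mem_map_of_mem π (hPK ▸ ⟨hx, ?_⟩)
      have : x ∈ (K.map π).comap π := hxK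
      rwa [comap_map_eq, QuotientGroup.ker_mk', sup_eq_left.mpr (hN.trans hHK)] at this
    · rw [← Subgroup.map_commutator, hcore]
      exact map_mono hKK
    · rintro _ ⟨x, hx, rfl⟩
      rw [← map_pow, hcore]
      exact mem_map_of_mem π (hKm x hx)

/-- An element quadratic on `O_p / Φ(O_p)` lies in `O_p`. -/
theorem MinimalConfig.isPStableOnSection (h : MinimalConfig p G P) (hp2 : p ≠ 2) :
    IsPStableOnSection p (pCore p G) ((frattini (pCore p G)).map (pCore p G).subtype) := by
  let N : Subgroup G := (frattini (pCore p G)).map (pCore p G).subtype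
  have hNn : N.Normal := CfsgLib.Base.normal_map_subtype _
  have hN : N ≤ pCore p G := map_subtype_le _
  have hker : sectionKernel (pCore p G) N ≤ pCore p G := by
    have : (sectionKernel (pCore p G) N).Normal :=
      (inferInstance : (centralizer (((pCore p G).map (QuotientGroup.mk' N) :
        Subgroup (G ⧸ N)) : Set (G ⧸ N))).Normal).comap _
    exact CfsgLib.Base.le_pCore (CfsgLib.PLocal.sectionKernel_isPGroup h.centralizer_le)
  have hc : ∀ g : G, (∀ x ∈ pCore p G, ⁅x, g⁆ ∈ N) → g ∈ pCore p G := by
    intro g hg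
    refine hker ?_
    rw [sectionKernel, mem_comap, mem_centralizer_iff]
    rintro _ ⟨x, hx, rfl⟩
    rw [← commutatorElement_eq_one_iff_mul_comm, ← map_commutatorElement]
    exact (QuotientGroup.eq_one_iff _).mpr (hg x hx)
  intro a ha
  have hq := h.quotient N hN hc
  let π := QuotientGroup.mk' N
  have hcore : pCore p (G ⧸ N) = (pCore p G).map π :=
    CfsgLib.Base.pCore_quotient N ((CfsgLib.Base.isPGroup_pCore p G).to_le hN)
  have h1 := hq.mem_pCore_quotient hp2 (pCore p (G ⧸ N)) (V := pCore p (G ⧸ N))
    (CfsgLib.Base.isPGroup_pCore p _) hq.centralizer_le (a := π a) ?_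
  · rw [CfsgLib.Base.pCore_quotient_pCore, mem_bot, QuotientGroup.eq_one_iff, hcore] at h1
    have h2 : a ∈ ((pCore p G).map π).comap π := h1
    rw [comap_map_eq, QuotientGroup.ker_mk', sup_eq_left.mpr hN] at h2
    refine ⟨pCore p G, inferInstance, hker, ?_, h2⟩
    obtain ⟨n, hn⟩ := CfsgLib.Base.pCore_eq_pow_card p G
    obtain ⟨i, -, hi⟩ := (Nat.dvd_prime_pow hp.out).mp
      (hn ▸ relIndex_dvd_card (sectionKernel (pCore p G) N) (pCore p G))
    exact ⟨i, hi⟩
  · rintro _ hv i
    rw [hcore] at *
    obtain ⟨v, hv, rfl⟩ := hv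
    have h2 : ⁅⁅v, a ^ i⁆, a ^ i⁆ ∈ N := ha (commutator_mem_commutator
      (commutator_mem_commutator hv (zpow_mem_zpowers a i)) (zpow_mem_zpowers a i))
    have h3 : π ⁅⁅v, a ^ i⁆, a ^ i⁆ = 1 := (QuotientGroup.eq_one_iff _).mpr h2
    rw [map_commutatorElement, map_commutatorElement, map_zpow,
      commutatorElement_eq_one_iff_mul_comm] at h3
    exact h3.symm

/-- The minimal configuration is `p`-stable in the action sense. -/
theorem MinimalConfig.isActionPStable (h : MinimalConfig p G P) (hp2 : p ≠ 2) :
    IsActionPStable p G := by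
  refine ⟨fun V _ hV => h.isPStableOn hp2 V (CfsgLib.PLocal.isPGroup_of_isElementaryAbelian hV),
    h.isPStableOnSection hp2, fun S V _ hV => ?_⟩
  let U : Subgroup G := normalizer (thompsonSubgroupOf p (S : Subgroup G) : Set G)
  change V.map U.subtype ≤ _ at hV
  have hSU : (S : Subgroup G) ≤ U :=
    le_normalizer.trans (normalizer_le_normalizer_thompsonSubgroupOf _)
  by_cases hU : U = ⊤
  · have hWn : (V.map U.subtype).Normal :=
      (inferInstance : V.Normal).map U.subtype fun g => ⟨⟨g, show g ∈ U from hU ▸ mem_top g⟩, rfl⟩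
    have hWp : IsPGroup p (V.map U.subtype) :=
      S.2.to_le (hV.trans (map_subtype_le _))
    intro a ha
    have h1 := h.isPStableOn hp2 _ hWp (a : G) (by
      rw [← map_subtype_zpowers_aux a, ← Subgroup.map_commutator, ← Subgroup.map_commutator, ha,
        Subgroup.map_bot])
    let φ : G →* U := (MonoidHom.id G).codRestrict U fun g => hU ▸ mem_top g
    have hφ : Function.Surjective φ := fun x => ⟨x, Subtype.ext rfl⟩
    let ψ : G ⧸ centralizer ((V.map U.subtype : Subgroup G) : Set G) →* U ⧸ centralizer (V : Set U) :=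
      QuotientGroup.map _ _ φ fun g hg => mem_centralizer_iff.mpr fun v hv =>
        Subtype.ext (mem_centralizer_iff.mp hg _ (mem_map_of_mem U.subtype hv))
    have hψ : Function.Surjective ψ := by
      intro x
      obtain ⟨y, rfl⟩ := QuotientGroup.mk'_surjective _ x
      exact ⟨QuotientGroup.mk (y : G), rfl⟩
    exact CfsgLib.Base.map_pCore_le ψ hψ (mem_map_of_mem ψ h1)
  · obtain ⟨g, hg⟩ := MulAction.exists_smul_eq G S P
    have hPU : (P : Subgroup G) ≤ U.map (MulAut.conj g).toMonoidHom := by
      rw [← hg, Sylow.coe_subgroup_smul]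
      exact map_mono hSU
    have hUp : IsPGroup p U := by
      have h1 := h.maximal _ hPU fun he => hU (map_injective (MulAut.conj g).injective (by
        rw [he, Subgroup.map_top_of_surjective _ (MulAut.conj g).surjective]))
      exact (h1 ▸ P.2 : IsPGroup p (U.map (MulAut.conj g).toMonoidHom)).of_equiv
        (U.equivMapOfInjective _ (MulAut.conj g).injective).symm
    intro a _
    rw [CfsgLib.Base.pCore_eq_top_iff.mpr (hUp.to_quotient _)]
    exact mem_top _
where
  map_subtype_zpowers_aux {U : Subgroup G} (a : U) : (zpowers a).map U.subtype = zpowers (a : G) := by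
    rw [MonoidHom.map_zpowers]
    rfl

/-- **Normal `p`-complement theorem with `W(S)`**. -/
theorem hasNormalPComplement_of_stableClosure (hp2 : p ≠ 2) (S : Sylow p G)
    (hN : HasNormalPComplement p (normalizer (stableClosureOf p (S : Subgroup G) : Set G))) :
    HasNormalPComplement p G := by
  refine hasNormalPComplement_of_localCondition localCondition_stable
    (fun K _ _ Q hm hcd => hm.not_comp ?_) S hN
  have hn : (stableClosureOf p (Q : Subgroup K)).Normal :=
    CfsgLib.PLocal.stableNormalClosure_normal (hm.isActionPStable hp2) hm.centralizer_le Q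
  unfold StableCond at hcd
  rw [normalizer_eq_top_iff.mpr hn] at hcd
  exact (hasNormalPComplement_congr topEquiv).mp hcd

end CfsgLib.Transfer
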