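import Cfsg.Prelude.Def_TwoFusion
import Cfsg.Agent.Lib.Transfer.Alperin
import Cfsg.Agent.Lib.Transfer.NormalPComplement
import Cfsg.Agent.Lib.PLocal.Frattini

/-!
# Normal `p`-complements detected at a strongly closed subgroup
-/

set_option autoImplicit false

open Subgroup
open scoped Pointwise

namespace CfsgLib.Transfer.ClosedComplement

variable {G : Type*} [Group G] [Finite G] {p : ℕ} [hp : Fact p.Prime]

/-- A normal `p`-subgroup of a group with a normal `p`-complement is centralized by `p'`-elements. -/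
theorem centralizes {H : Subgroup G} (h : Cfsg.HasNormalPComplement p H) {Q : Subgroup G}
    (hQ : IsPGroup p Q) (hQH : Q ≤ H) {g : G} (hgH : g ∈ H) (hgN : g ∈ normalizer (Q : Set G))
    (hg : Nat.Coprime (orderOf g) p) : g ∈ centralizer (Q : Set G) := by
  obtain ⟨T, hT⟩ := (hQ.comap_subtype (K := H)).exists_le_sylow
  have hg' : Nat.Coprime (orderOf (⟨g, hgH⟩ : H)) p := by rwa [← Subgroup.orderOf_coe]
  have hN : (⟨g, hgH⟩ : H) ∈ normalizer ((Q.subgroupOf H : Subgroup H) : Set H) := by
    rw [mem_normalizer_iff]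
    intro x
    exact mem_normalizer_iff.mp hgN x
  have h1 := (hasNormalPComplement_iff_forall_centralizing T).mp h _ hT _ hN hg'
  rw [mem_centralizer_iff]
  intro q hq
  exact congrArg Subtype.val (mem_centralizer_iff.mp h1 ⟨q, hQH hq⟩ hq)

theorem powers_stabilize {Q U : Subgroup G} {y : G} (hU : ∀ u ∈ U, u * y = y * u)
    (hQ : ∀ q ∈ Q, q⁻¹ * (y * q * y⁻¹) ∈ U) {q : G} (hq : q ∈ Q) :
    ∀ k : ℕ, y ^ k * q * (y ^ k)⁻¹ = q * (q⁻¹ * (y * q * y⁻¹)) ^ k := by
  intro k
  induction k with
  | zero => simp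
  | succ k ih =>
    set u := q⁻¹ * (y * q * y⁻¹) with hu
    have hc : Commute y (u ^ k) := (show Commute y u from (hU u (hQ q hq)).symm).pow_right k
    calc y ^ (k + 1) * q * (y ^ (k + 1))⁻¹ = y * (y ^ k * q * (y ^ k)⁻¹) * y⁻¹ := by
          rw [pow_succ']; group
      _ = y * q * (u ^ k * y⁻¹) := by rw [ih]; group
      _ = y * q * (y⁻¹ * u ^ k) := by rw [(hc.inv_left).eq]
      _ = q * u ^ (k + 1) := by
          rw [pow_succ' u k, show q * (u * u ^ k) = q * u * u ^ k from (mul_assoc _ _ _).symm,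
            show q * u = y * q * y⁻¹ by rw [hu]; group, ← mul_assoc]

variable (S : Sylow p G) {D : Subgroup G}

theorem centralizes_aux (hD : Cfsg.IsStronglyClosed D (S : Subgroup G))
    (hloc : ∀ U : Subgroup G, U ≤ D → D ⊓ centralizer (U : Set G) ≤ U →
      Cfsg.HasNormalPComplement p ↥(normalizer (U : Set G))) :
    ∀ (n : ℕ) (Q : Subgroup G), Nat.card G - Nat.card Q < n → Q ≤ (S : Subgroup G) →
      ∀ g ∈ normalizer (Q : Set G), Nat.Coprime (orderOf g) p → g ∈ centralizer (Q : Set G) := by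
  intro n
  induction n with
  | zero => intro Q h; omega
  | succ n ih =>
    intro Q₀ hn hQ₀ g₀ hg₀ hcop₀
    -- move `Q₀` to a tame position
    obtain ⟨h, htame, hQS⟩ : ∃ h : G,
        (¬ p ∣ ((S : Subgroup G) ⊓ normalizer ((Q₀.map (MulAut.conj h).toMonoidHom : Subgroup G) : Set G)).relIndex
          (normalizer ((Q₀.map (MulAut.conj h).toMonoidHom : Subgroup G) : Set G))) ∧
        Q₀.map (MulAut.conj h).toMonoidHom ≤ (S : Subgroup G) := by
      set N₀ := normalizer (Q₀ : Set G)
      obtain ⟨T, hT⟩ := ((S.2.to_le hQ₀).comap_subtype (K := N₀)).exists_le_sylow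
      obtain ⟨T', hT'⟩ := (T.2.map N₀.subtype).exists_le_sylow
      obtain ⟨h, hh⟩ := MulAction.exists_smul_eq G T' S
      have hc : (T' : Subgroup G).map (MulAut.conj h).toMonoidHom = (S : Subgroup G) := by
        rw [← hh, Sylow.coe_subgroup_smul]
        rfl
      refine ⟨h, ?_, ?_⟩
      · rw [← map_equiv_normalizer_eq Q₀ (MulAut.conj h), ← hc]
        rw [show (T' : Subgroup G).map (MulAut.conj h).toMonoidHom ⊓ N₀.map (MulAut.conj h).toMonoidHom
            = ((T' : Subgroup G) ⊓ N₀).map (MulAut.conj h).toMonoidHom from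
          (map_inf _ _ _ (MulAut.conj h).injective).symm,
          relIndex_map_map_of_injective _ _ (MulAut.conj h).injective]
        intro hd
        refine T.not_dvd_index (hd.trans ?_)
        have h1 : ((T : Subgroup N₀).map N₀.subtype).relIndex N₀ = (T : Subgroup N₀).index := by
          rw [relIndex, subgroupOf, comap_map_eq_self_of_injective N₀.subtype_injective]
        rw [← h1]
        exact relIndex_dvd_of_le_left N₀ (le_inf hT' (map_subtype_le _))
      · rw [← hc]
        refine map_mono fun q hq => hT' ⟨⟨q, le_normalizer hq⟩, hT ?_, rfl⟩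
        exact hq
    set Q := Q₀.map (MulAut.conj h).toMonoidHom with hQdef
    suffices hg : ∀ g ∈ normalizer (Q : Set G), Nat.Coprime (orderOf g) p →
        g ∈ centralizer (Q : Set G) by
      have h1 : MulAut.conj h g₀ ∈ normalizer (Q : Set G) := by
        rw [hQdef, ← map_equiv_normalizer_eq Q₀ (MulAut.conj h)]
        exact mem_map_of_mem _ hg₀
      have h2 := hg _ h1 (by rwa [MulEquiv.orderOf_eq])
      rw [mem_centralizer_iff]
      intro q hq
      refine (MulAut.conj h).injective ?_
      rw [map_mul, map_mul]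
      exact mem_centralizer_iff.mp h2 _ (mem_map_of_mem _ hq)
    clear! g₀
    have hnQ : Nat.card Q = Nat.card Q₀ := by
      rw [hQdef, card_map_of_injective (MulAut.conj h).injective]
    rw [← hnQ] at hn
    clear_value Q
    set N := normalizer (Q : Set G) with hN
    intro g hgN hcop
    set U := Q ⊓ D with hU
    have hNU : N ≤ normalizer (U : Set G) := by
      intro m hm
      refine mem_normalizer_fintype fun u hu => ⟨(mem_normalizer_iff.mp hm u).mp hu.1, ?_⟩
      exact hD.2 u hu.2 m (hQS ((mem_normalizer_iff.mp hm u).mp hu.1))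
    by_cases hcen : D ⊓ centralizer (U : Set G) ≤ U
    · exact centralizes (hloc U inf_le_right hcen) (S.2.to_le hQS)
        (le_normalizer.trans hNU) (hNU hgN) hgN hcop
    -- an element of `C_D(U)` outside `Q` normalizing it
    set R₀ := D ⊓ centralizer (U : Set G) with hR₀
    have hQR₀ : Q ≤ normalizer (R₀ : Set G) := by
      intro q hq
      refine mem_normalizer_fintype fun x hx => ⟨?_, ?_⟩
      · exact hD.2 x hx.1 q (mul_mem (mul_mem (hQS hq) (hD.1 hx.1)) (inv_mem (hQS hq)))
      · show q * x * q⁻¹ ∈ centralizer (U : Set G)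
        rw [mem_centralizer_iff]
        intro u hu
        have h1 := mem_centralizer_iff.mp hx.2 _
          ((mem_normalizer_iff''.mp (hNU (le_normalizer hq)) u).mp hu)
        calc u * (q * x * q⁻¹) = q * (q⁻¹ * u * q * x) * q⁻¹ := by group
          _ = q * (x * (q⁻¹ * u * q)) * q⁻¹ := by rw [h1]
          _ = _ := by group
    have hlt : Q < R₀ ⊔ Q := right_lt_sup.mpr fun hle =>
      hcen fun x hx => ⟨hle hx, hx.1⟩
    have hlt' := lt_inf_normalizer (S.2.to_le (sup_le (inf_le_left.trans hD.1) hQS)) hlt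
    obtain ⟨r, ⟨hrsup, hrN⟩, hrQ⟩ := SetLike.exists_of_lt hlt'
    change r ∈ ((R₀ ⊔ Q : Subgroup G) : Set G) at hrsup
    change r ∈ N at hrN
    rw [coe_mul_of_right_le_normalizer_left R₀ Q hQR₀] at hrsup
    obtain ⟨d, hd, q₁, hq₁, rfl⟩ := hrsup
    have hdQ : d ∉ Q := fun hdQ => hrQ (mul_mem hdQ hq₁)
    have hdN : d ∈ N := by
      have : d = d * q₁ * q₁⁻¹ := by group
      rw [this]
      exact mul_mem hrN (inv_mem (le_normalizer hq₁))
    -- elements centralizing `U` and `Q ⧸ U`
    let Y : Subgroup N :=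
      { carrier := {y | (y : G) ∈ centralizer (U : Set G) ∧
          ∀ q ∈ Q, q⁻¹ * ((y : G) * q * (y : G)⁻¹) ∈ U}
        one_mem' := ⟨one_mem _, fun q _ => by simp [mul_assoc]⟩
        mul_mem' := by
          rintro a b ⟨ha, ha'⟩ ⟨hb, hb'⟩
          refine ⟨mul_mem ha hb, fun q hq => ?_⟩
          have hbq := hb' q hq
          have h1 : (a : G) * (q⁻¹ * ((b : G) * q * (b : G)⁻¹)) =
              q⁻¹ * ((b : G) * q * (b : G)⁻¹) * a := (mem_centralizer_iff.mp ha _ hbq).symm
          have e : ((a * b : N) : G) * q * ((a * b : N) : G)⁻¹ =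
              (a : G) * q * (a : G)⁻¹ * (q⁻¹ * ((b : G) * q * (b : G)⁻¹)) := by
            calc ((a * b : N) : G) * q * ((a * b : N) : G)⁻¹
                = (a : G) * q * (q⁻¹ * ((b : G) * q * (b : G)⁻¹)) * (a : G)⁻¹ := by
                  rw [Subgroup.coe_mul]; group
              _ = (a : G) * q * ((a : G)⁻¹ * ((a : G) * (q⁻¹ * ((b : G) * q * (b : G)⁻¹)))) * (a : G)⁻¹ := by
                  group
              _ = _ := by rw [h1]; group
          rw [e, ← mul_assoc]
          exact mul_mem (ha' q hq) hbq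
        inv_mem' := by
          rintro a ⟨ha, ha'⟩
          refine ⟨inv_mem ha, fun q hq => ?_⟩
          set q' := (a : G)⁻¹ * q * a with hq'
          have hq'Q : q' ∈ Q := (mem_normalizer_iff''.mp a.2 q).mp hq
          have h1 := inv_mem (ha' q' hq'Q)
          have h2 := mem_centralizer_iff.mp ha _ h1
          have e : (q'⁻¹ * ((a : G) * q' * (a : G)⁻¹))⁻¹ = q⁻¹ * q' := by rw [hq']; group
          rw [InvMemClass.coe_inv, inv_inv, ← hq', ← e]
          exact h1 }
    haveI hYn : Y.Normal := by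
      refine ⟨fun y hy m => ⟨?_, fun q hq => ?_⟩⟩
      · rw [mem_centralizer_iff]
        intro u hu
        have h1 := mem_centralizer_iff.mp hy.1 _ ((mem_normalizer_iff''.mp (hNU m.2) u).mp hu)
        simp only [Subgroup.coe_mul, InvMemClass.coe_inv]
        calc u * ((m : G) * y * (m : G)⁻¹) = m * ((m : G)⁻¹ * u * m * y) * (m : G)⁻¹ := by group
          _ = m * ((y : G) * ((m : G)⁻¹ * u * m)) * (m : G)⁻¹ := by rw [h1]
          _ = _ := by group
      · have h1 := (mem_normalizer_iff.mp (hNU m.2) _).mp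
          (hy.2 _ ((mem_normalizer_iff''.mp m.2 q).mp hq))
        simp only [Subgroup.coe_mul, InvMemClass.coe_inv]
        convert h1 using 1
        group
    let T : Sylow p N :=
      ((S.2.to_le (inf_le_left : (S : Subgroup G) ⊓ N ≤ _)).comap_subtype (K := N)).toSylow htame
    set W : Subgroup N := (T : Subgroup N) ⊓ Y with hW
    have hdW : (⟨d, hdN⟩ : N) ∈ W := by
      refine ⟨⟨hD.1 hd.1, hdN⟩, hd.2, fun q hq => ⟨?_, ?_⟩⟩
      · show _ ∈ Q
        exact mul_mem (Q.inv_mem hq) ((mem_normalizer_iff.mp hdN q).mp hq)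
      · have hdq : q⁻¹ * d * q ∈ D := by
          have := hD.2 d hd.1 q⁻¹
          simp only [inv_inv] at this
          exact this (mul_mem (mul_mem (inv_mem (hQS hq)) (hD.1 hd.1)) (hQS hq))
        show _ ∈ D
        rw [show q⁻¹ * (d * q * d⁻¹) = q⁻¹ * d * q * d⁻¹ by group]
        exact mul_mem hdq (D.inv_mem hd.1)
    set E := W.map N.subtype ⊔ Q with hE
    have hES : E ≤ (S : Subgroup G) :=
      sup_le (map_le_iff_le_comap.mpr fun w hw => hw.1.1) hQS
    have hQE : Q < E := right_lt_sup.mpr fun hle => hdQ (hle ⟨_, hdW, rfl⟩)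
    have hcard : Nat.card G - Nat.card E < n := by
      have := card_lt_card_of_lt hQE
      have := card_le_card_group E
      omega
    -- Frattini
    obtain ⟨y, hy, m, hm, hgm⟩ := CfsgLib.PLocal.exists_mul_normalizer T Y ⟨g, hgN⟩
    obtain ⟨a, haz, b, hbz, hab, hap, hbp⟩ := exists_pPart_mul (p := p) m
    have hmE : (m : G) ∈ normalizer (E : Set G) := by
      rw [mem_normalizer_iff_map_conj_eq]
      show E.map (MulAut.conj (m : G)).toMonoidHom = E
      have e : (W.map N.subtype).map (MulAut.conj (m : G)).toMonoidHom = W.map N.subtype := by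
        rw [map_map, show (MulAut.conj (m : G)).toMonoidHom.comp N.subtype =
          N.subtype.comp (MulAut.conj m).toMonoidHom from MonoidHom.ext fun _ => rfl, ← map_map]
        exact congrArg (Subgroup.map N.subtype) (mem_normalizer_iff_map_conj_eq.mp hm)
      rw [hE, Subgroup.map_sup, e]
      exact congrArg (W.map N.subtype ⊔ ·) (mem_normalizer_iff_map_conj_eq.mp m.2)
    have hbE : (b : G) ∈ normalizer (E : Set G) := by
      obtain ⟨i, rfl⟩ := mem_zpowers_iff.mp hbz
      rw [SubgroupClass.coe_zpow]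
      exact zpow_mem hmE i
    have hbC : (b : G) ∈ centralizer (Q : Set G) :=
      centralizer_le hQE.le (ih E hcard hES _ hbE (by rwa [Subgroup.orderOf_coe]))
    let θ : N →* MulAut Q := Q.normalizerMonoidHom
    have hker : ∀ x : N, θ x = 1 ↔ (x : G) ∈ centralizer (Q : Set G) := fun x => by
      rw [← MonoidHom.mem_ker, normalizerMonoidHom_ker, mem_subgroupOf]
    -- the action of `Y` is a `p`-group, generated by `W`
    let f : Y →* MulAut Q := θ.comp Y.subtype
    have hrange : IsPGroup p f.range := by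
      obtain ⟨k, hk⟩ := IsPGroup.iff_card.mp (S.2.to_le (inf_le_left.trans hQS : U ≤ S))
      rintro ⟨_, v, rfl⟩
      refine ⟨k, Subtype.ext ?_⟩
      show (f v) ^ p ^ k = 1
      rw [← map_pow]
      refine (hker _).mpr ?_
      rw [mem_centralizer_iff]
      intro q hq
      have h1 := powers_stabilize (U := U) (Q := Q) (y := ((v : N) : G))
        (fun u hu => mem_centralizer_iff.mp v.2.1 u hu) v.2.2 hq (p ^ k)
      have h2 : (q⁻¹ * (((v : N) : G) * q * ((v : N) : G)⁻¹)) ^ p ^ k = 1 :=
        orderOf_dvd_iff_pow_eq_one.mp (hk ▸ Subgroup.orderOf_dvd_natCard U (v.2.2 q hq))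
      rw [h2, mul_one, mul_inv_eq_iff_eq_mul] at h1
      exact h1.symm
    have hWf : W.map θ = Y.map θ := by
      have h1 : ((W.subgroupOf Y).map f.rangeRestrict).index ∣ W.relIndex Y :=
        index_map_dvd _ f.rangeRestrict_surjective
      obtain ⟨j, hj⟩ := IsPGroup.iff_card.mp hrange
      obtain ⟨i, -, hi⟩ := (Nat.dvd_prime_pow hp.out).mp
        (hj ▸ index_dvd_card ((W.subgroupOf Y).map f.rangeRestrict))
      have hi0 : i = 0 := by
        by_contra h0
        exact CfsgLib.PLocal.not_dvd_relIndex_sylow_inf T Y ((dvd_pow_self p h0).trans (hi ▸ h1))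
      rw [hi0, pow_zero, index_eq_one] at hi
      refine le_antisymm (map_mono inf_le_right) ?_
      rintro _ ⟨v, hv, rfl⟩
      obtain ⟨w, hw, hwv⟩ := hi.ge (mem_top (f.rangeRestrict ⟨v, hv⟩))
      exact ⟨w, hw, congrArg Subtype.val hwv⟩
    refine (hker ⟨g, hgN⟩).mp ?_
    have hgX : θ ⟨g, hgN⟩ ∈ W.map θ ⊔ zpowers (θ a) := by
      have hy' : θ y ∈ W.map θ := hWf ▸ mem_map_of_mem θ hy
      rw [hgm, map_mul, ← hab, map_mul, (hker b).mpr hbC, mul_one]
      exact mul_mem (mem_sup_left hy') (mem_sup_right (mem_zpowers _))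
    have hX : IsPGroup p (W.map θ ⊔ zpowers (θ a) : Subgroup (MulAut Q)) := by
      refine IsPGroup.to_sup_of_normal_left' ((T.2.to_le inf_le_left).map θ) ?_ ?_
      · obtain ⟨k, hk⟩ := hap
        obtain ⟨i, -, hi⟩ := (Nat.dvd_prime_pow hp.out).mp ((orderOf_map_dvd θ a).trans hk)
        exact IsPGroup.of_card (n := i) ((Nat.card_zpowers _).trans hi)
      · rw [zpowers_le]
        refine le_normalizer_map θ ?_
        refine mem_map_of_mem θ ?_
        obtain ⟨i, rfl⟩ := mem_zpowers_iff.mp haz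
        exact zpow_mem hm i
    have h1 : (⟨θ ⟨g, hgN⟩, hgX⟩ : (W.map θ ⊔ zpowers (θ a) : Subgroup (MulAut Q))) = 1 := by
      refine eq_one_of_coprime_orderOf hX ?_
      rw [← Subgroup.orderOf_coe]
      exact Nat.Coprime.coprime_dvd_left (orderOf_map_dvd θ _) (by rwa [← Subgroup.orderOf_coe])
    exact congrArg Subtype.val h1

theorem hasNormalPComplement_iff (hD : Cfsg.IsStronglyClosed D (S : Subgroup G)) :
    Cfsg.HasNormalPComplement p G ↔ ∀ U : Subgroup G, U ≤ D → D ⊓ centralizer (U : Set G) ≤ U →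
      Cfsg.HasNormalPComplement p ↥(normalizer (U : Set G)) :=
  ⟨fun h U _ _ => hasNormalPComplement_subgroup h _, fun hloc =>
    (hasNormalPComplement_iff_forall_centralizing S).mpr fun Q hQ =>
      centralizes_aux S hD hloc _ Q (Nat.lt_succ_self _) hQ⟩

end CfsgLib.Transfer.ClosedComplement
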